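import Groth.Agent.ModSite.K292.FT

/-!
# Cokernels of maps from finite type to finitely presented modules on a ringed space
-/

set_option autoImplicit false

universe u

open CategoryTheory CategoryTheory.Limits Opposite TopologicalSpace

namespace K292.FP

open Groth.Agent.Gaga.H976.TM3 K292.Sp K292.Germ K292.FT

variable {X : TopCat.{u}} {R : Sheaf (Opens.grothendieckTopology X) RingCat.{u}}

set_option maxHeartbeats 1000000 in
theorem isFinitePresentation_cokernel {G F : SheafOfModules.{u} R} (φ : G ⟶ F)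
    (hG : G.IsFiniteType) (hF : F.IsFinitePresentation) : (cokernel φ).IsFinitePresentation := by
  refine (isFinitePresentation_iff _).2 fun x => ?_
  obtain ⟨W₀, hx₀, n, m, s, r, hs, hr⟩ := (isFinitePresentation_iff F).1 hF x
  obtain ⟨W₁, hx₁, p, g, hg⟩ := (isFiniteType_iff G).1 hG x
  obtain ⟨W₃, h₃, hx₃, a, ha⟩ := exists_coords (fun i => rs F (inf_le_left : W₀ ⊓ W₁ ≤ W₀) (s i))
    (lgen_mono hs _) (fun j => ap φ _ (rs G (inf_le_right : W₀ ⊓ W₁ ≤ W₁) (g j))) x ⟨hx₀, hx₁⟩
  have h31 : W₃ ≤ W₁ := h₃.trans inf_le_right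
  have h30 : W₃ ≤ W₀ := h₃.trans inf_le_left
  let s' : Fin n → F.val.obj (op W₃) := fun i => rs F h30 (s i)
  let g' : Fin p → G.val.obj (op W₃) := fun j => rs G h31 (g j)
  let r' : Fin m → Fin n → R.obj.obj (op W₃) := fun k i => rr h30 (r k i)
  have hs' : LGen F W₃ s' := lgen_mono hs h30
  have hr' : LRel F W₃ s' r' := lrel_mono hr h30
  have hg' : LGen G W₃ g' := lgen_mono hg h31
  have ha' : ∀ j, ap φ W₃ (g' j) = ∑ i, a j i • s' i := fun j => by
    have := ha j
    simp only [ap_rs, rs_rs] at this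
    simpa only [g', ap_rs] using this
  let π := cokernel.π φ
  have hπφ : ∀ (V : Opens X) (b : G.val.obj (op V)), ap π V (ap φ V b) = 0 := fun V b => by
    rw [← ap_comp, cokernel.condition, ap_zero]
  refine ⟨W₃, hx₃, n, m + p, fun i => ap π W₃ (s' i), Fin.append r' a, ?_, ?_, ?_⟩
  · intro V hV z y hy
    obtain ⟨V₁, h₁, hy₁, b, hb⟩ := (epi_iff_loc π).1 inferInstance V z y hy
    obtain ⟨V₂, h₂, hy₂, c, hc⟩ := hs' V₁ (h₁.trans hV) b y hy₁
    refine ⟨V₂, h₂.trans h₁, hy₂, c, ?_⟩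
    rw [← rs_rs _ h₁ h₂, ← hb, ← ap_rs, hc, map_sum]
    exact Finset.sum_congr rfl fun j _ => by rw [map_smul, ap_rs]
  · intro k
    refine Fin.addCases (fun k => ?_) (fun k => ?_) k
    · simp only [Fin.append_left]
      rw [← map_zero (ap π W₃), ← hr'.1 k, map_sum]
      exact Finset.sum_congr rfl fun j _ => by rw [map_smul]
    · simp only [Fin.append_right]
      rw [← hπφ W₃ (g' k), ha' k, map_sum]
      exact Finset.sum_congr rfl fun j _ => by rw [map_smul]
  · intro V hV c hc y hy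
    have h0 : ap π V (∑ i, c i • rs F hV (s' i)) = 0 := by
      rw [map_sum, ← hc]
      exact Finset.sum_congr rfl fun j _ => by rw [map_smul, ap_rs]
    obtain ⟨V₁, h₁, hy₁, b, hb⟩ := coker_loc φ _ h0 y hy
    obtain ⟨V₂, h₂, hy₂, e, he⟩ := hg' V₁ (h₁.trans hV) b y hy₁
    have hle : V₂ ≤ W₃ := (h₂.trans h₁).trans hV
    have h4 : ∑ i, (rr (h₂.trans h₁) (c i) - ∑ j, e j * rr hle (a j i)) • rs F hle (s' i) = 0 := by
      simp only [sub_smul, Finset.sum_sub_distrib, sub_eq_zero]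
      have e1 : rs F h₂ (ap φ V₁ b) = ∑ i, rr (h₂.trans h₁) (c i) • rs F hle (s' i) := by
        rw [hb, rs_rs, rs_sum]
        exact Finset.sum_congr rfl fun j _ => by rw [rs_smul, rs_rs]
      rw [← e1, ← ap_rs, he, map_sum]
      simp only [Finset.sum_smul]
      rw [Finset.sum_comm]
      refine Finset.sum_congr rfl fun j _ => ?_
      rw [map_smul, ap_rs, ha' j, rs_sum, Finset.smul_sum]
      exact Finset.sum_congr rfl fun i _ => by rw [rs_smul, mul_smul]
    obtain ⟨V₃, h₃', hy₃, d, hd⟩ := hr'.2 V₂ hle _ h4 y hy₂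
    refine ⟨V₃, h₃'.trans (h₂.trans h₁), hy₃, Fin.append d (fun j => rr h₃' (e j)), fun i => ?_⟩
    rw [Fin.sum_univ_add]
    simp only [Fin.append_left, Fin.append_right]
    rw [← hd i, map_sub, map_sum, rr_rr]
    simp only [map_mul, rr_rr, sub_add_cancel]

end K292.FP
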