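import Groth.Agent.ModSite.K292.Germ

/-!
# Finite type and finite presentation on a ringed space
-/

set_option autoImplicit false

universe u

open CategoryTheory CategoryTheory.Limits Opposite TopologicalSpace

namespace K292.FT

open Groth.Agent.Gaga.H976.TM3 K292.Sp K292.Germ

variable {X : TopCat.{u}}

theorem exists_epi_restr (O : Sheaf (Opens.grothendieckTopology X) CommRingCat.{u})
    {G F : ModSite.Mod O} (φ : G ⟶ F) (hF : SheafOfModules.IsFiniteType (R := ModSite.ringSh O) F) (x : X)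
    (hx : Function.Surjective (ModSite.stalkMap (Opens.pointGrothendieckTopology x) φ).hom) :
    ∃ U : Opens X, x ∈ U ∧ Epi ((ModSite.restr O U).map φ) := by
  obtain ⟨W, hxW, n, s, hs⟩ := (isFiniteType_iff F).1 hF x
  have key : ∀ i : Fin n, ∃ (V : Opens X) (h : V ≤ W) (_ : x ∈ V) (t : G.val.obj (Opposite.op V)),
      ap φ V t = rs F h (s i) := by
    intro i
    obtain ⟨a, ha⟩ := hx (ge F x hxW (s i))
    obtain ⟨V, hV, t, rfl⟩ := exists_ge G x a
    rw [stalkMap_ge] at ha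
    have h1 : (V ⊓ W : Opens X) ≤ V := inf_le_left
    have h2 : (V ⊓ W : Opens X) ≤ W := inf_le_right
    have hxVW : x ∈ (V ⊓ W : Opens X) := ⟨hV, hxW⟩
    have h3 : ge F x hxVW (rs F h1 (ap φ V t)) = ge F x hxVW (rs F h2 (s i)) := by
      rw [ge_rs, ge_rs, ha]
    obtain ⟨V', h', hxV', e⟩ := (ge_eq_iff F x hxVW _ _).1 h3
    refine ⟨V', h'.trans h2, hxV', rs G (h'.trans h1) t, ?_⟩
    rw [ap_rs, ← rs_rs F h1 h', e, rs_rs]
  choose V hV hxV t ht using key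
  obtain ⟨U, hxU, hU⟩ := exists_common x V hxV
  refine ⟨U ⊓ W, ⟨hxU, hxW⟩, (epi_restr_iff φ _).2 fun V' hV' a y hy => ?_⟩
  obtain ⟨V'', h'', hy'', c, hc⟩ := hs V' (hV'.trans inf_le_right) a y hy
  have hle : ∀ j, V'' ≤ V j := fun j => (h''.trans hV').trans (inf_le_left.trans (hU j))
  refine ⟨V'', h'', hy'', ∑ j, c j • rs G (hle j) (t j), ?_⟩
  rw [hc, map_sum]
  refine Finset.sum_congr rfl fun j _ => ?_
  rw [map_smul, ap_rs, ht, rs_rs]

variable {R : Sheaf (Opens.grothendieckTopology X) RingCat.{u}}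

theorem isFiniteType_of_shortExact (S : ShortComplex (SheafOfModules.{u} R)) (hS : S.ShortExact)
    (h1 : S.X₁.IsFiniteType) (h3 : S.X₃.IsFiniteType) : S.X₂.IsFiniteType := by
  refine (isFiniteType_iff S.X₂).2 fun x => ?_
  obtain ⟨W₁, hx₁, n, s, hs⟩ := (isFiniteType_iff S.X₁).1 h1 x
  obtain ⟨W₃, hx₃, m, t, ht⟩ := (isFiniteType_iff S.X₃).1 h3 x
  have hep := (epi_iff_loc S.g).1 hS.epi_g
  have key : ∀ i : Fin m, ∃ (V : Opens X) (h : V ≤ W₃) (_ : x ∈ V)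
      (b : S.X₂.val.obj (Opposite.op V)), ap S.g V b = rs S.X₃ h (t i) := by
    intro i
    obtain ⟨V, h, hxV, b, hb⟩ := hep W₃ (t i) x hx₃
    exact ⟨V, h, hxV, b, hb⟩
  choose V hV hxV b hb using key
  obtain ⟨U, hxU, hU⟩ := exists_common x V hxV
  let W : Opens X := U ⊓ (W₁ ⊓ W₃)
  have hW₁ : W ≤ W₁ := inf_le_right.trans inf_le_left
  have hW₃ : W ≤ W₃ := inf_le_right.trans inf_le_right
  have hWV : ∀ j, W ≤ V j := fun j => inf_le_left.trans (hU j)
  refine ⟨W, ⟨hxU, hx₁, hx₃⟩, n + m, Fin.append (fun i => ap S.f W (rs S.X₁ hW₁ (s i)))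
    (fun j => rs S.X₂ (hWV j) (b j)), ?_⟩
  intro V' hV' a y hy
  obtain ⟨V₁, h₁, hy₁, c, hc⟩ := ht V' (hV'.trans hW₃) (ap S.g V' a) y hy
  have hd : ap S.g V₁ (rs S.X₂ h₁ a - ∑ j, c j • rs S.X₂ ((h₁.trans hV').trans (hWV j)) (b j)) = 0 := by
    rw [map_sub, map_sum, ap_rs, hc, sub_eq_zero]
    refine Finset.sum_congr rfl fun j _ => ?_
    rw [map_smul, ap_rs, hb, rs_rs]
  obtain ⟨V₂, h₂, hy₂, d, hd'⟩ := exact_loc hS.exact _ hd y hy₁
  obtain ⟨V₃, h₃, hy₃, e, he⟩ := hs V₂ (h₂.trans (h₁.trans (hV'.trans hW₁))) d y hy₂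
  refine ⟨V₃, h₃.trans (h₂.trans h₁), hy₃, Fin.append e (fun j => rr (h₃.trans h₂) (c j)), ?_⟩
  rw [Fin.sum_univ_add]
  simp only [Fin.append_left, Fin.append_right]
  have h4 : rs S.X₂ (h₃.trans h₂) (rs S.X₂ h₁ a) = ap S.f V₃ (rs S.X₁ h₃ d) +
      ∑ j, rr (h₃.trans h₂) (c j) • rs S.X₂ ((h₃.trans h₂).trans ((h₁.trans hV').trans (hWV j))) (b j) := by
    have h5 : rs S.X₂ (h₃.trans h₂) (∑ j, c j • rs S.X₂ ((h₁.trans hV').trans (hWV j)) (b j)) =
        ∑ j, rr (h₃.trans h₂) (c j) • rs S.X₂ ((h₃.trans h₂).trans ((h₁.trans hV').trans (hWV j))) (b j) := by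
      rw [rs_sum]
      exact Finset.sum_congr rfl fun j _ => by rw [rs_smul, rs_rs]
    rw [ap_rs, hd', rs_rs S.X₂ h₂ h₃, map_sub (rs S.X₂ (h₃.trans h₂)), h5, sub_add_cancel]
  rw [← rs_rs S.X₂ h₁ (h₃.trans h₂), h4, he, map_sum]
  congr 1
  · refine Finset.sum_congr rfl fun j _ => ?_
    rw [map_smul, ap_rs, ap_rs, rs_rs]
  · refine Finset.sum_congr rfl fun j _ => ?_
    rw [rs_rs]

/-- Lifts of finitely many sections along an epimorphism near a point. -/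
theorem exists_lifts {M N : SheafOfModules.{u} R} (f : M ⟶ N) (hf : Epi f) {W : Opens X} {n : ℕ}
    (s : Fin n → N.val.obj (op W)) (x : X) (hx : x ∈ W) :
    ∃ (V : Opens X) (h : V ≤ W) (_ : x ∈ V) (t : Fin n → M.val.obj (op V)),
      ∀ i, ap f V (t i) = rs N h (s i) := by
  have hep := (epi_iff_loc f).1 hf
  have key : ∀ i : Fin n, ∃ (V : Opens X) (h : V ≤ W) (_ : x ∈ V)
      (b : M.val.obj (Opposite.op V)), ap f V b = rs N h (s i) := by
    intro i
    obtain ⟨V, h, hxV, b, hb⟩ := hep W (s i) x hx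
    exact ⟨V, h, hxV, b, hb⟩
  choose V hV hxV b hb using key
  obtain ⟨U, hxU, hU⟩ := exists_common x V hxV
  refine ⟨U ⊓ W, inf_le_right, ⟨hxU, hx⟩, fun i => rs M (inf_le_left.trans (hU i)) (b i), fun i => ?_⟩
  rw [ap_rs, hb, rs_rs]

/-- Coordinates of finitely many sections near a point. -/
theorem exists_coords {N : SheafOfModules.{u} R} {W : Opens X} {n p : ℕ}
    (s : Fin n → N.val.obj (op W)) (hs : LGen N W s) (t : Fin p → N.val.obj (op W)) (x : X)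
    (hx : x ∈ W) :
    ∃ (V : Opens X) (h : V ≤ W) (_ : x ∈ V) (a : Fin p → Fin n → R.obj.obj (op V)),
      ∀ j, rs N h (t j) = ∑ i, a j i • rs N h (s i) := by
  have key : ∀ j : Fin p, ∃ (V : Opens X) (h : V ≤ W) (_ : x ∈ V)
      (c : Fin n → R.obj.obj (op V)), rs N h (t j) = ∑ i, c i • rs N h (s i) := by
    intro j
    obtain ⟨V, h, hxV, b, hb⟩ := hs W le_rfl (t j) x hx
    exact ⟨V, h, hxV, b, hb⟩
  choose V hV hxV c hc using key
  obtain ⟨U, hxU, hU⟩ := exists_common x V hxV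
  refine ⟨U ⊓ W, inf_le_right, ⟨hxU, hx⟩, fun j i => rr (inf_le_left.trans (hU j)) (c j i),
    fun j => ?_⟩
  have h1 := congrArg (rs N ((inf_le_left.trans (hU j)) : U ⊓ W ≤ V j)) (hc j)
  rw [rs_rs, rs_sum] at h1
  rw [h1]
  exact Finset.sum_congr rfl fun i _ => by rw [rs_smul, rs_rs]

set_option maxHeartbeats 1000000 in
theorem isFiniteType_kernel {G F : SheafOfModules.{u} R} (θ : G ⟶ F) (hθ : Epi θ)
    (hG : G.IsFiniteType) (hF : F.IsFinitePresentation) : (kernel θ).IsFiniteType := by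
  refine (isFiniteType_iff _).2 fun x => ?_
  obtain ⟨W₀, hx₀, n, m, s, r, hs, hr⟩ := (isFinitePresentation_iff F).1 hF x
  obtain ⟨W₁, hx₁, p, g, hg⟩ := (isFiniteType_iff G).1 hG x
  obtain ⟨W₂, h₂, hx₂, σ, hσ⟩ := exists_lifts θ hθ s x hx₀
  obtain ⟨W₃, h₃, hx₃, a, ha⟩ := exists_coords (fun i => rs F ((inf_le_left : W₂ ⊓ W₁ ≤ W₂).trans h₂) (s i))
    (lgen_mono hs _) (fun j => ap θ _ (rs G (inf_le_right : W₂ ⊓ W₁ ≤ W₁) (g j))) x ⟨hx₂, hx₁⟩
  have h32 : W₃ ≤ W₂ := h₃.trans inf_le_left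
  have h31 : W₃ ≤ W₁ := h₃.trans inf_le_right
  have h30 : W₃ ≤ W₀ := h32.trans h₂
  -- everything over `W₃`
  let s' : Fin n → F.val.obj (op W₃) := fun i => rs F h30 (s i)
  let g' : Fin p → G.val.obj (op W₃) := fun j => rs G h31 (g j)
  let σ' : Fin n → G.val.obj (op W₃) := fun i => rs G h32 (σ i)
  let r' : Fin m → Fin n → R.obj.obj (op W₃) := fun k i => rr h30 (r k i)
  have hs' : LGen F W₃ s' := lgen_mono hs h30
  have hr' : LRel F W₃ s' r' := lrel_mono hr h30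
  have hg' : LGen G W₃ g' := lgen_mono hg h31
  have hσ' : ∀ i, ap θ W₃ (σ' i) = s' i := fun i => by
    simp only [σ', s']
    rw [ap_rs, hσ, rs_rs]
  have ha' : ∀ j, ap θ W₃ (g' j) = ∑ i, a j i • s' i := fun j => by
    have := ha j
    simp only [ap_rs, rs_rs] at this
    simpa only [g', ap_rs] using this
  have k1 : ∀ j, ∃ k : (kernel θ).val.obj (op W₃), ap (kernel.ι θ) W₃ k = g' j - ∑ i, a j i • σ' i := by
    intro j
    refine exists_ker θ _ ?_
    rw [map_sub, map_sum, ha' j, sub_eq_zero]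
    exact Finset.sum_congr rfl fun i _ => by rw [map_smul, hσ']
  have k2 : ∀ k, ∃ q : (kernel θ).val.obj (op W₃), ap (kernel.ι θ) W₃ q = ∑ i, r' k i • σ' i := by
    intro k
    refine exists_ker θ _ ?_
    rw [map_sum, ← hr'.1 k]
    exact Finset.sum_congr rfl fun i _ => by rw [map_smul, hσ']
  choose κ hκ using k1
  choose lam hlam using k2
  refine ⟨W₃, hx₃, p + m, Fin.append κ lam, ?_⟩
  intro V hV z y hy
  obtain ⟨V₁, h₁, hy₁, c, hc⟩ := hg' V hV (ap (kernel.ι θ) V z) y hy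
  -- the relation
  have hrel : ∑ i, (∑ j, c j * rr (h₁.trans hV) (a j i)) • rs F (h₁.trans hV) (s' i) = 0 := by
    have e1 : ap θ V₁ (rs G h₁ (ap (kernel.ι θ) V z)) = 0 := by
      rw [ap_rs, ap_kernel_condition, map_zero]
    rw [hc, map_sum] at e1
    refine Eq.trans ?_ e1
    simp only [Finset.sum_smul]
    rw [Finset.sum_comm]
    refine Finset.sum_congr rfl fun j _ => ?_
    rw [map_smul, ap_rs, ha' j, rs_sum, Finset.smul_sum]
    refine Finset.sum_congr rfl fun i _ => ?_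
    rw [rs_smul, mul_smul]
  obtain ⟨V₂, h₂', hy₂, d, hd⟩ := hr'.2 V₁ (h₁.trans hV) _ hrel y hy₁
  refine ⟨V₂, h₂'.trans h₁, hy₂, Fin.append (fun j => rr h₂' (c j)) d, ?_⟩
  have hle : V₂ ≤ W₃ := h₂'.trans (h₁.trans hV)
  apply kernel_inj θ
  rw [Fin.sum_univ_add, map_add, map_sum, map_sum]
  simp only [Fin.append_left, Fin.append_right, map_smul, ap_rs, hκ, hlam]
  have h5 : rs G (h₂'.trans h₁) (ap (kernel.ι θ) V z) = ∑ j, rr h₂' (c j) • rs G hle (g' j) := by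
    rw [← rs_rs G h₁ h₂', hc, rs_sum]
    exact Finset.sum_congr rfl fun j _ => by rw [rs_smul, rs_rs]
  have h6 : ∑ k, d k • rs G hle (∑ i, r' k i • σ' i) =
      ∑ i, rr h₂' (∑ j, c j * rr (h₁.trans hV) (a j i)) • rs G hle (σ' i) := by
    simp only [hd, rs_sum, Finset.smul_sum, Finset.sum_smul]
    rw [Finset.sum_comm]
    refine Finset.sum_congr rfl fun i _ => Finset.sum_congr rfl fun k _ => ?_
    rw [rs_smul, mul_smul]
  have h7 : ∑ j, rr h₂' (c j) • rs G hle (g' j - ∑ i, a j i • σ' i) =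
      ∑ j, rr h₂' (c j) • rs G hle (g' j) -
        ∑ i, rr h₂' (∑ j, c j * rr (h₁.trans hV) (a j i)) • rs G hle (σ' i) := by
    have e : ∑ i, rr h₂' (∑ j, c j * rr (h₁.trans hV) (a j i)) • rs G hle (σ' i) =
        ∑ j, rr h₂' (c j) • rs G hle (∑ i, a j i • σ' i) := by
      simp only [map_sum, Finset.sum_smul, Finset.smul_sum, map_mul, rr_rr]
      rw [Finset.sum_comm]
      refine Finset.sum_congr rfl fun j _ => Finset.sum_congr rfl fun i _ => ?_
      rw [rs_smul, mul_smul]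
    rw [e, ← Finset.sum_sub_distrib]
    exact Finset.sum_congr rfl fun j _ => by rw [map_sub, smul_sub]
  rw [h5, h6, h7, sub_add_cancel]

end K292.FT
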