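import Groth.Agent.Gaga.H976.TM3
import Groth.Prelude.Def_ModSite2
import Mathlib.Topology.Sheaves.Points

/-!
# Elementwise tools for modules on a ringed space

`T` a topological space, `R` a sheaf of rings, `N` a `SheafOfModules R`.  Sections over opens, restriction
`rs`, values `ap` of a morphism, local criteria for epimorphisms, monomorphisms, isomorphisms, kernels,
cokernels; germs at a point of `T`.
-/

set_option autoImplicit false

universe u

open CategoryTheory CategoryTheory.Limits Opposite TopologicalSpace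

namespace K292.Sp

open Groth.Agent.Gaga.H976.TM0 Groth.Agent.Gaga.H976.TM1 Groth.Agent.Gaga.H976.TM2
open Groth.Agent.Gaga.H976.TM3

variable {T : TopCat.{u}} {R : Sheaf (Opens.grothendieckTopology T) RingCat.{u}}

/-- The value of a morphism on sections over an open. -/
noncomputable def ap {M N : SheafOfModules.{u} R} (f : M ⟶ N) (U : Opens T) :
    M.val.obj (op U) →ₗ[R.obj.obj (op U)] N.val.obj (op U) :=
  (f.val.app (op U)).hom

lemma ap_rs {M N : SheafOfModules.{u} R} (f : M ⟶ N) {U V : Opens T} (h : V ≤ U)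
    (t : M.val.obj (op U)) : ap f V (rs M h t) = rs N h (ap f U t) :=
  app_res f (homOfLE h).op t

lemma ap_comp {M N P : SheafOfModules.{u} R} (f : M ⟶ N) (g : N ⟶ P) (U : Opens T)
    (t : M.val.obj (op U)) : ap (f ≫ g) U t = ap g U (ap f U t) := rfl

lemma ap_id {M : SheafOfModules.{u} R} (U : Opens T)
    (t : M.val.obj (op U)) : ap (𝟙 M) U t = t := rfl

lemma ap_zero {M N : SheafOfModules.{u} R} (U : Opens T)
    (t : M.val.obj (op U)) : ap (0 : M ⟶ N) U t = 0 := rfl

/-- Local epimorphism criterion. -/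
theorem epi_iff_loc {M N : SheafOfModules.{u} R} (f : M ⟶ N) :
    Epi f ↔ ∀ (U : Opens T) (t : N.val.obj (op U)) (x : T), x ∈ U →
      ∃ (V : Opens T) (h : V ≤ U), x ∈ V ∧ ∃ s : M.val.obj (op V), ap f V s = rs N h t := by
  rw [epi_iff]
  constructor
  · intro h U t x hx
    obtain ⟨S, hS, h⟩ := h U t
    obtain ⟨V, i, hi, hV⟩ := hS x hx
    obtain ⟨s, hs⟩ := h i hi
    exact ⟨V, leOfHom i, hV, s, hs⟩
  · intro h U t
    refine ⟨⟨fun V i => ∃ s : M.val.obj (op V), f.val.app (op V) s = N.val.restrictₛₗ i.op t, ?_⟩,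
      ?_, fun V i hi => hi⟩
    · rintro V V' i ⟨s, hs⟩ j
      refine ⟨M.val.restrictₛₗ j.op s, ?_⟩
      rw [app_res, hs, op_comp]
      exact (N.val.map_comp_apply i.op j.op t).symm
    · intro x hx
      obtain ⟨V, hV, hxV, s, hs⟩ := h U t x hx
      exact ⟨V, homOfLE hV, ⟨s, hs⟩, hxV⟩

theorem mono_iff_inj {M N : SheafOfModules.{u} R} (f : M ⟶ N) :
    Mono f ↔ ∀ (U : Opens T) (t : M.val.obj (op U)), ap f U t = 0 → t = 0 := by
  rw [mono_iff]
  constructor
  · intro h U t ht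
    exact h (op U) (by simpa [ap] using! ht)
  · intro h U
    exact (injective_iff_map_eq_zero (ap f U.unop)).2 (h U.unop)

/-- Sections are determined locally. -/
theorem eq_of_loc (N : SheafOfModules.{u} R) {U : Opens T} (s t : N.val.obj (op U))
    (h : ∀ x ∈ U, ∃ (V : Opens T) (hV : V ≤ U), x ∈ V ∧ rs N hV s = rs N hV t) : s = t := by
  have hsep : Presheaf.IsSheaf (Opens.grothendieckTopology T) N.val.presheaf := N.isSheaf
  have h2 := (Presheaf.isSheaf_iff_isSheaf_forget _ _ (forget AddCommGrpCat.{u})).1 hsep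
  rw [isSheaf_iff_isSheaf_of_type] at h2
  let S : Sieve U := ⟨fun V i => N.val.restrictₛₗ i.op s = N.val.restrictₛₗ i.op t, by
    intro V V' i hi j
    have e1 := N.val.map_comp_apply i.op j.op s
    have e2 := N.val.map_comp_apply i.op j.op t
    change N.val.map (i.op ≫ j.op) s = N.val.map (i.op ≫ j.op) t
    rw [e1, e2]
    exact congrArg _ hi⟩
  have hS : S ∈ Opens.grothendieckTopology T U := by
    intro x hx
    obtain ⟨V, hV, hxV, e⟩ := h x hx
    exact ⟨V, homOfLE hV, e, hxV⟩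
  exact (h2 S hS).isSeparatedFor.ext fun V i hi => hi

theorem eq_zero_of_loc (N : SheafOfModules.{u} R) {U : Opens T} (s : N.val.obj (op U))
    (h : ∀ x ∈ U, ∃ (V : Opens T) (hV : V ≤ U), x ∈ V ∧ rs N hV s = 0) : s = 0 :=
  eq_of_loc N s 0 fun x hx => by
    obtain ⟨V, hV, hxV, e⟩ := h x hx
    exact ⟨V, hV, hxV, by rw [e, map_zero]⟩

lemma exists_common {ι : Type*} [Finite ι] (x : T) (V : ι → Opens T) (h : ∀ i, x ∈ V i) :
    ∃ W : Opens T, x ∈ W ∧ ∀ i, W ≤ V i := by
  classical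
  have := Fintype.ofFinite ι
  refine ⟨Finset.univ.inf V, ?_, fun i => Finset.inf_le (Finset.mem_univ i)⟩
  have key : ∀ s : Finset ι, x ∈ s.inf V := by
    intro s
    induction s using Finset.induction_on with
    | empty => simp
    | insert a s ha ih => rw [Finset.inf_insert]; exact ⟨h a, ih⟩
  exact key _

lemma rs_sum (N : SheafOfModules.{u} R) {U V : Opens T} (h : V ≤ U) {ι : Type*} (S : Finset ι)
    (t : ι → N.val.obj (op U)) : rs N h (∑ i ∈ S, t i) = ∑ i ∈ S, rs N h (t i) :=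
  map_sum (rs N h) t S

lemma lgen_mono {N : SheafOfModules.{u} R} {W : Opens T} {n : ℕ} {s : Fin n → N.val.obj (op W)}
    (hs : LGen N W s) {W' : Opens T} (h : W' ≤ W) : LGen N W' (fun i => rs N h (s i)) := by
  intro V hV t x hx
  obtain ⟨V', h', hx', c, hc⟩ := hs V (hV.trans h) t x hx
  exact ⟨V', h', hx', c, by simpa only [rs_rs] using hc⟩

lemma lrel_mono {N : SheafOfModules.{u} R} {W : Opens T} {n m : ℕ} {s : Fin n → N.val.obj (op W)}
    {r : Fin m → Fin n → R.obj.obj (op W)}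
    (hs : LRel N W s r) {W' : Opens T} (h : W' ≤ W) :
    LRel N W' (fun i => rs N h (s i)) (fun k i => rr h (r k i)) := by
  refine ⟨fun k => ?_, fun V hV c hc x hx => ?_⟩
  · have h1 := congrArg (rs N h) (hs.1 k)
    rw [rs_sum, map_zero] at h1
    simpa only [rs_smul] using h1
  · obtain ⟨V', h', hx', d, hd⟩ := hs.2 V (hV.trans h) c (by simpa only [rs_rs] using hc) x hx
    exact ⟨V', h', hx', d, by simpa only [rr_rr] using hd⟩

/-- Gluing of sections. -/
theorem exists_glue (N : SheafOfModules.{u} R) {U : Opens T} (V : ∀ x ∈ U, Opens T)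
    (hV : ∀ x hx, V x hx ≤ U) (hxV : ∀ x hx, x ∈ V x hx) (s : ∀ x hx, N.val.obj (op (V x hx)))
    (hs : ∀ x hx y hy (W : Opens T) (h1 : W ≤ V x hx) (h2 : W ≤ V y hy),
      rs N h1 (s x hx) = rs N h2 (s y hy)) :
    ∃ t : N.val.obj (op U), ∀ x hx, rs N (hV x hx) t = s x hx := by
  have hsep : Presheaf.IsSheaf (Opens.grothendieckTopology T) N.val.presheaf := N.isSheaf
  have h2 := (Presheaf.isSheaf_iff_isSheaf_forget _ _ (forget AddCommGrpCat.{u})).1 hsep
  rw [isSheaf_iff_isSheaf_of_type] at h2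
  let S : Sieve U := ⟨fun W _ => ∃ x hx, W ≤ V x hx, by
    rintro W W' i ⟨x, hx, h⟩ j
    exact ⟨x, hx, (leOfHom j).trans h⟩⟩
  have hS : S ∈ Opens.grothendieckTopology T U := by
    intro x hx
    exact ⟨V x hx, homOfLE (hV x hx), ⟨x, hx, le_rfl⟩, hxV x hx⟩
  let fam : Presieve.FamilyOfElements (N.val.presheaf ⋙ forget AddCommGrpCat.{u}) S.arrows :=
    fun W i hi => rs N hi.choose_spec.choose_spec (s hi.choose hi.choose_spec.choose)
  have hfam : ∀ (W : Opens T) (i : W ⟶ U) (hi : S i) (x : T) (hx : x ∈ U) (h : W ≤ V x hx),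
      fam i hi = rs N h (s x hx) := fun W i hi x hx h => hs _ _ _ _ _ _ _
  have hcomp : fam.Compatible := by
    intro W₁ W₂ W g₁ g₂ f₁ f₂ h₁ h₂ _
    obtain ⟨x, hx, h⟩ := h₁
    obtain ⟨y, hy, h'⟩ := h₂
    rw [hfam _ f₁ _ x hx h, hfam _ f₂ _ y hy h']
    change rs N (leOfHom g₁) (rs N h (s x hx)) = rs N (leOfHom g₂) (rs N h' (s y hy))
    rw [rs_rs, rs_rs]
    exact hs _ _ _ _ _ _ _
  refine ⟨(h2 S hS).amalgamate fam hcomp, fun x hx => ?_⟩
  have h3 := (h2 S hS).valid_glue hcomp (homOfLE (hV x hx)) ⟨x, hx, le_rfl⟩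
  refine Eq.trans h3 ?_
  rw [hfam _ (homOfLE (hV x hx)) _ x hx le_rfl, rs_self]

/-- Elements killed by `f` come from the kernel. -/
theorem exists_ker {M N : SheafOfModules.{u} R} (f : M ⟶ N) {U : Opens T}
    (t : M.val.obj (op U)) (ht : ap f U t = 0) :
    ∃ k : (kernel f).val.obj (op U), ap (kernel.ι f) U k = t :=
  exists_kernel f (op U) t ht

theorem ap_kernel_condition {M N : SheafOfModules.{u} R} (f : M ⟶ N) {U : Opens T}
    (k : (kernel f).val.obj (op U)) : ap f U (ap (kernel.ι f) U k) = 0 := by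
  rw [← ap_comp, kernel.condition, ap_zero]

theorem kernel_inj {M N : SheafOfModules.{u} R} (f : M ⟶ N) {U : Opens T}
    (k k' : (kernel f).val.obj (op U)) (h : ap (kernel.ι f) U k = ap (kernel.ι f) U k') : k = k' := by
  rw [← sub_eq_zero]
  refine (mono_iff_inj (kernel.ι f)).1 inferInstance U _ ?_
  rw [map_sub, h, sub_self]

theorem mono_inj {M N : SheafOfModules.{u} R} (f : M ⟶ N) [Mono f] {U : Opens T}
    (k k' : M.val.obj (op U)) (h : ap f U k = ap f U k') : k = k' := by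
  rw [← sub_eq_zero]
  refine (mono_iff_inj f).1 inferInstance U _ ?_
  rw [map_sub, h, sub_self]

/-- Exactness, locally. -/
theorem exact_loc {S : ShortComplex (SheafOfModules.{u} R)} (hS : S.Exact) {U : Opens T}
    (t : S.X₂.val.obj (op U)) (ht : ap S.g U t = 0) (x : T) (hx : x ∈ U) :
    ∃ (V : Opens T) (h : V ≤ U), x ∈ V ∧ ∃ s : S.X₁.val.obj (op V), ap S.f V s = rs S.X₂ h t := by
  have hep : Epi (kernel.lift S.g S.f S.zero) :=
    (ShortComplex.exact_iff_epi_kernel_lift S).1 hS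
  obtain ⟨k, hk⟩ := exists_ker S.g t ht
  obtain ⟨V, hV, hxV, s, hs⟩ := (epi_iff_loc _).1 hep U k x hx
  refine ⟨V, hV, hxV, s, ?_⟩
  rw [← hk, ← ap_rs, ← hs, ← ap_comp, kernel.lift_ι]

theorem exact_of_loc {S : ShortComplex (SheafOfModules.{u} R)}
    (h : ∀ (U : Opens T) (t : S.X₂.val.obj (op U)), ap S.g U t = 0 → ∀ x ∈ U,
      ∃ (V : Opens T) (h : V ≤ U), x ∈ V ∧ ∃ s : S.X₁.val.obj (op V), ap S.f V s = rs S.X₂ h t) :
    S.Exact := by
  rw [ShortComplex.exact_iff_epi_kernel_lift, epi_iff_loc]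
  intro U t x hx
  obtain ⟨V, hV, hxV, s, hs⟩ := h U (ap (kernel.ι S.g) U t) (ap_kernel_condition _ _) x hx
  refine ⟨V, hV, hxV, s, ?_⟩
  apply kernel_inj
  rw [← ap_comp, kernel.lift_ι, hs, ap_rs]

theorem ap_zero_comp {S : ShortComplex (SheafOfModules.{u} R)} {U : Opens T}
    (t : S.X₁.val.obj (op U)) : ap S.g U (ap S.f U t) = 0 := by
  rw [← ap_comp, S.zero, ap_zero]

/-- Sections killed in the cokernel come locally from the source. -/
theorem coker_loc {M N : SheafOfModules.{u} R} (f : M ⟶ N) {U : Opens T}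
    (t : N.val.obj (op U)) (ht : ap (cokernel.π f) U t = 0) (x : T) (hx : x ∈ U) :
    ∃ (V : Opens T) (h : V ≤ U), x ∈ V ∧ ∃ s : M.val.obj (op V), ap f V s = rs N h t :=
  exact_loc (ShortComplex.exact_cokernel f) t ht x hx

theorem isIso_iff_loc {M N : SheafOfModules.{u} R} (f : M ⟶ N) :
    IsIso f ↔ Mono f ∧ Epi f :=
  ⟨fun _ => ⟨inferInstance, inferInstance⟩, fun ⟨_, _⟩ => isIso_of_mono_of_epi f⟩

/-- `isoLocal`: bijectivity on sections. -/
theorem bijective_of_isIso {M N : SheafOfModules.{u} R} (f : M ⟶ N) [IsIso f] (U : Opens T) :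
    Function.Bijective (ap f U) :=
  Function.bijective_iff_has_inverse.2 ⟨ap (inv f) U,
    fun t => by rw [← ap_comp, IsIso.hom_inv_id, ap_id],
    fun t => by rw [← ap_comp, IsIso.inv_hom_id, ap_id]⟩

end K292.Sp
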