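import Groth.Agent.ModSite.K292.DirHom

/-!
# `Hom(G, -)` preserves directed colimits for `G` finitely presented on a nice ringed space
-/

set_option autoImplicit false

universe u

open CategoryTheory CategoryTheory.Limits Opposite TopologicalSpace

namespace K292.DirMain

open Groth.Agent.Gaga.H976.TM3 K292.Sp K292.Germ K292.Colim K292.DirFT K292.Glue K292.DirHom

variable {X : TopCat.{u}} {O : Sheaf (Opens.grothendieckTopology X) CommRingCat.{u}}
  {I : Type u} [Preorder I] [Nonempty I] [IsDirected I (· ≤ ·)] {D : I ⥤ ModSite.Mod O} {c : Cocone D}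

theorem hom_ext_loc {G N : ModSite.Mod O} (f g : G ⟶ N)
    (h : ∀ (V : Opens X) (t : G.val.obj (op V)), ap f V t = ap g V t) : f = g := by
  refine (SheafOfModules.forget _).map_injective ?_
  refine PresheafOfModules.hom_ext fun V => ?_
  ext t
  exact h V.unop t

theorem exists_lift (hX : ∀ (ι : Type u) (V : ι → Opens X), iSup V = ⊤ →
      ∃ (J : Type u) (_ : Finite J) (U : J → Opens X), iSup U = ⊤ ∧ (∀ j, ∃ i, U j ≤ V i) ∧
        ∀ j j', IsCompact ((U j ⊓ U j' : Opens X) : Set X))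
    (hc : IsColimit c) {G : ModSite.Mod O} (hG : G.IsFinitePresentation) (φ : G ⟶ c.pt) :
    ∃ (k : I) (ψ : G ⟶ D.obj k), ψ ≫ c.ι.app k = φ := by
  have hGft : G.IsFiniteType := inferInstance
  choose V hxV k ψ hψ using exists_local hc hG φ
  obtain ⟨B, hB, U, hUtop, hUV, hUc⟩ := hX X V (eq_top_iff.2 fun x _ => Opens.mem_iSup.2 ⟨x, hxV x⟩)
  choose z hz using hUV
  obtain ⟨k₀, hk₀⟩ := exists_ub (fun b : B => k (z b))
  let f₀ : ∀ b, k (z b) ⟶ k₀ := fun b => (hk₀ b).some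
  let ψ₀ : ∀ b, PHom G (D.obj k₀) (U b) := fun b => ((ψ (z b)).res (hz b)).comp (D.map (f₀ b))
  have hψ₀ : ∀ (b : B) (V' : Opens X) (h : V' ≤ U b) (g : G.val.obj (op V')),
      ap (c.ι.app k₀) V' ((ψ₀ b).f V' h g) = ap φ V' g := by
    intro b V' h g
    change ap (c.ι.app k₀) V' (ap (D.map (f₀ b)) V' ((ψ (z b)).f V' (h.trans (hz b)) g)) = _
    rw [ap_w, hψ]
  have hag : ∀ p : B × B, ∃ (k' : I) (f : k₀ ⟶ k'), ∀ (V' : Opens X) (hV : V' ≤ U p.1 ⊓ U p.2)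
      (g : G.val.obj (op V')),
      ap (D.map f) V' (((ψ₀ p.1).res inf_le_left).f V' hV g) =
        ap (D.map f) V' (((ψ₀ p.2).res inf_le_right).f V' hV g) := by
    intro p
    refine exists_agree hc hGft (hUc p.1 p.2) _ _ fun V' hV' g => ?_
    exact (hψ₀ p.1 V' _ g).trans (hψ₀ p.2 V' _ g).symm
  choose k' f' hf' using hag
  obtain ⟨k₁, hk₁⟩ := exists_ub (fun p : Option (B × B) => p.elim k₀ k')
  have f₁ : k₀ ⟶ k₁ := (hk₁ none).some
  have fk : ∀ p, k' p ⟶ k₁ := fun p => (hk₁ (some p)).some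
  let ψ₁ : ∀ b, PHom G (D.obj k₁) (U b) := fun b => (ψ₀ b).comp (D.map f₁)
  obtain ⟨Ψ, hΨ⟩ := exists_hom ψ₁ hUtop (fun b b' V' h h' g => by
    have e := congrArg (ap (D.map (fk (b, b'))) V') (hf' (b, b') V' (le_inf h h') g)
    rw [ap_map_map (f' (b, b')) (fk (b, b')) f₁, ap_map_map (f' (b, b')) (fk (b, b')) f₁] at e
    exact e)
  refine ⟨k₁, Ψ, hom_ext_loc _ _ fun W t => eq_of_loc _ _ _ fun x hx => ?_⟩
  have hx' : x ∈ iSup U := by rw [hUtop]; trivial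
  obtain ⟨b, hb⟩ := Opens.mem_iSup.1 hx'
  refine ⟨W ⊓ U b, inf_le_left, ⟨hx, hb⟩, ?_⟩
  refine Eq.trans ?_ (ap_rs φ (inf_le_left : W ⊓ U b ≤ W) t)
  rw [ap_comp]
  refine (ap_rs (c.ι.app k₁) inf_le_left (ap Ψ W t)).symm.trans ?_
  rw [← ap_rs Ψ, hΨ b _ inf_le_right]
  change ap (c.ι.app k₁) _ (ap (D.map f₁) _ ((ψ₀ b).f _ inf_le_right _)) = _
  rw [ap_w, hψ₀]

theorem main (hX : ∀ (ι : Type u) (V : ι → Opens X), iSup V = ⊤ →
      ∃ (J : Type u) (_ : Finite J) (U : J → Opens X), iSup U = ⊤ ∧ (∀ j, ∃ i, U j ≤ V i) ∧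
        ∀ j j', IsCompact ((U j ⊓ U j' : Opens X) : Set X))
    (D : I ⥤ ModSite.Mod O) (G : ModSite.Mod O) (hG : G.IsFinitePresentation) :
    PreservesColimit D (coyoneda.obj (Opposite.op G)) := by
  refine ⟨fun {c} hc => ⟨?_⟩⟩
  refine Types.FilteredColimit.isColimitOf' _ _ (fun φ => ?_) (fun j ψ ψ' h => ?_)
  · obtain ⟨k, ψ, e⟩ := exists_lift hX hc hG φ
    exact ⟨k, ψ, e.symm⟩
  · have hcomp : IsCompact ((⊤ : Opens X) : Set X) := by
      obtain ⟨B, hB, U, hU, -, hc⟩ := hX PUnit.{u + 1} (fun _ => ⊤) (by simp)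
      rw [← hU, Opens.coe_iSup]
      exact isCompact_iUnion fun b => by simpa using hc b b
    have h' : ψ ≫ c.ι.app j = ψ' ≫ c.ι.app j := h
    obtain ⟨k, f, e⟩ := exists_agree hc (inferInstance : G.IsFiniteType) hcomp
      (PHom.ofHom ψ ⊤) (PHom.ofHom ψ' ⊤) (fun V hV g => by
        change ap (c.ι.app j) V (ap ψ V g) = ap (c.ι.app j) V (ap ψ' V g)
        rw [← ap_comp, ← ap_comp, h'])
    refine ⟨k, f, ?_⟩
    change ψ ≫ D.map f = ψ' ≫ D.map f
    exact hom_ext_loc _ _ fun V t => e V le_top t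

end K292.DirMain
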