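import Groth.Agent.ModSite.K292.Sp

/-!
# Germs of modules on a ringed space, and restriction to an open
-/

set_option autoImplicit false

universe u

open CategoryTheory CategoryTheory.Limits Opposite TopologicalSpace

namespace K292.Germ

open Groth.Agent.Gaga.H976.TM0 Groth.Agent.Gaga.H976.TM1 Groth.Agent.Gaga.H976.TM2
open Groth.Agent.Gaga.H976.TM3 K292.Sp

variable {X : TopCat.{u}} {O : Sheaf (Opens.grothendieckTopology X) CommRingCat.{u}}

/-- The point of the site of opens given by `x`. -/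
noncomputable abbrev pt (x : X) := Opens.pointGrothendieckTopology x

/-- Germ at `x` of a section over a neighbourhood. -/
noncomputable def ge (F : ModSite.Mod O) (x : X) {U : Opens X} (hx : x ∈ U)
    (s : F.val.obj (op U)) : ModSite.stalkAb (pt x) F :=
  ModSite.germ (pt x) F U ⟨⟨hx⟩⟩ s

/-- Germ at `x` of a function. -/
noncomputable def gr (O : Sheaf (Opens.grothendieckTopology X) CommRingCat.{u}) (x : X)
    {U : Opens X} (hx : x ∈ U) (r : (ModSite.ringSh O).obj.obj (op U)) :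
    ModSite.stalkRing (pt x) O :=
  ModSite.germRing (pt x) (O := O) U ⟨⟨hx⟩⟩ r

lemma ge_rs (F : ModSite.Mod O) (x : X) {U V : Opens X} (h : V ≤ U) (hx : x ∈ V)
    (s : F.val.obj (op U)) : ge F x hx (rs F h s) = ge F x (h hx) s :=
  (pt x).toPresheafFiber_w_apply (homOfLE h) ⟨⟨hx⟩⟩ (ModSite.toAb F).obj s

lemma exists_ge (F : ModSite.Mod O) (x : X) (a : ModSite.stalkAb (pt x) F) :
    ∃ (U : Opens X) (hx : x ∈ U) (s : F.val.obj (op U)), ge F x hx s = a := by
  obtain ⟨U, ⟨⟨hx⟩⟩, s, rfl⟩ := (pt x).toPresheafFiber_jointly_surjective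
    (P := (ModSite.toAb F).obj) a
  exact ⟨U, hx, s, rfl⟩

lemma ge_eq_iff (F : ModSite.Mod O) (x : X) {U : Opens X} (hx : x ∈ U) (s t : F.val.obj (op U)) :
    ge F x hx s = ge F x hx t ↔ ∃ (V : Opens X) (h : V ≤ U), x ∈ V ∧ rs F h s = rs F h t := by
  refine ((pt x).toPresheafFiber_eq_iff' U ⟨⟨hx⟩⟩ (P := (ModSite.toAb F).obj) s t).trans ?_
  constructor
  · rintro ⟨V, f, ⟨⟨hy⟩⟩, -, h⟩
    exact ⟨V, leOfHom f, hy, h⟩
  · rintro ⟨V, h, hy, e⟩
    exact ⟨V, homOfLE h, ⟨⟨hy⟩⟩, rfl, e⟩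

lemma ge_add (F : ModSite.Mod O) (x : X) {U : Opens X} (hx : x ∈ U) (s t : F.val.obj (op U)) :
    ge F x hx (s + t) = ge F x hx s + ge F x hx t :=
  map_add ((pt x).toPresheafFiber U ⟨⟨hx⟩⟩ (ModSite.toAb F).obj).hom s t

lemma ge_zero (F : ModSite.Mod O) (x : X) {U : Opens X} (hx : x ∈ U) :
    ge F x hx (0 : F.val.obj (op U)) = 0 :=
  map_zero ((pt x).toPresheafFiber U ⟨⟨hx⟩⟩ (ModSite.toAb F).obj).hom

lemma ge_smul (F : ModSite.Mod O) (x : X) {U : Opens X} (hx : x ∈ U)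
    (r : (ModSite.ringSh O).obj.obj (op U)) (s : F.val.obj (op U)) :
    ge F x hx (r • s) = gr O x hx r • ge F x hx s :=
  ModSite.germ_smul (pt x) F U ⟨⟨hx⟩⟩ r s

lemma ge_sum (F : ModSite.Mod O) (x : X) {U : Opens X} (hx : x ∈ U) {ι : Type*} (S : Finset ι)
    (s : ι → F.val.obj (op U)) : ge F x hx (∑ i ∈ S, s i) = ∑ i ∈ S, ge F x hx (s i) :=
  map_sum ((pt x).toPresheafFiber U ⟨⟨hx⟩⟩ (ModSite.toAb F).obj).hom s S

lemma stalkMap_ge {F G : ModSite.Mod O} (φ : F ⟶ G) (x : X) {U : Opens X} (hx : x ∈ U)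
    (s : F.val.obj (op U)) :
    (ModSite.stalkMap (pt x) φ).hom (ge F x hx s) = ge G x hx (ap φ U s) :=
  (pt x).toPresheafFiber_naturality_apply ((SheafOfModules.toSheaf (ModSite.ringSh O)).map φ).hom
    U ⟨⟨hx⟩⟩ s

/-- Local criterion for the restriction of a morphism to an open to be an epimorphism. -/
theorem epi_restr_iff {F G : ModSite.Mod O} (φ : F ⟶ G) (U : Opens X) :
    Epi ((ModSite.restr O U).map φ) ↔ ∀ (V : Opens X), V ≤ U → ∀ (t : G.val.obj (op V)) (x : X),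
      x ∈ V → ∃ (W : Opens X) (h : W ≤ V), x ∈ W ∧ ∃ s : F.val.obj (op W), ap φ W s = rs G h t := by
  rw [epi_iff]
  constructor
  · intro h V hV t x hx
    obtain ⟨S, hS, h⟩ := h (Over.mk (homOfLE hV)) t
    rw [mem_over] at hS
    obtain ⟨W, hW, hxW, hS⟩ := hS x hx
    obtain ⟨s, hs⟩ := h _ hS
    exact ⟨W, hW, hxW, s, hs⟩
  · intro h V t
    refine ⟨⟨fun W i => ∃ s : ((ModSite.restr O U).obj F).val.obj (op W),
      ((ModSite.restr O U).map φ).val.app (op W) s =
        ((ModSite.restr O U).obj G).val.restrictₛₗ i.op t, ?_⟩, ?_, fun V i hi => hi⟩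
    · rintro V V' i ⟨s, hs⟩ j
      refine ⟨((ModSite.restr O U).obj F).val.restrictₛₗ j.op s, ?_⟩
      rw [app_res, hs, op_comp]
      exact (((ModSite.restr O U).obj G).val.map_comp_apply i.op j.op t).symm
    · rw [mem_over]
      intro x hx
      obtain ⟨W, hW, hxW, s, hs⟩ := h V.left (leOfHom V.hom) t x hx
      exact ⟨W, hW, hxW, s, hs⟩

/-- Local criterion for the restriction of a morphism to an open to be a monomorphism. -/
theorem mono_restr_iff {F G : ModSite.Mod O} (φ : F ⟶ G) (U : Opens X) :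
    Mono ((ModSite.restr O U).map φ) ↔ ∀ (V : Opens X), V ≤ U → ∀ (t : F.val.obj (op V)),
      ap φ V t = 0 → t = 0 := by
  rw [mono_iff]
  constructor
  · intro h V hV t ht
    exact h (op (Over.mk (homOfLE hV))) (a₂ := (0 : F.val.obj (op V))) (by
      refine Eq.trans ht ?_
      exact (map_zero (ap φ V)).symm)
  · intro h V
    exact (injective_iff_map_eq_zero (ap φ V.unop.left)).2 (h V.unop.left (leOfHom V.unop.hom))

end K292.Germ
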