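import Groth.Agent.ModSite.K292.PullStalk
import Groth.Agent.ModSite.K292.Germ
import Groth.Agent.ModSite.K291.Flat
import Mathlib.Topology.Sheaves.Stalks

/-!
# Flat morphisms of ringed spaces: the inverse image is exact

* `ringEquiv O x`: the stalk of `O` at the point `x` in the two senses;
* `preservesMono_pull`: if `O_{D,q} → O_{C,p}` is flat for enough points then `f^*` preserves monomorphisms.
-/

set_option autoImplicit false

universe u

open CategoryTheory CategoryTheory.Limits Opposite TopologicalSpace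

namespace K292.FlatPull

open K292.Sky K292.PullStalk K292.Germ

section Top

variable {X : TopCat.{u}} (O : TopCat.Sheaf CommRingCat.{u} X) (x : X)

/-- The comparison of the two stalks of the structure sheaf. -/
noncomputable def rho : ModSite.stalkRing (pt x) O →+* O.presheaf.stalk x :=
  ((pt x).presheafFiberDesc (A := CommRingCat.{u}) (P := O.obj)
    (T := O.presheaf.stalk x) (fun U h => O.presheaf.germ U x h.down.down) (fun V U g y => by
      ext s
      exact TopCat.Presheaf.germ_res_apply O.presheaf g x y.down.down s)).hom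

theorem rho_gR (U : Opens X) (h : (pt x).fiber.obj U) (r : O.obj.obj (op U)) :
    rho O x (gR (pt x) O U h r) = O.presheaf.germ U x h.down.down r :=
  ConcreteCategory.congr_hom ((pt x).toPresheafFiber_presheafFiberDesc (A := CommRingCat.{u})
    (P := O.obj)
    (T := O.presheaf.stalk x) (fun U h => O.presheaf.germ U x h.down.down) (fun V U g y => by
      ext s
      exact TopCat.Presheaf.germ_res_apply O.presheaf g x y.down.down s) U h) r

theorem bijective_rho : Function.Bijective (rho O x) := by
  constructor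
  · intro a b hab
    obtain ⟨U, h, r, s, rfl, rfl⟩ := (pt x).toPresheafFiber_jointly_surjective₂ (P := O.obj) a b
    have hab' : O.presheaf.germ U x h.down.down r = O.presheaf.germ U x h.down.down s :=
      (rho_gR O x U h r).symm.trans (hab.trans (rho_gR O x U h s))
    obtain ⟨W, hW, iU, iV, e⟩ := TopCat.Presheaf.germ_eq O.presheaf x h.down.down h.down.down r s hab'
    refine ((pt x).toPresheafFiber_eq_iff' (P := O.obj) U h r s).2 ⟨W, iU, ⟨⟨hW⟩⟩, rfl, ?_⟩
    obtain rfl : iU = iV := Subsingleton.elim _ _
    exact e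
  · intro a
    obtain ⟨U, h, r, rfl⟩ := TopCat.Presheaf.exists_germ_eq O.presheaf a
    exact ⟨gR (pt x) O U ⟨⟨h⟩⟩ r, rho_gR O x U ⟨⟨h⟩⟩ r⟩

end Top

section Map

variable {X Y : TopCat.{u}} (f : X ⟶ Y) {O_X : TopCat.Sheaf CommRingCat.{u} X}
  {O_Y : TopCat.Sheaf CommRingCat.{u} Y}
  (c : O_Y ⟶ ((Opens.map f).sheafPushforwardContinuous CommRingCat.{u}
      (Opens.grothendieckTopology Y) (Opens.grothendieckTopology X)).obj O_X)

/-- The image of the point `x` is the point `f x`. -/
noncomputable def ptIso (x : X) :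
    (ModSite.RMor.ofFlat (Opens.map f) c).fn ⋙ (pt x).fiber ≅ (pt (f x)).fiber :=
  NatIso.ofComponents (fun V => Iso.refl ((pt (f x)).fiber.obj V)) (fun _ => rfl)

theorem rho_stR (x : X) (a : ModSite.stalkRing (pt (f x)) O_Y) :
    rho O_X x (stR (ModSite.RMor.ofFlat (Opens.map f) c) (ptIso f c x) a) =
      ((TopCat.Presheaf.stalkFunctor CommRingCat.{u} (f x)).map
        (show O_Y.presheaf ⟶ (TopCat.Presheaf.pushforward CommRingCat.{u} f).obj O_X.presheaf
          from c.hom) ≫
      TopCat.Presheaf.stalkPushforward CommRingCat.{u} f O_X.presheaf x).hom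
        (rho O_Y (f x) a) := by
  obtain ⟨V, v, r, rfl⟩ := exists_germR a
  have h1 := stR_gR (ModSite.RMor.ofFlat (Opens.map f) c) (ptIso f c x) V v r
  refine (congrArg (rho O_X x) h1).trans ?_
  refine (rho_gR O_X x ((Opens.map f).obj V) _ _).trans ?_
  refine Eq.trans ?_ (congrArg (((TopCat.Presheaf.stalkFunctor CommRingCat.{u} (f x)).map
        (show O_Y.presheaf ⟶ (TopCat.Presheaf.pushforward CommRingCat.{u} f).obj O_X.presheaf
          from c.hom) ≫
      TopCat.Presheaf.stalkPushforward CommRingCat.{u} f O_X.presheaf x).hom) (rho_gR O_Y (f x) V v r)).symm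
  have h2 := TopCat.Presheaf.stalkFunctor_map_germ_apply V (f x) v.down.down
    (show O_Y.presheaf ⟶ (TopCat.Presheaf.pushforward CommRingCat.{u} f).obj O_X.presheaf
          from c.hom) r
  have h3 := TopCat.Presheaf.stalkPushforward_germ_apply CommRingCat.{u} f O_X.presheaf V x
    v.down.down ((c.hom.app (op V)).hom r)
  refine Eq.trans ?_ (congrArg (TopCat.Presheaf.stalkPushforward CommRingCat.{u} f O_X.presheaf x).hom h2).symm
  exact h3.symm

theorem flat_stR (x : X)
    (h : ((TopCat.Presheaf.stalkFunctor CommRingCat.{u} (f x)).map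
        (show O_Y.presheaf ⟶ (TopCat.Presheaf.pushforward CommRingCat.{u} f).obj O_X.presheaf
          from c.hom) ≫
      TopCat.Presheaf.stalkPushforward CommRingCat.{u} f O_X.presheaf x).hom.Flat) :
    (stR (ModSite.RMor.ofFlat (Opens.map f) c) (ptIso f c x)).Flat := by
  set ψ := ((TopCat.Presheaf.stalkFunctor CommRingCat.{u} (f x)).map
        (show O_Y.presheaf ⟶ (TopCat.Presheaf.pushforward CommRingCat.{u} f).obj O_X.presheaf
          from c.hom) ≫
      TopCat.Presheaf.stalkPushforward CommRingCat.{u} f O_X.presheaf x).hom with hψ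
  let E := RingEquiv.ofBijective (rho O_X x) (bijective_rho O_X x)
  have h1 : stR (ModSite.RMor.ofFlat (Opens.map f) c) (ptIso f c x) =
      (E.symm.toRingHom.comp ψ).comp (rho O_Y (f x)) := by
    ext a
    refine E.injective ?_
    refine (rho_stR f c x a).trans ?_
    exact (E.apply_symm_apply _).symm
  rw [h1]
  exact RingHom.Flat.comp (RingHom.Flat.of_bijective (bijective_rho O_Y (f x)))
    (RingHom.Flat.comp h (RingHom.Flat.of_bijective E.symm.bijective))

end Map

section Stalks

variable {X : TopCat.{u}} {O : Sheaf (Opens.grothendieckTopology X) CommRingCat.{u}}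

open Groth.Agent.Gaga.H976.TM0 Groth.Agent.Gaga.H976.TM1 Groth.Agent.Gaga.H976.TM2
open Groth.Agent.Gaga.H976.TM3 K292.Sp

/-- A morphism of modules on a ringed space is a monomorphism iff it is injective on stalks. -/
theorem mono_iff_stalks {M N : ModSite.Mod O} (φ : M ⟶ N) :
    Mono φ ↔ ∀ x : X, Function.Injective (ModSite.stalkMap (pt x) φ).hom := by
  rw [mono_iff_inj]
  constructor
  · intro h x
    rw [injective_iff_map_eq_zero]
    intro a ha
    obtain ⟨U, hx, s, rfl⟩ := exists_ge M x a
    rw [stalkMap_ge, ← ge_zero N x hx, ge_eq_iff] at ha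
    obtain ⟨V, hV, hxV, e⟩ := ha
    rw [← ge_rs M x hV hxV s, ← ge_zero M x hxV]
    congr 1
    apply h V
    rw [ap_rs, e, map_zero]
  · intro h U s hs
    apply eq_zero_of_loc
    intro x hx
    have h1 := h x (a₁ := ge M x hx s) (a₂ := 0) (by rw [stalkMap_ge, hs, ge_zero, map_zero])
    rw [← ge_zero M x hx, ge_eq_iff] at h1
    obtain ⟨V, hV, hxV, e⟩ := h1
    exact ⟨V, hV, hxV, e.trans (map_zero _)⟩

end Stalks

section Main

variable {C : Type u} [SmallCategory C] {J : GrothendieckTopology C}
  {D : Type u} [SmallCategory D] {K : GrothendieckTopology D}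
  {O_C : Sheaf J CommRingCat.{u}} {O_D : Sheaf K CommRingCat.{u}}
  (f : ModSite.RMor O_C O_D)

/-- `f^*` is exact as soon as it preserves monomorphisms. -/
theorem isFlat_of_mono (h : ∀ ⦃M N : ModSite.Mod O_D⦄ (φ : M ⟶ N) [Mono φ], Mono (f.pull.map φ)) :
    ModSite.RMor.IsFlat f := by
  haveI : f.pull.IsLeftAdjoint := f.adj.isLeftAdjoint
  haveI : f.pull.PreservesZeroMorphisms := Functor.preservesZeroMorphisms_of_isLeftAdjoint _
  haveI : PreservesColimits f.pull := f.adj.leftAdjoint_preservesColimits
  haveI := preservesBinaryBiproducts_of_preservesBinaryCoproducts f.pull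
  haveI : f.pull.Additive := Functor.additive_of_preservesBinaryBiproducts _
  exact K291.Flat.preservesFiniteLimits_of_mono f.pull h

end Main

theorem main {X Y : TopCat.{u}} (f : X ⟶ Y) {O_X : TopCat.Sheaf CommRingCat.{u} X}
    {O_Y : TopCat.Sheaf CommRingCat.{u} Y}
    (c : O_Y ⟶ ((Opens.map f).sheafPushforwardContinuous CommRingCat.{u}
      (Opens.grothendieckTopology Y) (Opens.grothendieckTopology X)).obj O_X)
    (hflat : ∀ x : X, ((TopCat.Presheaf.stalkFunctor CommRingCat.{u} (f x)).map
        (show O_Y.presheaf ⟶ (TopCat.Presheaf.pushforward CommRingCat.{u} f).obj O_X.presheaf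
          from c.hom) ≫
      TopCat.Presheaf.stalkPushforward CommRingCat.{u} f O_X.presheaf x).hom.Flat) :
    ModSite.RMor.IsFlat (ModSite.RMor.ofFlat (Opens.map f) c) := by
  refine isFlat_of_mono _ fun M N φ _ => ?_
  rw [mono_iff_stalks]
  intro x
  exact injective_pull _ (ptIso f c x) (flat_stR f c x (hflat x)) φ
    ((mono_iff_stalks φ).1 inferInstance (f x))

end K292.FlatPull
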