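import Groth.Agent.ModSite.K292.ClosedPush
import Groth.Agent.ModSite.K292.FlatPull

/-!
# Modules on a closed subspace of a ringed space

For `i : Z → X` a closed embedding with `O_X → i_* O_Z` locally surjective: `i_*` is exact, fully
faithful, with essential image the modules killed by the kernel of `O_X → i_* O_Z`.
-/

set_option autoImplicit false

universe u

open CategoryTheory CategoryTheory.Limits Opposite TopologicalSpace

namespace K292.ClosedMod

open Groth.Agent.Gaga.H976.TM1 Groth.Agent.Gaga.H976.TM3 K292.Sp K292.Germ K292.ClosedPush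
open K292.Sky K292.PullStalk K292.FlatPull

section Stalks

variable {X : TopCat.{u}} {O : Sheaf (Opens.grothendieckTopology X) CommRingCat.{u}}

theorem epi_of_stalks {M N : ModSite.Mod O} (φ : M ⟶ N)
    (h : ∀ x : X, Function.Surjective (ModSite.stalkMap (pt x) φ).hom) : Epi φ := by
  rw [epi_iff_loc]
  intro U t x hx
  obtain ⟨a, ha⟩ := h x (ge N x hx t)
  obtain ⟨V, hV, s, rfl⟩ := exists_ge M x a
  rw [stalkMap_ge] at ha
  have h1 : ge N x (U := V ⊓ U) ⟨hV, hx⟩ (rs N inf_le_left (ap φ V s)) =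
      ge N x (U := V ⊓ U) ⟨hV, hx⟩ (rs N inf_le_right t) := by
    rw [ge_rs, ge_rs]
    exact ha
  obtain ⟨W, hW, hxW, e⟩ := (ge_eq_iff N x (U := V ⊓ U) ⟨hV, hx⟩ _ _).1 h1
  refine ⟨W, hW.trans inf_le_right, hxW, rs M (hW.trans inf_le_left) s, ?_⟩
  rw [ap_rs, ← rs_rs N inf_le_left hW, e, rs_rs]

theorem isIso_of_stalks {M N : ModSite.Mod O} (φ : M ⟶ N)
    (h : ∀ x : X, Function.Bijective (ModSite.stalkMap (pt x) φ).hom) : IsIso φ := by
  have h1 : Mono φ := (mono_iff_stalks φ).2 fun x => (h x).1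
  have h2 : Epi φ := epi_of_stalks φ fun x => (h x).2
  exact isIso_of_mono_of_epi φ

end Stalks

section Site

variable {C : Type u} [SmallCategory C] {J : GrothendieckTopology C}
  {D : Type u} [SmallCategory D] {K : GrothendieckTopology D}
  {O_C : Sheaf J CommRingCat.{u}} {O_D : Sheaf K CommRingCat.{u}}
  (f : ModSite.RMor O_C O_D)
  {p : GrothendieckTopology.Point.{u} J} {q : GrothendieckTopology.Point.{u} K}
  (e : f.fn ⋙ p.fiber ≅ q.fiber)

/-- The map `(f_* F)_q → F_p`. -/
noncomputable def kz (F : ModSite.Mod O_C) :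
    ModSite.stalkAb q (f.push.obj F) →+ ModSite.stalkAb p F :=
  stalkDesc (f.push.obj F) (fun V v => AddMonoidHom.mk'
      (fun s => ModSite.germ p F (f.fn.obj V) (pb f e v) (sP f s))
      (fun s t => by rw [map_add, germ_add]))
    (fun V W g w s => by
      change ModSite.germ p F (f.fn.obj W) (pb f e w) _ =
        ModSite.germ p F (f.fn.obj V) (pb f e (q.fiber.map g w)) (sP f s)
      rw [← pb_map]
      exact germ_res F (f.fn.map g) (pb f e w) (sP f s))

theorem kz_germ (F : ModSite.Mod O_C) (V : D) (v : q.fiber.obj V)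
    (s : ModSite.sect (f.push.obj F) V) :
    kz f e F (ModSite.germ q (f.push.obj F) V v s) =
      ModSite.germ p F (f.fn.obj V) (pb f e v) (sP f s) :=
  stalkDesc_germ (f.push.obj F) _ _ V v s

theorem kz_unit (G : ModSite.Mod O_D) (t : ModSite.stalkAb q G) :
    kz f e (f.pull.obj G) ((ModSite.stalkMap q (f.adj.unit.app G)).hom t) = canAdd f e G t := by
  obtain ⟨V, v, s, rfl⟩ := exists_germ G t
  rw [canAdd_germ]
  refine (congrArg (kz f e (f.pull.obj G)) (stalkMap_germ (f.adj.unit.app G) V v s)).trans ?_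
  exact kz_germ f e (f.pull.obj G) V v _

theorem counit_canAdd (F : ModSite.Mod O_C) (t : ModSite.stalkAb q (f.push.obj F)) :
    (ModSite.stalkMap p (f.adj.counit.app F)).hom (canAdd f e (f.push.obj F) t) = kz f e F t := by
  obtain ⟨V, v, s, rfl⟩ := exists_germ (f.push.obj F) t
  rw [kz_germ, canAdd_germ]
  refine (stalkMap_germ (f.adj.counit.app F) (f.fn.obj V) (pb f e v) _).trans ?_
  congr 1
  have h := f.adj.right_triangle_components F
  exact ConcreteCategory.congr_hom (congrArg (fun k : f.push.obj F ⟶ f.push.obj F =>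
    k.val.app (op V)) h) s

section CanBij

variable (hs : Function.Surjective (stR f e)) (G : ModSite.Mod O_D)
  (hG : ∀ r : ModSite.stalkRing q O_D, stR f e r = 0 → ∀ t : ModSite.stalkAb q G, r • t = 0)

include hG in
theorem smul_eq {r r' : ModSite.stalkRing q O_D} (h : stR f e r = stR f e r')
    (t : ModSite.stalkAb q G) : r • t = r' • t := by
  rw [← sub_eq_zero, ← sub_smul]
  exact hG _ (by rw [map_sub, h, sub_self]) t

/-- A lift of an element of `O_{C,p}`. -/
noncomputable def sv (r : ModSite.stalkRing p O_C) : ModSite.stalkRing q O_D :=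
  Function.surjInv hs r

omit hG in
theorem stR_sv (r : ModSite.stalkRing p O_C) : stR f e (sv f e hs r) = r :=
  Function.surjInv_eq hs r

/-- The stalk of `G` as a module over `O_{C,p}`. -/
@[instance_reducible]
noncomputable def modS : Module (ModSite.stalkRing p O_C) (ModSite.stalkAb q G) where
  smul r t := sv f e hs r • t
  one_smul t := (smul_eq f e G hG (by rw [stR_sv, map_one]) t).trans (one_smul _ t)
  mul_smul r r' t := (smul_eq f e G hG (by rw [stR_sv, map_mul, stR_sv, stR_sv]) t).trans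
    (mul_smul (sv f e hs r) (sv f e hs r') t)
  smul_zero r := smul_zero (sv f e hs r)
  smul_add r t t' := smul_add (sv f e hs r) t t'
  add_smul r r' t := (smul_eq f e G hG (by rw [stR_sv, map_add, stR_sv, stR_sv]) t).trans
    (add_smul (sv f e hs r) (sv f e hs r') t)
  zero_smul t := (smul_eq f e G hG (by rw [stR_sv, map_zero]) t).trans
    (zero_smul _ t)

include hs hG

theorem injective_canAdd : Function.Injective (canAdd f e G) := by
  let _ := modS f e hs G hG
  have hg : ∀ (r : ModSite.stalkRing q O_D) (t : ModSite.stalkAb q G),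
      AddMonoidHom.id (ModSite.stalkAb q G) (r • t) =
        stR f e r • AddMonoidHom.id (ModSite.stalkAb q G) t := by
    intro r t
    exact (smul_eq f e G hG (stR_sv f e hs (stR f e r)) t).symm
  intro a b hab
  have h := congrArg (lift f e (AddMonoidHom.id (ModSite.stalkAb q G)) hg) hab
  rwa [lift_canAdd, lift_canAdd] at h

omit hG in
theorem surjective_canAdd : Function.Surjective (canAdd f e G) := by
  let S : Submodule (ModSite.stalkRing p O_C) (ModSite.stalkAb p (f.pull.obj G)) :=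
    { (canAdd f e G).range with
      smul_mem' := by
        rintro r _ ⟨t, rfl⟩
        obtain ⟨r, rfl⟩ := hs r
        exact ⟨r • t, canAdd_smul f e G r t⟩ }
  have h : S.mkQ = 0 := lift_unique f e _ _ fun t => by
    rw [LinearMap.zero_apply, Submodule.mkQ_apply, Submodule.Quotient.mk_eq_zero]
    exact ⟨t, rfl⟩
  intro b
  have h2 : b ∈ S := by
    rw [← Submodule.Quotient.mk_eq_zero, ← Submodule.mkQ_apply, h, LinearMap.zero_apply]
  exact h2

theorem bijective_canAdd : Function.Bijective (canAdd f e G) :=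
  ⟨injective_canAdd f e hs G hG, surjective_canAdd f e hs G⟩

end CanBij

end Site

section Top

variable {Z X : TopCat.{u}} {i : Z ⟶ X}
    {O_Z : Sheaf (Opens.grothendieckTopology Z) CommRingCat.{u}}
    {O_X : Sheaf (Opens.grothendieckTopology X) CommRingCat.{u}}
    {c : O_X ⟶ ((TopologicalSpace.Opens.map i).sheafPushforwardContinuous CommRingCat.{u}
      (Opens.grothendieckTopology X) (Opens.grothendieckTopology Z)).obj O_Z}

/-- The morphism of ringed sites. -/
noncomputable abbrev fm (i : Z ⟶ X) (c : O_X ⟶ ((TopologicalSpace.Opens.map i).sheafPushforwardContinuous CommRingCat.{u}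
      (Opens.grothendieckTopology X) (Opens.grothendieckTopology Z)).obj O_Z) :
    ModSite.RMor O_Z O_X := ModSite.RMor.ofFlat (Opens.map i) c

/-- A neighbourhood of a point. -/
def me {Y : TopCat.{u}} {y : Y} {U : Opens Y} (h : y ∈ U) : (pt y).fiber.obj U := ⟨⟨h⟩⟩

theorem germR_eq {Y : TopCat.{u}} {O : Sheaf (Opens.grothendieckTopology Y) CommRingCat.{u}}
    {y : Y} {U : Opens Y} {hy : (pt y).fiber.obj U} {a b : O.obj.obj (op U)}
    (h : gR (pt y) O U hy a = gR (pt y) O U hy b) :
    ∃ (V : Opens Y) (hV : V ≤ U), y ∈ V ∧ O.obj.map (homOfLE hV).op a = O.obj.map (homOfLE hV).op b := by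
  obtain ⟨V, g, ⟨⟨hy'⟩⟩, -, e⟩ := ((pt y).toPresheafFiber_eq_iff' (P := O.obj) U hy a b).1 h
  exact ⟨V, leOfHom g, hy', e⟩

theorem germ_eq_top {Y : TopCat.{u}} {O : Sheaf (Opens.grothendieckTopology Y) CommRingCat.{u}}
    (F : ModSite.Mod O)
    {y : Y} {U : Opens Y} {hy : (pt y).fiber.obj U} {a b : ModSite.sect F U}
    (h : ModSite.germ (pt y) F U hy a = ModSite.germ (pt y) F U hy b) :
    ∃ (V : Opens Y) (hV : V ≤ U), y ∈ V ∧ rs F hV a = rs F hV b := by
  obtain ⟨V, g, ⟨⟨hy'⟩⟩, -, e⟩ :=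
    ((pt y).toPresheafFiber_eq_iff' (P := (ModSite.toAb F).obj) U hy a b).1 h
  exact ⟨V, leOfHom g, hy', e⟩

theorem surjective_stR (hi : Topology.IsInducing i) (hc : Sheaf.IsLocallySurjective c) (z : Z) :
    Function.Surjective (stR (fm i c) (ptIso i c z)) := by
  intro a
  obtain ⟨V, ⟨⟨hz⟩⟩, a, rfl⟩ := exists_germR a
  obtain ⟨W, hW, hWV⟩ := exists_open hi V z hz
  obtain ⟨W', h', hW', b, hb⟩ := locSurj c hc (U := W) (rr hWV a) (i z) hW
  refine ⟨gR (pt (i z)) O_X W' (me hW') b, ?_⟩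
  refine (stR_gR (fm i c) (ptIso i c z) W' (me hW') b).trans ?_
  have h1 : shp (fm i c) W' b =
      O_Z.obj.map (homOfLE (((Opens.map i).map (homOfLE h')).le.trans hWV)).op a := by
    refine Eq.trans (hb : _ = _) ?_
    exact (O_Z.obj.map_comp_apply _ _ _).symm
  rw [h1]
  exact germR_res (O := O_Z) (homOfLE (((Opens.map i).map (homOfLE h')).le.trans hWV))
    (pb (fm i c) (ptIso i c z) (me hW')) a

/-- The ideal condition. -/
def Kills (i : Z ⟶ X) (c : O_X ⟶ ((TopologicalSpace.Opens.map i).sheafPushforwardContinuous CommRingCat.{u}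
      (Opens.grothendieckTopology X) (Opens.grothendieckTopology Z)).obj O_Z) (G : ModSite.Mod O_X) :
    Prop :=
  ∀ (U : Opens X) (a : (ModSite.ringSh O_X).obj.obj (Opposite.op U)),
    ((ModSite.RMor.ofFlat (TopologicalSpace.Opens.map i) c).sharpR.hom.app (Opposite.op U)).hom a = 0 →
      ∀ s : ModSite.sect G U, a • s = 0

theorem smul_stalk_eq_zero (hi : Topology.IsInducing i) {G : ModSite.Mod O_X} (hG : Kills i c G)
    (z : Z) (r : ModSite.stalkRing (pt (i z)) O_X) (hr : stR (fm i c) (ptIso i c z) r = 0)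
    (t : ModSite.stalkAb (pt (i z)) G) : r • t = 0 := by
  obtain ⟨V, ⟨⟨hz⟩⟩, a, s, rfl, rfl⟩ := exists_common G r t
  have h1 := stR_gR (fm i c) (ptIso i c z) V ⟨⟨hz⟩⟩ a
  have h2 : gR (pt z) O_Z ((Opens.map i).obj V) (pb (fm i c) (ptIso i c z) ⟨⟨hz⟩⟩) (shp (fm i c) V a) =
      gR (pt z) O_Z ((Opens.map i).obj V) (pb (fm i c) (ptIso i c z) ⟨⟨hz⟩⟩) 0 :=
    h1.symm.trans (hr.trans (map_zero _).symm)
  obtain ⟨V', hV', hz', e⟩ := germR_eq h2
  obtain ⟨W, hW, hWV⟩ := exists_open hi V' z hz'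
  let W' : Opens X := W ⊓ V
  have hW'V : W' ≤ V := inf_le_right
  have h3 : shp (fm i c) W' (O_X.obj.map (homOfLE hW'V).op a) = 0 := by
    rw [shp_res]
    have h4 : (Opens.map i).obj W' ≤ V' := le_trans ((Opens.map i).map (homOfLE inf_le_left)).le hWV
    have h5 := congrArg (fun z => O_Z.obj.map (homOfLE h4).op z) e
    have h6 : O_Z.obj.map ((Opens.map i).map (homOfLE hW'V)).op (shp (fm i c) V a) =
        O_Z.obj.map (homOfLE h4).op (O_Z.obj.map (homOfLE hV').op (shp (fm i c) V a)) :=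
      O_Z.obj.map_comp_apply _ _ _
    refine h6.trans (h5.trans ?_)
    change O_Z.obj.map (homOfLE h4).op (O_Z.obj.map (homOfLE hV').op 0) = 0
    rw [map_zero, map_zero]
  have h7 := hG W' (O_X.obj.map (homOfLE hW'V).op a) h3 (rs G hW'V s)
  have h8 : ModSite.germ (pt (i z)) G V ⟨⟨hz⟩⟩ (a • s) =
      ModSite.germ (pt (i z)) G W' (me (U := W ⊓ V) ⟨hW, hz⟩) (rs G hW'V (a • s)) :=
    (germ_res G (homOfLE hW'V) (me (U := W ⊓ V) ⟨hW, hz⟩) (a • s)).symm
  rw [← ModSite.germ_smul, h8]
  have h9 : rs G hW'V (a • s) = (O_X.obj.map (homOfLE hW'V).op a) • rs G hW'V s := rs_smul _ _ _ _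
  rw [h9]
  refine (congrArg (ModSite.germ (pt (i z)) G W' (me (U := W ⊓ V) ⟨hW, hz⟩)) h7).trans ?_
  exact map_zero ((pt (i z)).toPresheafFiber W' (me (U := W ⊓ V) ⟨hW, hz⟩) (ModSite.toAb G).obj).hom

theorem bijective_kz (hi : Topology.IsInducing i) (F : ModSite.Mod O_Z) (z : Z) :
    Function.Bijective (kz (fm i c) (ptIso i c z) F) := by
  constructor
  · rw [injective_iff_map_eq_zero]
    intro a ha
    obtain ⟨V, ⟨⟨hz⟩⟩, s, rfl⟩ := exists_germ ((fm i c).push.obj F) a
    have h1 := (kz_germ (fm i c) (ptIso i c z) F V ⟨⟨hz⟩⟩ s).symm.trans (ha.trans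
      (map_zero ((pt z).toPresheafFiber ((Opens.map i).obj V)
        (pb (fm i c) (ptIso i c z) ⟨⟨hz⟩⟩) (ModSite.toAb F).obj).hom).symm)
    obtain ⟨V', hV', hz', e⟩ := germ_eq_top F h1
    obtain ⟨W, hW, hWV⟩ := exists_open hi V' z hz'
    let W' : Opens X := W ⊓ V
    have hW'V : W' ≤ V := inf_le_right
    have h4 : (Opens.map i).obj W' ≤ V' := le_trans ((Opens.map i).map (homOfLE inf_le_left)).le hWV
    have h5 : rs ((fm i c).push.obj F) hW'V s = 0 := by
      apply ClosedPush.toZ_inj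
      rw [toZ_rs]
      have h6 := congrArg (rs F h4) e
      rw [rs_rs] at h6
      refine h6.trans ?_
      exact (congrArg (rs F h4) (map_zero (rs F hV'))).trans (map_zero (rs F h4))
    refine (germ_res ((fm i c).push.obj F) (homOfLE hW'V) (me (U := W ⊓ V) ⟨hW, hz⟩) s).symm.trans ?_
    refine (congrArg (ModSite.germ (pt (i z)) ((fm i c).push.obj F) W' (me (U := W ⊓ V) ⟨hW, hz⟩)) h5).trans ?_
    exact map_zero ((pt (i z)).toPresheafFiber W' (me (U := W ⊓ V) ⟨hW, hz⟩)
      (ModSite.toAb ((fm i c).push.obj F)).obj).hom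
  · intro b
    obtain ⟨V, ⟨⟨hz⟩⟩, s, rfl⟩ := exists_germ F b
    obtain ⟨W, hW, hWV⟩ := exists_open hi V z hz
    refine ⟨ModSite.germ (pt (i z)) ((fm i c).push.obj F) W ⟨⟨hW⟩⟩ (toX i c F (rs F hWV s)), ?_⟩
    refine (kz_germ (fm i c) (ptIso i c z) F W ⟨⟨hW⟩⟩ _).trans ?_
    exact germ_res F (homOfLE hWV) (pb (fm i c) (ptIso i c z) ⟨⟨hW⟩⟩) s

theorem epi_push (hi : Topology.IsClosedEmbedding i) {F G : ModSite.Mod O_Z} (φ : F ⟶ G)
    [Epi φ] : Epi ((fm i c).push.map φ) := by
  rw [epi_iff_loc]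
  intro U t x hx
  by_cases h : x ∈ Set.range i
  · obtain ⟨z, rfl⟩ := h
    obtain ⟨V, hV, hz, s, hs⟩ := (epi_iff_loc φ).1 inferInstance ((Opens.map i).obj U)
      (toZ i c G t) z hx
    obtain ⟨W, hW, hWV⟩ := exists_open hi.toIsInducing V z hz
    let W' : Opens X := W ⊓ U
    have h4 : (Opens.map i).obj W' ≤ V := le_trans ((Opens.map i).map (homOfLE inf_le_left)).le hWV
    refine ⟨W', inf_le_right, ⟨hW, hx⟩, toX i c F (rs F h4 s), ?_⟩
    apply ClosedPush.toZ_inj
    refine (ap_rs φ h4 s).trans ?_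
    rw [hs]
    exact rs_rs _ _ _ _
  · let N : Opens X := ⟨(Set.range i)ᶜ, hi.isClosed_range.isOpen_compl⟩
    refine ⟨U ⊓ N, inf_le_left, ⟨hx, h⟩, 0, ?_⟩
    rw [map_zero]
    exact (ClosedPush.sec_zero (F := G) (c := c) (U := U ⊓ N) (fun y hy => hy.2) _).symm

theorem stalk_zero (hi : Topology.IsClosedEmbedding i) {G : ModSite.Mod O_X} (hG : Kills i c G)
    {x : X} (hx : x ∉ Set.range i) (a : ModSite.stalkAb (pt x) G) : a = 0 := by
  obtain ⟨U, ⟨⟨hxU⟩⟩, s, rfl⟩ := exists_germ G a
  let N : Opens X := ⟨(Set.range i)ᶜ, hi.isClosed_range.isOpen_compl⟩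
  have h0 : ((ModSite.RMor.ofFlat (TopologicalSpace.Opens.map i) c).sharpR.hom.app
      (op (U ⊓ N))).hom 1 = 0 := by
    exact ClosedPush.sec_zero (F := ModSite.unit O_Z) (c := c) (U := U ⊓ N) (fun y hy => hy.2) _
  have h1 := hG (U ⊓ N) 1 h0 (rs G inf_le_left s)
  rw [one_smul] at h1
  refine (germ_res G (homOfLE inf_le_left) (me (U := U ⊓ N) ⟨hxU, hx⟩) s).symm.trans ?_
  refine (congrArg (ModSite.germ (pt x) G (U ⊓ N) (me (U := U ⊓ N) ⟨hxU, hx⟩)) h1).trans ?_
  exact map_zero ((pt x).toPresheafFiber (U ⊓ N) (me (U := U ⊓ N) ⟨hxU, hx⟩)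
      (ModSite.toAb G).obj).hom

theorem kills_push (F : ModSite.Mod O_Z) : Kills i c ((fm i c).push.obj F) := by
  intro U a ha s
  have h : toZ i c F (a • s) = cm i c U a • toZ i c F s := toZ_smul i c F a s
  have h2 : cm i c U a = 0 := ha
  rw [h2, zero_smul] at h
  exact h

theorem kills_of_iso {G G' : ModSite.Mod O_X} (e : G ≅ G') (hG : Kills i c G) : Kills i c G' := by
  intro U a ha s
  have h1 : (e.hom.val.app (op U)).hom ((e.inv.val.app (op U)).hom s) = s :=
    ConcreteCategory.congr_hom (congrArg (fun k : G' ⟶ G' => k.val.app (op U)) e.inv_hom_id) s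
  have h2 := hG U a ha ((e.inv.val.app (op U)).hom s)
  have h3 := (e.hom.val.app (op U)).hom.map_smul a ((e.inv.val.app (op U)).hom s)
  rw [h1, h2, map_zero] at h3
  exact h3.symm

variable (hi : Topology.IsClosedEmbedding i) (hc : Sheaf.IsLocallySurjective c)

include hi hc

theorem isIso_counit (F : ModSite.Mod O_Z) : IsIso ((fm i c).adj.counit.app F) := by
  apply isIso_of_stalks
  intro z
  have h1 := bijective_canAdd (fm i c) (ptIso i c z) (surjective_stR hi.toIsInducing hc z)
    ((fm i c).push.obj F) (smul_stalk_eq_zero hi.toIsInducing (kills_push F) z)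
  have h2 := bijective_kz (c := c) hi.toIsInducing F z
  have h3 : ⇑(kz (fm i c) (ptIso i c z) F) =
      ⇑(ModSite.stalkMap (pt z) ((fm i c).adj.counit.app F)).hom ∘
        ⇑(canAdd (fm i c) (ptIso i c z) ((fm i c).push.obj F)) :=
    funext fun t => (counit_canAdd (fm i c) (ptIso i c z) F t).symm
  rw [h3] at h2
  exact (Function.Bijective.of_comp_iff _ h1).1 h2

theorem isIso_unit {G : ModSite.Mod O_X} (hG : Kills i c G) :
    IsIso ((fm i c).adj.unit.app G) := by
  apply isIso_of_stalks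
  intro x
  by_cases hx : x ∈ Set.range i
  · obtain ⟨z, rfl⟩ := hx
    have h1 := bijective_canAdd (fm i c) (ptIso i c z) (surjective_stR hi.toIsInducing hc z)
      G (smul_stalk_eq_zero hi.toIsInducing hG z)
    have h2 := bijective_kz (c := c) hi.toIsInducing ((fm i c).pull.obj G) z
    have h3 : ⇑(canAdd (fm i c) (ptIso i c z) G) =
        ⇑(kz (fm i c) (ptIso i c z) ((fm i c).pull.obj G)) ∘
          ⇑(ModSite.stalkMap (pt (i z)) ((fm i c).adj.unit.app G)).hom :=
      funext fun t => (kz_unit (fm i c) (ptIso i c z) G t).symm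
    rw [h3] at h1
    exact (Function.Bijective.of_comp_iff' h2 _).1 h1
  · constructor
    · intro a b _
      rw [stalk_zero hi hG hx a, stalk_zero hi hG hx b]
    · intro b
      refine ⟨0, ?_⟩
      rw [map_zero]
      exact (stalk_zero (c := c) hi (kills_push ((fm i c).pull.obj G)) hx b).symm

omit hi hc in
/-- A left exact functor which preserves epimorphisms is exact. -/
lemma preservesFiniteColimits_of_epi {A : Type*} [Category* A] [Abelian A] {B : Type*}
    [Category* B] [Abelian B] (F : A ⥤ B) [F.Additive] [PreservesFiniteLimits F]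
    (hF : ∀ ⦃X Y : A⦄ (f : X ⟶ Y) [Epi f], Epi (F.map f)) :
    PreservesFiniteColimits F := by
  rw [F.preservesFiniteColimits_iff_forall_exact_map_and_epi]
  intro S hS
  have h := (F.preservesFiniteLimits_iff_forall_exact_map_and_mono).1 inferInstance S hS
  have := hS.epi_g
  exact ⟨h.1, hF _⟩

theorem main : PreservesFiniteColimits (fm i c).push ∧ (fm i c).push.Full ∧
      (fm i c).push.Faithful ∧
      ∀ G : ModSite.Mod O_X, (fm i c).push.essImage G ↔ Kills i c G := by
  have h1 : IsIso (fm i c).adj.counit := by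
    have : ∀ F, IsIso ((fm i c).adj.counit.app F) := isIso_counit hi hc
    exact NatIso.isIso_of_isIso_app _
  have hff := (fm i c).adj.fullyFaithfulROfIsIsoCounit
  refine ⟨?_, hff.full, hff.faithful, fun G => ⟨?_, fun hG => ?_⟩⟩
  · have : (fm i c).push.IsRightAdjoint := (fm i c).adj.isRightAdjoint
    have : PreservesLimits (fm i c).push := (fm i c).adj.rightAdjoint_preservesLimits
    have : (fm i c).push.PreservesZeroMorphisms := Functor.preservesZeroMorphisms_of_isRightAdjoint _
    have := preservesBinaryBiproducts_of_preservesBinaryProducts (fm i c).push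
    have : (fm i c).push.Additive := Functor.additive_of_preservesBinaryBiproducts _
    exact preservesFiniteColimits_of_epi _ fun F G φ _ => epi_push hi φ
  · rintro ⟨F, ⟨e⟩⟩
    exact kills_of_iso e (kills_push F)
  · have := isIso_unit hi hc hG
    exact ⟨(fm i c).pull.obj G, ⟨(asIso ((fm i c).adj.unit.app G)).symm⟩⟩

end Top

end K292.ClosedMod
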