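import Groth.Agent.ModSite.K292.Germ

/-!
# Finite type modules and closed embeddings of ringed spaces
-/

set_option autoImplicit false

universe u

open CategoryTheory CategoryTheory.Limits Opposite TopologicalSpace

namespace K292.ClosedPush

open Groth.Agent.Gaga.H976.TM1 Groth.Agent.Gaga.H976.TM3 K292.Sp K292.Germ

variable {Z X : TopCat.{u}} (i : Z ⟶ X)
    {O_Z : Sheaf (Opens.grothendieckTopology Z) CommRingCat.{u}}
    {O_X : Sheaf (Opens.grothendieckTopology X) CommRingCat.{u}}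
    (c : O_X ⟶ ((TopologicalSpace.Opens.map i).sheafPushforwardContinuous CommRingCat.{u}
      (Opens.grothendieckTopology X) (Opens.grothendieckTopology Z)).obj O_Z)

/-- The direct image. -/
noncomputable abbrev psh (F : ModSite.Mod O_Z) : ModSite.Mod O_X :=
  (ModSite.RMor.ofFlat (TopologicalSpace.Opens.map i) c).push.obj F

/-- The ring map on sections. -/
noncomputable def cm (U : Opens X) : (ModSite.ringSh O_X).obj.obj (op U) →+*
    (ModSite.ringSh O_Z).obj.obj (op ((Opens.map i).obj U)) :=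
  (c.hom.app (op U)).hom

variable (F : ModSite.Mod O_Z)

/-- The identification of sections. -/
def toZ {U : Opens X} (t : (psh i c F).val.obj (op U)) : F.val.obj (op ((Opens.map i).obj U)) := t

/-- The identification of sections. -/
def toX {U : Opens X} (t : F.val.obj (op ((Opens.map i).obj U))) : (psh i c F).val.obj (op U) := t

lemma toZ_toX {U : Opens X} (t : F.val.obj (op ((Opens.map i).obj U))) :
    toZ i c F (toX i c F t) = t := rfl

lemma toX_toZ {U : Opens X} (t : (psh i c F).val.obj (op U)) :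
    toX i c F (toZ i c F t) = t := rfl

lemma toZ_smul {U : Opens X} (r : (ModSite.ringSh O_X).obj.obj (op U))
    (t : (psh i c F).val.obj (op U)) : toZ i c F (r • t) = cm i c U r • toZ i c F t := rfl

lemma toZ_add {U : Opens X} (s t : (psh i c F).val.obj (op U)) :
    toZ i c F (s + t) = toZ i c F s + toZ i c F t := rfl

lemma toZ_rs {U V : Opens X} (h : V ≤ U) (t : (psh i c F).val.obj (op U)) :
    toZ i c F (rs (psh i c F) h t) = rs F ((Opens.map i).map (homOfLE h)).le (toZ i c F t) := rfl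

/-- `toZ` as an additive map. -/
def toZh (U : Opens X) : (psh i c F).val.obj (op U) →+ F.val.obj (op ((Opens.map i).obj U)) where
  toFun := toZ i c F
  map_zero' := rfl
  map_add' := toZ_add i c F

lemma toZ_sum {U : Opens X} {ι : Type*} (S : Finset ι) (t : ι → (psh i c F).val.obj (op U)) :
    toZ i c F (∑ j ∈ S, t j) = ∑ j ∈ S, toZ i c F (t j) :=
  map_sum (toZh i c F U) t S

lemma toZ_inj {U : Opens X} {s t : (psh i c F).val.obj (op U)}
    (h : toZ i c F s = toZ i c F t) : s = t := h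

lemma cm_rr {U V : Opens X} (h : V ≤ U) (r : (ModSite.ringSh O_X).obj.obj (op U)) :
    cm i c V (rr h r) = rr ((Opens.map i).map (homOfLE h)).le (cm i c U r) :=
  ConcreteCategory.congr_hom (c.hom.naturality (homOfLE h).op) r

variable {i}

lemma exists_open (hi : Topology.IsInducing i) (V : Opens Z) (z : Z) (hz : z ∈ V) :
    ∃ (W : Opens X), i z ∈ W ∧ (Opens.map i).obj W ≤ V := by
  obtain ⟨W, hW, e⟩ := hi.isOpen_iff.1 V.2
  refine ⟨⟨W, hW⟩, ?_, ?_⟩
  · change z ∈ i ⁻¹' W
    rw [e]; exact hz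
  · intro y hy
    change y ∈ V.carrier
    rw [← e]; exact hy

lemma locSurj (hc : Sheaf.IsLocallySurjective c) {U : Opens X}
    (a : (ModSite.ringSh O_Z).obj.obj (op ((Opens.map i).obj U))) (x : X) (hx : x ∈ U) :
    ∃ (V : Opens X) (h : V ≤ U) (_ : x ∈ V) (b : (ModSite.ringSh O_X).obj.obj (op V)),
      cm i c V b = rr ((Opens.map i).map (homOfLE h)).le a := by
  have h1 := hc.imageSieve_mem (U := U) a
  obtain ⟨V, f, ⟨b, hb⟩, hxV⟩ := h1 x hx
  exact ⟨V, leOfHom f, hxV, b, hb⟩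

variable {c F}

theorem ftAt_of_push (hi : Topology.IsInducing i) (z : Z) (h : FTAt (psh i c F) (i z)) :
    FTAt F z := by
  obtain ⟨W, hxW, n, s, hs⟩ := h
  refine ⟨(Opens.map i).obj W, hxW, n, fun j => toZ i c F (s j), ?_⟩
  intro V hV t y hy
  obtain ⟨V₀, hy₀, hV₀⟩ := exists_open hi V y hy
  let V₁ : Opens X := V₀ ⊓ W
  have h1 : (Opens.map i).obj V₁ ≤ V := le_trans ((Opens.map i).map (homOfLE inf_le_left)).le hV₀
  obtain ⟨V₂, h₂, hy₂, a, ha⟩ := hs V₁ inf_le_right (toX i c F (rs F h1 t)) (i y) ⟨hy₀, hV hy⟩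
  refine ⟨(Opens.map i).obj V₂, (((Opens.map i).map (homOfLE h₂)).le).trans h1, hy₂,
    fun j => cm i c V₂ (a j), ?_⟩
  have e := congrArg (toZ i c F) ha
  rw [toZ_rs, toZ_toX, rs_rs, toZ_sum] at e
  rw [e]
  exact Finset.sum_congr rfl fun j _ => by rw [toZ_smul, toZ_rs]

lemma sec_zero {U : Opens X} (hU : ∀ x ∈ U, x ∉ Set.range i)
    (t : (psh i c F).val.obj (op U)) : t = 0 := by
  apply toZ_inj
  refine eq_zero_of_loc F (toZ i c F t) fun z hz => ?_
  exact absurd ⟨z, rfl⟩ (hU (i z) hz)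

theorem ftAt_push (hi : Topology.IsClosedEmbedding i) (hc : Sheaf.IsLocallySurjective c)
    (h : ∀ z, FTAt F z) (x : X) : FTAt (psh i c F) x := by
  let N : Opens X := ⟨(Set.range i)ᶜ, hi.isClosed_range.isOpen_compl⟩
  by_cases hx : x ∈ Set.range i
  · obtain ⟨z, rfl⟩ := hx
    obtain ⟨V₁, hz₁, n, s, hs⟩ := h z
    obtain ⟨W₁, hW₁, hW₁'⟩ := exists_open hi.toIsInducing V₁ z hz₁
    refine ⟨W₁, hW₁, n, fun j => toX i c F (rs F hW₁' (s j)), ?_⟩
    intro V hV t y hy
    by_cases hy' : y ∈ Set.range i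
    · obtain ⟨z', rfl⟩ := hy'
      have hVW : (Opens.map i).obj V ≤ (Opens.map i).obj W₁ := ((Opens.map i).map (homOfLE hV)).le
      obtain ⟨V₂, h₂, hz₂, a, ha⟩ := hs ((Opens.map i).obj V) (hVW.trans hW₁')
        (toZ i c F t) z' hy
      obtain ⟨V₃, hy₃, h₃⟩ := exists_open hi.toIsInducing V₂ z' hz₂
      let V₄ : Opens X := V₃ ⊓ V
      have h₄ : (Opens.map i).obj V₄ ≤ V₂ := le_trans ((Opens.map i).map (homOfLE inf_le_left)).le h₃
      choose V₅ h₅ hy₅ b hb using fun j => locSurj c hc (U := V₄) (rr h₄ (a j)) (i z') ⟨hy₃, hy⟩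
      obtain ⟨V₆, hy₆, h₆⟩ := exists_common (i z') V₅ hy₅
      let V₇ : Opens X := V₆ ⊓ V₄
      have h₇ : V₇ ≤ V := inf_le_right.trans inf_le_right
      refine ⟨V₇, h₇, ⟨hy₆, hy₃, hy⟩, fun j => rr (inf_le_left.trans (h₆ j)) (b j), ?_⟩
      apply toZ_inj
      rw [toZ_sum, toZ_rs]
      have h₇₂ : (Opens.map i).obj V₇ ≤ V₂ := le_trans ((Opens.map i).map (homOfLE inf_le_right)).le h₄
      have e := congrArg (rs F h₇₂) ha
      rw [rs_rs, rs_sum] at e
      rw [e]
      refine Finset.sum_congr rfl fun j _ => ?_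
      rw [toZ_smul, toZ_rs, toZ_toX, rs_rs, rs_smul, rs_rs, cm_rr, hb, rr_rr, rr_rr]
    · refine ⟨V ⊓ N, inf_le_left, ⟨hy, hy'⟩, fun _ => 0, ?_⟩
      rw [sec_zero (U := V ⊓ N) (fun y hy => hy.2) (rs _ _ t)]
      simp only [zero_smul, Finset.sum_const_zero]
  · refine ⟨N, hx, 0, Fin.elim0, ?_⟩
    intro V hV t y hy
    refine ⟨V, le_rfl, hy, Fin.elim0, ?_⟩
    rw [sec_zero (U := V) (fun y hy => hV hy) (rs _ _ t)]
    simp

theorem main (hi : Topology.IsClosedEmbedding i) (hc : Sheaf.IsLocallySurjective c) :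
    SheafOfModules.IsFiniteType (R := ModSite.ringSh O_X) (psh i c F) ↔
      SheafOfModules.IsFiniteType (R := ModSite.ringSh O_Z) F := by
  constructor
  · intro h
    exact (isFiniteType_iff F).2 fun z =>
      ftAt_of_push hi.toIsInducing z ((isFiniteType_iff (psh i c F)).1 h (i z))
  · intro h
    exact (isFiniteType_iff (psh i c F)).2 (ftAt_push hi hc ((isFiniteType_iff F).1 h))

end K292.ClosedPush
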