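import Groth.Agent.ModSite.K292.Germ
import Mathlib.CategoryTheory.Sites.Point.Skyscraper

/-!
# Colimits of modules on a ringed space, elementwise

The stalk functor on modules (as abelian groups) preserves colimits; sections of a colimit come locally
from finitely many terms, in the filtered case from one.
-/

set_option autoImplicit false

universe u

open CategoryTheory CategoryTheory.Limits Opposite TopologicalSpace

namespace K292.Colim

open Groth.Agent.Gaga.H976.TM0 Groth.Agent.Gaga.H976.TM3 K292.Sp K292.Germ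

section Site

variable {C : Type u} [SmallCategory C] {J : GrothendieckTopology C} (R : Sheaf J RingCat.{u})

/-- `toSheaf` preserves all small colimits. -/
theorem preservesColimits_toSheaf (K : Type u) [SmallCategory K] :
    PreservesColimitsOfShape K (SheafOfModules.toSheaf.{u} R) := by
  have : PreservesColimitsOfShape K (presheafToSheaf J AddCommGrpCat.{u}) :=
    (CategoryTheory.sheafificationAdjunction J
      AddCommGrpCat.{u}).leftAdjoint_preservesColimits.preservesColimitsOfShape
  have : PreservesColimitsOfShape K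
      (PresheafOfModules.sheafification.{u} (𝟙 R.obj) ⋙ SheafOfModules.toSheaf.{u} R) :=
    inferInstanceAs (PreservesColimitsOfShape K
      (PresheafOfModules.toPresheaf _ ⋙ presheafToSheaf J AddCommGrpCat.{u}))
  exact preservesColimitsOfShape_of_reflective
      (PresheafOfModules.sheafificationAdjunction.{u} (𝟙 R.obj)) _ K

end Site

variable {X : TopCat.{u}} {O : Sheaf (Opens.grothendieckTopology X) CommRingCat.{u}}

/-- The stalk functor on modules, with values in abelian groups. -/
noncomputable abbrev stF (O : Sheaf (Opens.grothendieckTopology X) CommRingCat.{u}) (x : X) :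
    ModSite.Mod O ⥤ AddCommGrpCat.{u} :=
  SheafOfModules.toSheaf (ModSite.ringSh O) ⋙ (pt x).sheafFiber

theorem preservesColimits_stF (x : X) (K : Type u) [SmallCategory K] :
    PreservesColimitsOfShape K (stF O x) := by
  have := preservesColimits_toSheaf (ModSite.ringSh O) K
  infer_instance

lemma stF_map_ge {F G : ModSite.Mod O} (φ : F ⟶ G) (x : X) {U : Opens X} (hx : x ∈ U)
    (s : F.val.obj (op U)) :
    ((stF O x).map φ).hom (ge F x hx s) = ge G x hx (ap φ U s) :=
  (pt x).toPresheafFiber_naturality_apply ((SheafOfModules.toSheaf (ModSite.ringSh O)).map φ).hom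
    U ⟨⟨hx⟩⟩ s

/-- In abelian groups, a colimit is generated by the images of the structure maps. -/
theorem closure_eq_top {K : Type u} [SmallCategory K] {D : K ⥤ AddCommGrpCat.{u}} (c : Cocone D)
    (hc : IsColimit c) :
    AddSubgroup.closure {a : c.pt | ∃ (j : K) (b : D.obj j), (c.ι.app j).hom b = a} = ⊤ := by
  set H := AddSubgroup.closure {a : c.pt | ∃ (j : K) (b : D.obj j), (c.ι.app j).hom b = a} with hH
  let q : c.pt ⟶ AddCommGrpCat.of (c.pt ⧸ H) := AddCommGrpCat.ofHom (QuotientAddGroup.mk' H)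
  have h0 : q = 0 := hc.hom_ext fun j => by
    ext b
    rw [comp_zero]
    change QuotientAddGroup.mk' H ((c.ι.app j).hom b) = 0
    rw [QuotientAddGroup.mk'_apply, QuotientAddGroup.eq_zero_iff]
    exact AddSubgroup.subset_closure ⟨j, b, rfl⟩
  rw [eq_top_iff]
  intro a _
  have h1 : q.hom a = 0 := by rw [h0]; rfl
  exact (QuotientAddGroup.eq_zero_iff a).1 h1

section Gen

variable {K : Type u} [SmallCategory K] {D : K ⥤ ModSite.Mod O} (c : Cocone D)

/-- The subgroup of sections over `U` generated by the images of the terms of the diagram. -/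
def img (U : Opens X) : AddSubgroup (c.pt.val.obj (op U)) :=
  AddSubgroup.closure {a | ∃ (j : K) (b : (D.obj j).val.obj (op U)), ap (c.ι.app j) U b = a}

lemma img_rs {U V : Opens X} (h : V ≤ U) (t : c.pt.val.obj (op U)) (ht : t ∈ img c U) :
    rs c.pt h t ∈ img c V := by
  induction ht using AddSubgroup.closure_induction with
  | mem a ha =>
    obtain ⟨j, b, rfl⟩ := ha
    exact AddSubgroup.subset_closure ⟨j, rs _ h b, ap_rs _ h b⟩
  | zero => rw [map_zero]; exact zero_mem _
  | add a b _ _ iha ihb => rw [map_add]; exact add_mem iha ihb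
  | neg a _ iha => rw [map_neg]; exact neg_mem iha

variable {c}

/-- A section of a colimit is locally in the subgroup generated by the terms. -/
theorem exists_img (hc : IsColimit c) {U : Opens X} (t : c.pt.val.obj (op U)) (x : X) (hx : x ∈ U) :
    ∃ (V : Opens X) (h : V ≤ U), x ∈ V ∧ rs c.pt h t ∈ img c V := by
  have := preservesColimits_stF (O := O) x K
  have hc' := isColimitOfPreserves (stF O x) hc
  have h1 := closure_eq_top _ hc'
  have h2 : ge c.pt x hx t ∈ AddSubgroup.closure {a : ((stF O x).mapCocone c).pt |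
      ∃ (j : K) (b : (D ⋙ stF O x).obj j), (((stF O x).mapCocone c).ι.app j).hom b = a} := by
    rw [h1]; trivial
  have key : ∃ (V : Opens X) (hV : x ∈ V) (s : c.pt.val.obj (op V)), s ∈ img c V ∧
      ge c.pt x hV s = ge c.pt x hx t := by
    generalize ge c.pt x hx t = a at h2
    induction h2 using AddSubgroup.closure_induction with
    | mem a ha =>
      obtain ⟨j, b, rfl⟩ := ha
      obtain ⟨V, hV, s, rfl⟩ := exists_ge (D.obj j) x b
      exact ⟨V, hV, ap (c.ι.app j) V s, AddSubgroup.subset_closure ⟨j, s, rfl⟩,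
        (stF_map_ge (c.ι.app j) x hV s).symm⟩
    | zero => exact ⟨U, hx, 0, zero_mem _, ge_zero _ _ _⟩
    | add a b _ _ iha ihb =>
      obtain ⟨V, hV, s, hs, ha⟩ := iha
      obtain ⟨V', hV', s', hs', hb⟩ := ihb
      have hVV : x ∈ (V ⊓ V' : Opens X) := ⟨hV, hV'⟩
      refine ⟨V ⊓ V', hVV, rs c.pt inf_le_left s + rs c.pt inf_le_right s',
        add_mem (img_rs c _ _ hs) (img_rs c _ _ hs'), ?_⟩
      rw [ge_add, ge_rs, ge_rs, ha, hb]
    | neg a _ iha =>
      obtain ⟨V, hV, s, hs, ha⟩ := iha
      refine ⟨V, hV, -s, neg_mem hs, ?_⟩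
      rw [← ha]
      exact map_neg ((pt x).toPresheafFiber V ⟨⟨hV⟩⟩ (ModSite.toAb c.pt).obj).hom s
  obtain ⟨V, hV, s, hs, e⟩ := key
  have hVU : x ∈ (V ⊓ U : Opens X) := ⟨hV, hx⟩
  have e' : ge c.pt x hVU (rs c.pt inf_le_left s) = ge c.pt x hVU (rs c.pt inf_le_right t) := by
    rw [ge_rs, ge_rs, e]
  obtain ⟨W, hW, hxW, e2⟩ := (ge_eq_iff c.pt x hVU _ _).1 e'
  refine ⟨W, hW.trans inf_le_right, hxW, ?_⟩
  rw [← rs_rs c.pt (inf_le_right : V ⊓ U ≤ U) hW, ← e2, rs_rs]
  exact img_rs c _ _ hs

section Filtered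

variable [IsFiltered K]

/-- A section of a filtered colimit comes locally from a term. -/
theorem exists_rep (hc : IsColimit c) {U : Opens X} (t : c.pt.val.obj (op U)) (x : X)
    (hx : x ∈ U) :
    ∃ (V : Opens X) (h : V ≤ U) (_ : x ∈ V) (j : K) (s : (D.obj j).val.obj (op V)),
      ap (c.ι.app j) V s = rs c.pt h t := by
  have := preservesColimits_stF (O := O) x K
  have hc' := isColimitOfPreserves (stF O x) hc
  obtain ⟨j, b, hb⟩ := Concrete.isColimit_exists_rep _ hc' (ge c.pt x hx t)
  obtain ⟨V, hV, s, rfl⟩ := exists_ge (D.obj j) x b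
  have hVU : x ∈ (V ⊓ U : Opens X) := ⟨hV, hx⟩
  have e' : ge c.pt x hVU (rs c.pt inf_le_left (ap (c.ι.app j) V s)) =
      ge c.pt x hVU (rs c.pt inf_le_right t) := by
    rw [ge_rs, ge_rs, ← hb]
    exact (stF_map_ge (c.ι.app j) x hV s).symm
  obtain ⟨W, hW, hxW, e2⟩ := (ge_eq_iff c.pt x hVU _ _).1 e'
  refine ⟨W, hW.trans inf_le_right, hxW, j, rs _ (hW.trans inf_le_left) s, ?_⟩
  refine (ap_rs (c.ι.app j) (hW.trans inf_le_left) s).trans ?_
  exact (rs_rs c.pt (inf_le_left : V ⊓ U ≤ V) hW _).symm.trans (e2.trans (rs_rs c.pt _ _ _))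

/-- A section of a term killed in the filtered colimit is killed locally at a later stage. -/
theorem exists_kill (hc : IsColimit c) {U : Opens X} {j : K} (s : (D.obj j).val.obj (op U))
    (hs : ap (c.ι.app j) U s = 0) (x : X) (hx : x ∈ U) :
    ∃ (V : Opens X) (h : V ≤ U) (_ : x ∈ V) (k : K) (f : j ⟶ k),
      ap (D.map f) V (rs _ h s) = 0 := by
  have := preservesColimits_stF (O := O) x K
  have hc' := isColimitOfPreserves (stF O x) hc
  have h1 : (((stF O x).mapCocone c).ι.app j).hom (ge (D.obj j) x hx s) =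
      (((stF O x).mapCocone c).ι.app j).hom 0 := by
    rw [map_zero]
    refine (stF_map_ge (c.ι.app j) x hx s).trans ?_
    rw [hs, ge_zero]
  obtain ⟨k, f, g, e⟩ := Concrete.isColimit_exists_of_rep_eq _ hc' _ _ h1
  have e1 : ge (D.obj k) x hx (ap (D.map f) U s) = ge (D.obj k) x hx 0 := by
    rw [ge_zero]
    refine (stF_map_ge (D.map f) x hx s).symm.trans (e.trans ?_)
    exact map_zero ((D ⋙ stF O x).map g).hom
  obtain ⟨V, hV, hxV, e2⟩ := (ge_eq_iff _ x hx _ _).1 e1
  exact ⟨V, hV, hxV, k, f, by rw [ap_rs, e2, map_zero]⟩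

end Filtered

end Gen

end K292.Colim
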