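import Groth.Agent.ModSite.K292.Colim

/-!
# Sections of a direct sum of modules over a quasi-compact open
-/

set_option autoImplicit false

universe u

open CategoryTheory CategoryTheory.Limits Opposite TopologicalSpace

namespace K292.Coprod

open Groth.Agent.Gaga.H976.TM3 K292.Sp K292.Germ K292.Colim

variable {X : TopCat.{u}} {O : Sheaf (Opens.grothendieckTopology X) CommRingCat.{u}}
  {I : Type u} (F : I → ModSite.Mod O) [HasCoproduct F]

lemma π_ι_self {U : Opens X} (i : I) (t : (F i).val.obj (op U)) [DecidableEq I] :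
    ap (Sigma.π F i) U (ap (Sigma.ι F i) U t) = t := by
  rw [← ap_comp, Sigma.ι_π_eq_id, ap_id]

lemma π_ι_ne {U : Opens X} {i j : I} (h : i ≠ j) (t : (F i).val.obj (op U)) [DecidableEq I] :
    ap (Sigma.π F j) U (ap (Sigma.ι F i) U t) = 0 := by
  rw [← ap_comp, Sigma.ι_π_of_ne _ h, ap_zero]

open Classical in
/-- `t` is the sum of its components in `S`. -/
def P (U : Opens X) (S : Finset I) (t : (∐ F).val.obj (op U)) : Prop :=
  t = ∑ i ∈ S, ap (Sigma.ι F i) U (ap (Sigma.π F i) U t)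

variable {F}

open Classical in
lemma P.mono {U : Opens X} {S S' : Finset I} {t : (∐ F).val.obj (op U)} (h : P F U S t)
    (hS : S ⊆ S') : P F U S' t := by
  have h0 : ∀ j ∉ S, ap (Sigma.π F j) U t = 0 := by
    intro j hj
    rw [h, map_sum]
    refine Finset.sum_eq_zero fun i hi => ?_
    exact π_ι_ne F (by rintro rfl; exact hj hi) _
  unfold P at h ⊢
  refine h.trans (Finset.sum_subset hS fun i _ hi => ?_)
  rw [h0 i hi, map_zero]

open Classical in
lemma P.rs {U V : Opens X} (h : V ≤ U) {S : Finset I} {t : (∐ F).val.obj (op U)} (ht : P F U S t) :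
    P F V S (rs (∐ F) h t) := by
  unfold P at ht ⊢
  conv_lhs => rw [ht]
  rw [rs_sum]
  refine Finset.sum_congr rfl fun i _ => ?_
  rw [ap_rs, ap_rs]

open Classical in
lemma P.of_img {U : Opens X} (t : (∐ F).val.obj (op U))
    (ht : t ∈ img (colimit.cocone (Discrete.functor F)) U) : ∃ S, P F U S t := by
  induction ht using AddSubgroup.closure_induction with
  | mem a ha =>
    obtain ⟨⟨i⟩, b, rfl⟩ := ha
    refine ⟨{i}, ?_⟩
    unfold P
    rw [Finset.sum_singleton]
    change ap (Sigma.ι F i) U b = ap (Sigma.ι F i) U (ap (Sigma.π F i) U (ap (Sigma.ι F i) U b))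
    rw [π_ι_self]
  | zero => exact ⟨∅, rfl⟩
  | add a b _ _ iha ihb =>
    obtain ⟨S, hS⟩ := iha
    obtain ⟨S', hS'⟩ := ihb
    refine ⟨S ∪ S', ?_⟩
    have h1 : P F U (S ∪ S') a := hS.mono Finset.subset_union_left
    have h2 : P F U (S ∪ S') b := hS'.mono Finset.subset_union_right
    unfold P at h1 h2 ⊢
    simp only [map_add, Finset.sum_add_distrib]
    exact congrArg₂ (· + ·) h1 h2
  | neg a _ iha =>
    obtain ⟨S, hS⟩ := iha
    refine ⟨S, ?_⟩
    unfold P at hS ⊢
    simp only [map_neg, Finset.sum_neg_distrib]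
    exact congrArg Neg.neg hS

open Classical in
theorem exists_P {U : Opens X} (hU : IsCompact (U : Set X)) (t : (∐ F).val.obj (op U)) :
    ∃ S, P F U S t := by
  have h1 : ∀ x : U, ∃ (V : Opens X) (h : V ≤ U) (_ : (x : X) ∈ V) (S : Finset I),
      P F V S (Groth.Agent.Gaga.H976.TM3.rs (∐ F) h t) := by
    intro x
    obtain ⟨V, h, hx, ht⟩ := exists_img (colimit.isColimit (Discrete.functor F)) t x.1 x.2
    obtain ⟨S, hS⟩ := P.of_img _ ht
    exact ⟨V, h, hx, S, hS⟩
  choose V hV hxV S hS using h1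
  obtain ⟨s, hs⟩ := hU.elim_finite_subcover (fun x : U => (V x : Set X)) (fun x => (V x).2)
    (fun x hx => Set.mem_iUnion.2 ⟨⟨x, hx⟩, hxV ⟨x, hx⟩⟩)
  refine ⟨s.biUnion S, ?_⟩
  unfold P
  refine eq_of_loc _ _ _ fun x hx => ?_
  obtain ⟨y, hy⟩ := Set.mem_iUnion.1 (hs hx)
  obtain ⟨hys, hxy⟩ := Set.mem_iUnion.1 hy
  refine ⟨V y, hV y, hxy, ?_⟩
  have h2 : P F (V y) (s.biUnion S) (Groth.Agent.Gaga.H976.TM3.rs (∐ F) (hV y) t) :=
    (hS y).mono (Finset.subset_biUnion_of_mem S hys)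
  unfold P at h2
  refine h2.trans ?_
  rw [rs_sum]
  refine Finset.sum_congr rfl fun i _ => ?_
  rw [ap_rs, ap_rs]

variable (F)

theorem main (U : Opens X) (hU : IsCompact (U : Set X)) :
    (∀ s : ModSite.sect (∐ F) U, ∃ (S : Finset I) (t : ∀ i, ModSite.sect (F i) U),
        s = ∑ i ∈ S, ((Sigma.ι F i).val.app (Opposite.op U)).hom (t i)) ∧
      ∀ (S : Finset I) (t : ∀ i, ModSite.sect (F i) U),
        ∑ i ∈ S, ((Sigma.ι F i).val.app (Opposite.op U)).hom (t i) = 0 → ∀ i ∈ S, t i = 0 := by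
  classical
  refine ⟨fun s => ?_, fun S t h i hi => ?_⟩
  · obtain ⟨S, hS⟩ := exists_P hU s
    exact ⟨S, fun i => ap (Sigma.π F i) U s, hS⟩
  · have h2 : ap (Sigma.π F i) U (∑ j ∈ S, ap (Sigma.ι F j) U (t j)) = 0 := by
      refine (congrArg (ap (Sigma.π F i) U) h).trans (map_zero _)
    rw [map_sum, Finset.sum_eq_single i] at h2
    · rwa [π_ι_self] at h2
    · intro j _ hj
      exact π_ι_ne F hj _
    · intro h; exact absurd hi h

end K292.Coprod
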