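import Groth.Prelude.Def_RDer
import Groth.Agent.RDer.K887.LES
import Groth.Agent.RDer.K887.SESMap
import Groth.Agent.S6773
import Groth.Agent.S6774

/-!
# Delta-functors and exact functors

* `precomp E T`, `postcomp G T` for exact functors `E`, `G`.
* `exists_iso`: `R^q F' ⋙ ρ ≅ ρ' ⋙ R^q F` for `ρ, ρ'` exact, as soon as `F' ⋙ ρ ≅ ρ' ⋙ F` and `ρ'` sends
  injectives to `F`-acyclic objects.
-/

set_option autoImplicit false

universe v u v' u' v₁ u₁ v₂ u₂

open CategoryTheory CategoryTheory.Limits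

namespace K292.DeltaExact

open DeltaF

variable {A : Type u} [Category.{v} A] [Abelian A] {B : Type u'} [Category.{v'} B] [Abelian B]
  {A' : Type u₁} [Category.{v₁} A'] [Abelian A'] {B' : Type u₂} [Category.{v₂} B'] [Abelian B']

/-- Precomposition of a delta-functor with an exact functor. -/
noncomputable def precomp (E : A' ⥤ A) [E.Additive] [PreservesFiniteLimits E] [PreservesFiniteColimits E]
    (T : CohDeltaFunctor A B ℕ) : CohDeltaFunctor A' B ℕ where
  F n := E ⋙ T.F n
  additive n := inferInstance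
  δ S hS n₀ n₁ h := T.δ (S.map E) (hS.map_of_exact E) n₀ n₁ h
  δ_natural hS hS' φ n₀ n₁ h := T.δ_natural (hS.map_of_exact E) (hS'.map_of_exact E) (E.mapShortComplex.map φ) n₀ n₁ h
  exact₂ S hS n := T.exact₂ (S.map E) (hS.map_of_exact E) n
  comp_δ S hS n₀ n₁ h := T.comp_δ (S.map E) (hS.map_of_exact E) n₀ n₁ h
  exact₃ S hS n₀ n₁ h := T.exact₃ (S.map E) (hS.map_of_exact E) n₀ n₁ h
  δ_comp S hS n₀ n₁ h := T.δ_comp (S.map E) (hS.map_of_exact E) n₀ n₁ h
  exact₁ S hS n₀ n₁ h := T.exact₁ (S.map E) (hS.map_of_exact E) n₀ n₁ h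

/-- Postcomposition of a delta-functor with an exact functor. -/
noncomputable def postcomp (G : B ⥤ B') [G.Additive] [PreservesFiniteLimits G] [PreservesFiniteColimits G]
    (T : CohDeltaFunctor A B ℕ) : CohDeltaFunctor A B' ℕ where
  F n := T.F n ⋙ G
  additive n := inferInstance
  δ S hS n₀ n₁ h := G.map (T.δ S hS n₀ n₁ h)
  δ_natural hS hS' φ n₀ n₁ h := by
    simp only [Functor.comp_map]
    rw [← G.map_comp, T.δ_natural hS hS' φ n₀ n₁ h, G.map_comp]
  exact₂ S hS n := (T.exact₂ S hS n).map G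
  comp_δ S hS n₀ n₁ h := by
    rw [Functor.comp_map, ← G.map_comp, T.comp_δ S hS n₀ n₁ h, G.map_zero]
  exact₃ S hS n₀ n₁ h := (T.exact₃ S hS n₀ n₁ h).map G
  δ_comp S hS n₀ n₁ h := by
    rw [Functor.comp_map, ← G.map_comp, T.δ_comp S hS n₀ n₁ h, G.map_zero]
  exact₁ S hS n₀ n₁ h := (T.exact₁ S hS n₀ n₁ h).map G

/-- The derived delta-functor. -/
noncomputable def der [HasInjectiveResolutions A] (F : A ⥤ B) [F.Additive] : CohDeltaFunctor A B ℕ :=
  (K887.LES.derivedLES F).toCohDeltaFunctor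

theorem isUniversal_of_injective [HasInjectiveResolutions A] (T : CohDeltaFunctor A B ℕ)
    (h : ∀ (I : A) [Injective I] (n : ℕ), IsZero ((T.F (n + 1)).obj I)) : T.IsUniversal := by
  apply Groth.Agent.S6773.result
  intro n X
  let I := injectiveResolution X
  have : Mono (show X ⟶ I.cocomplex.X 0 from I.ι.f 0) := inferInstanceAs (Mono (I.ι.f 0))
  refine ⟨I.cocomplex.X 0, (show X ⟶ I.cocomplex.X 0 from I.ι.f 0), this, ?_⟩
  have : Injective (I.cocomplex.X 0) := I.injective 0
  exact (h (I.cocomplex.X 0) n).eq_of_tgt _ _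

/-- Right derived functors commute with exact functors sending injectives to acyclic objects. -/
theorem exists_iso [HasInjectiveResolutions A] [HasInjectiveResolutions A'] (F' : A' ⥤ B') (F : A ⥤ B)
    [F'.Additive] [F.Additive] [PreservesFiniteLimits F'] [PreservesFiniteLimits F] (E : A' ⥤ A) (G : B' ⥤ B)
    [E.Additive] [PreservesFiniteLimits E] [PreservesFiniteColimits E]
    [G.Additive] [PreservesFiniteLimits G] [PreservesFiniteColimits G] (e : F' ⋙ G ≅ E ⋙ F)
    (h : ∀ (I : A') [Injective I] (n : ℕ), IsZero ((F.rightDerived (n + 1)).obj (E.obj I))) (q : ℕ) :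
    Nonempty (F'.rightDerived q ⋙ G ≅ E ⋙ F.rightDerived q) := by
  let T := postcomp G (der F')
  let T' := precomp E (der F)
  have hT : T.IsUniversal := isUniversal_of_injective T (fun I _ n =>
    G.map_isZero (F'.isZero_rightDerived_obj_injective_succ n I))
  have hT' : T'.IsUniversal := isUniversal_of_injective T' (fun I _ n => h I n)
  let e0 : T.F 0 ≅ T'.F 0 := Functor.isoWhiskerRight F'.rightDerivedZeroIsoSelf G ≪≫ e ≪≫
    (Functor.isoWhiskerLeft E F.rightDerivedZeroIsoSelf).symm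
  obtain ⟨φ, -, -⟩ := Groth.Agent.S6774.result T T' hT hT' e0
  exact ⟨{ hom := φ.hom.app q
           inv := φ.inv.app q
           hom_inv_id := congrArg (fun (k : T ⟶ T) => k.app q) φ.hom_inv_id
           inv_hom_id := congrArg (fun (k : T' ⟶ T') => k.app q) φ.inv_hom_id }⟩

end K292.DeltaExact
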