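import Groth.Agent.ModSite.K292.Colim

/-!
# Directed colimits with finite type colimit on a quasi-compact ringed space
-/

set_option autoImplicit false

universe u

open CategoryTheory CategoryTheory.Limits Opposite TopologicalSpace

namespace K292.DirFT

open Groth.Agent.Gaga.H976.TM3 K292.Sp K292.Germ K292.Colim

/-- A finite family of objects of a filtered category maps to a common object. -/
lemma exists_ub {K : Type*} [Category K] [IsFiltered K] {ι : Type*} [Finite ι] (j : ι → K) :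
    ∃ k : K, ∀ i, Nonempty (j i ⟶ k) := by
  classical
  have := Fintype.ofFinite ι
  obtain ⟨k, hk⟩ := IsFiltered.sup_objs_exists (Finset.univ.image j)
  exact ⟨k, fun i => hk (Finset.mem_image_of_mem j (Finset.mem_univ i))⟩

variable {X : TopCat.{u}} {O : Sheaf (Opens.grothendieckTopology X) CommRingCat.{u}}
  {K : Type u} [SmallCategory K] [IsFiltered K] {D : K ⥤ ModSite.Mod O} {c : Cocone D}

omit [IsFiltered K] in
lemma ap_w {j k : K} (f : j ⟶ k) {U : Opens X} (t : (D.obj j).val.obj (op U)) :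
    ap (c.ι.app k) U (ap (D.map f) U t) = ap (c.ι.app j) U t := by
  rw [← ap_comp, c.w f]

/-- Simultaneous lifts of finitely many sections to a term of the diagram. -/
theorem exists_reps (hc : IsColimit c) {U : Opens X} {n : ℕ} (t : Fin n → c.pt.val.obj (op U))
    (x : X) (hx : x ∈ U) :
    ∃ (V : Opens X) (h : V ≤ U) (_ : x ∈ V) (j : K) (s : Fin n → (D.obj j).val.obj (op V)),
      ∀ i, ap (c.ι.app j) V (s i) = rs c.pt h (t i) := by
  have h1 := fun i => exists_rep hc (t i) x hx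
  choose V hV hxV j s hs using h1
  obtain ⟨W, hxW, hW⟩ := exists_common x V hxV
  obtain ⟨k, hk⟩ := exists_ub j
  refine ⟨W ⊓ U, inf_le_right, ⟨hxW, hx⟩, k,
    fun i => ap (D.map (hk i).some) _ (rs _ (inf_le_left.trans (hW i)) (s i)), fun i => ?_⟩
  rw [ap_w]
  refine (ap_rs (c.ι.app (j i)) (inf_le_left.trans (hW i) : W ⊓ U ≤ V i) (s i)).trans ?_
  rw [hs i]
  exact rs_rs c.pt _ _ _

variable (D c) in
/-- Sections over opens contained in `V` lift locally to the term `k`. -/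
def Good (k : K) (V : Opens X) : Prop :=
  ∀ V' ≤ V, ∀ (z : c.pt.val.obj (op V')) (y : X), y ∈ V' →
    ∃ (V'' : Opens X) (h : V'' ≤ V') (_ : y ∈ V'') (w : (D.obj k).val.obj (op V'')),
      ap (c.ι.app k) V'' w = rs c.pt h z

lemma Good.up {k k' : K} (f : k ⟶ k') {V : Opens X} (h : Good D c k V) : Good D c k' V := by
  intro V' hV' z y hy
  obtain ⟨V'', h'', hy'', w, hw⟩ := h V' hV' z y hy
  exact ⟨V'', h'', hy'', ap (D.map f) _ w, by rw [ap_w, hw]⟩

theorem exists_good (hc : IsColimit c) (hF : c.pt.IsFiniteType) (x : X) :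
    ∃ (V : Opens X) (_ : x ∈ V) (k : K), Good D c k V := by
  obtain ⟨W, hxW, n, s, hs⟩ := (isFiniteType_iff c.pt).1 hF x
  obtain ⟨V, hV, hxV, j, t, ht⟩ := exists_reps hc s x hxW
  refine ⟨V, hxV, j, fun V' hV' z y hy => ?_⟩
  obtain ⟨V'', h'', hy'', a, ha⟩ := hs V' (hV'.trans hV) z y hy
  refine ⟨V'', h'', hy'', ∑ i, a i • rs _ (h''.trans hV') (t i), ?_⟩
  rw [map_sum, ha]
  refine Finset.sum_congr rfl fun i _ => ?_
  rw [map_smul]
  refine congrArg (a i • ·) ?_
  refine (ap_rs (c.ι.app j) (h''.trans hV') (t i)).trans ?_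
  rw [ht i]
  exact rs_rs c.pt _ _ _

theorem exists_epi [CompactSpace X] (hc : IsColimit c) (hF : c.pt.IsFiniteType) :
    ∃ k : K, Epi (c.ι.app k) := by
  choose V hxV k hk using exists_good hc hF
  obtain ⟨s, hs⟩ := isCompact_univ.elim_finite_subcover (fun x : X => (V x : Set X))
    (fun x => (V x).2) (fun x _ => Set.mem_iUnion.2 ⟨x, hxV x⟩)
  obtain ⟨k', hk'⟩ := exists_ub (fun x : s => k x)
  refine ⟨k', (epi_iff_loc _).2 fun U t x hx => ?_⟩
  obtain ⟨y, hy⟩ := Set.mem_iUnion.1 (hs (Set.mem_univ x))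
  obtain ⟨hys, hxy⟩ := Set.mem_iUnion.1 hy
  obtain ⟨V', hV', hxV', w, hw⟩ := (hk y).up (hk' ⟨y, hys⟩).some (U ⊓ V y) inf_le_right
    (rs c.pt inf_le_left t) x ⟨hx, hxy⟩
  exact ⟨V', hV'.trans inf_le_left, hxV', w, by rw [hw, rs_rs]; rfl⟩

theorem mono_ι (hc : IsColimit c) (hD : ∀ (i j : K) (f : i ⟶ j), Mono (D.map f)) (i : K) :
    Mono (c.ι.app i) := by
  refine (mono_iff_inj _).2 fun U t ht => eq_zero_of_loc _ _ fun x hx => ?_
  obtain ⟨V, hV, hxV, k, f, e⟩ := exists_kill hc t ht x hx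
  exact ⟨V, hV, hxV, (mono_iff_inj (D.map f)).1 (hD _ _ f) V _ e⟩

theorem main [CompactSpace X] (hc : IsColimit c) (hF : c.pt.IsFiniteType) :
    (∃ i : K, Epi (c.ι.app i)) ∧
      ((∀ (i j : K) (f : i ⟶ j), Mono (D.map f)) → ∃ i : K, IsIso (c.ι.app i)) := by
  obtain ⟨k, hk⟩ := exists_epi hc hF
  refine ⟨⟨k, hk⟩, fun hD => ⟨k, ?_⟩⟩
  have := mono_ι hc hD k
  exact isIso_of_mono_of_epi _

end K292.DirFT
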