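import Groth.Agent.ModSite.K292.Glue
import Groth.Agent.ModSite.K292.DirFT

/-!
# Homomorphisms from a finitely presented module into a directed colimit on a ringed space
-/

set_option autoImplicit false

universe u

open CategoryTheory CategoryTheory.Limits Opposite TopologicalSpace

namespace K292.DirHom

open Groth.Agent.Gaga.H976.TM0 Groth.Agent.Gaga.H976.TM1 Groth.Agent.Gaga.H976.TM2
open Groth.Agent.Gaga.H976.TM3 K292.Sp K292.Germ K292.Colim K292.DirFT K292.Glue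

variable {X : TopCat.{u}} {O : Sheaf (Opens.grothendieckTopology X) CommRingCat.{u}}
  {I : Type u} [Preorder I] [Nonempty I] [IsDirected I (· ≤ ·)] {D : I ⥤ ModSite.Mod O} {c : Cocone D}

omit [Nonempty I] [IsDirected I (· ≤ ·)] in
lemma ap_map_map {i j k : I} (f : i ⟶ j) (g : j ⟶ k) (h : i ⟶ k) {U : Opens X}
    (t : (D.obj i).val.obj (op U)) : ap (D.map g) U (ap (D.map f) U t) = ap (D.map h) U t := by
  rw [← ap_comp, ← D.map_comp]
  rfl

/-- Local lifting of a morphism into a directed colimit. -/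
theorem exists_local (hc : IsColimit c) {G : ModSite.Mod O} (hG : G.IsFinitePresentation)
    (φ : G ⟶ c.pt) (x : X) :
    ∃ (V : Opens X) (_ : x ∈ V) (j : I) (ψ : PHom G (D.obj j) V),
      ∀ (V' : Opens X) (h : V' ≤ V) (g : G.val.obj (op V')),
        ap (c.ι.app j) V' (ψ.f V' h g) = ap φ V' g := by
  obtain ⟨W, hxW, n, m, s, r, hs, hr⟩ := (isFinitePresentation_iff G).1 hG x
  obtain ⟨V, hV, hxV, j, t, ht⟩ := exists_reps hc (fun a => ap φ W (s a)) x hxW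
  have hrel : ∀ k : Fin m, ∃ (V' : Opens X) (h : V' ≤ V) (_ : x ∈ V') (j' : I) (f : j ⟶ j'),
      ap (D.map f) V' (rs _ h (∑ a, rr hV (r k a) • t a)) = 0 := by
    intro k
    refine exists_kill hc _ ?_ x hxV
    rw [map_sum, ← map_zero (ap φ V), ← map_zero (rs G hV), ← hr.1 k, rs_sum, map_sum]
    refine Finset.sum_congr rfl fun a _ => ?_
    rw [map_smul, ht a, rs_smul, map_smul, ap_rs]
  choose V' hV' hxV' j' f hf using hrel
  obtain ⟨V₁, hxV₁, hV₁⟩ := exists_common x V' hxV'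
  obtain ⟨j₁, hj₁⟩ := exists_ub (fun k : Option (Fin m) => k.elim j j')
  have f₀ : j ⟶ j₁ := (hj₁ none).some
  have fk : ∀ k, j' k ⟶ j₁ := fun k => (hj₁ (some k)).some
  let V₂ : Opens X := V₁ ⊓ V
  have hV₂ : V₂ ≤ V := inf_le_right
  let t' : Fin n → (D.obj j₁).val.obj (op V₂) := fun a => ap (D.map f₀) V₂ (rs _ hV₂ (t a))
  have hrel' : ∀ k : Fin m, ∑ a, rr (hV₂.trans hV) (r k a) • t' a = 0 := by
    intro k
    have e1 := congrArg (ap (D.map (fk k)) (V' k)) (hf k)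
    rw [ap_map_map (f k) (fk k) f₀, map_zero] at e1
    have e2 := congrArg (rs (D.obj j₁) ((inf_le_left : V₂ ≤ V₁).trans (hV₁ k))) e1
    rw [map_zero, ← ap_rs, rs_rs, rs_sum, map_sum] at e2
    rw [← e2]
    refine Finset.sum_congr rfl fun a _ => ?_
    rw [rs_smul, map_smul, rr_rr]
  have hs' : LGen G V₂ (fun a => rs G (hV₂.trans hV) (s a)) := lgen_mono hs _
  have hr' : LRel G V₂ (fun a => rs G (hV₂.trans hV) (s a)) (fun k a => rr (hV₂.trans hV) (r k a)) :=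
    lrel_mono hr _
  obtain ⟨q, hq⟩ := K292.SiteSec.exists_desc (N := (D.obj j₁).over V₂) _ _ (gen_of_lgen _ hs')
    (rel_of_lrel _ _ hr') (fun a : ULift.{u} (Fin n) => Groth.Agent.Gaga.H976.TM3.toSec (D.obj j₁) V₂ (t' a.down)) (by
      intro k Z
      have e := congrArg (rs (D.obj j₁) (leOfHom Z.unop.hom)) (hrel' k.down)
      rw [map_zero, rs_sum] at e
      refine Eq.trans ?_ e
      rw [← Equiv.sum_comp Equiv.ulift.{u}.symm]
      refine Finset.sum_congr rfl fun a _ => ?_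
      rw [rs_smul]
      rfl)
  refine ⟨V₂, ⟨hxV₁, hxV⟩, j₁, PHom.ofOver q, fun V'' h g => ?_⟩
  refine eq_of_loc _ _ _ fun y hy => ?_
  obtain ⟨V₃, h₃, hy₃, e, he⟩ := hs' V'' h g y hy
  refine ⟨V₃, h₃, hy₃, ?_⟩
  rw [← ap_rs, ← ap_rs]
  have e3 := (PHom.ofOver q).nat h h₃ g
  rw [← e3, he, map_sum, map_sum, map_sum]
  refine Finset.sum_congr rfl fun a _ => ?_
  rw [map_smul, map_smul, map_smul]
  have e4 : (PHom.ofOver q).f V₃ (h₃.trans h) (rs G (h₃.trans h) (rs G (hV₂.trans hV) (s a))) =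
      rs (D.obj j₁) (h₃.trans h) (t' a) :=
    hq ⟨a⟩ (op (Over.mk (homOfLE (h₃.trans h))))
  rw [e4]
  refine congrArg (e a • ·) ?_
  refine (ap_rs (c.ι.app j₁) (h₃.trans h) (t' a)).trans ?_
  simp only [t']
  rw [ap_w f₀]
  refine (congrArg (rs c.pt (h₃.trans h)) (ap_rs (c.ι.app j) hV₂ (t a))).trans ?_
  rw [ht a]
  refine (congrArg (rs c.pt (h₃.trans h)) (rs_rs c.pt hV hV₂ _)).trans ?_
  rw [ap_rs, ap_rs]
  rfl

/-- Two partial morphisms into a term agreeing in the colimit agree at a later stage. -/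
theorem exists_agree (hc : IsColimit c) {G : ModSite.Mod O} (hG : G.IsFiniteType) {U : Opens X}
    (hU : IsCompact (U : Set X)) {j : I} (ψ ψ' : PHom G (D.obj j) U)
    (h : ∀ (V : Opens X) (hV : V ≤ U) (g : G.val.obj (op V)),
      ap (c.ι.app j) V (ψ.f V hV g) = ap (c.ι.app j) V (ψ'.f V hV g)) :
    ∃ (k : I) (f : j ⟶ k), ∀ (V : Opens X) (hV : V ≤ U) (g : G.val.obj (op V)),
      ap (D.map f) V (ψ.f V hV g) = ap (D.map f) V (ψ'.f V hV g) := by
  have hloc : ∀ x : U, ∃ (V : Opens X) (_ : (x : X) ∈ V) (k : I) (f : j ⟶ k),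
      ∀ (V' : Opens X) (hV' : V' ≤ V) (hVU : V' ≤ U) (g : G.val.obj (op V')),
        ap (D.map f) V' (ψ.f V' hVU g) = ap (D.map f) V' (ψ'.f V' hVU g) := by
    intro x
    obtain ⟨W, hxW, n, s, hs⟩ := (isFiniteType_iff G).1 hG x.1
    let W' : Opens X := W ⊓ U
    have hx' : x.1 ∈ W' := ⟨hxW, x.2⟩
    have hk : ∀ a : Fin n, ∃ (V : Opens X) (h : V ≤ W') (_ : x.1 ∈ V) (k : I) (f : j ⟶ k),
        ap (D.map f) V (rs _ h (ψ.f W' inf_le_right (rs G inf_le_left (s a)) -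
          ψ'.f W' inf_le_right (rs G inf_le_left (s a)))) = 0 := by
      intro a
      refine exists_kill hc _ ?_ x.1 hx'
      rw [map_sub, sub_eq_zero]
      exact h _ _ _
    choose V hV hxV k f hf using hk
    obtain ⟨V₁, hxV₁, hV₁⟩ := exists_common x.1 V hxV
    obtain ⟨k₁, hk₁⟩ := exists_ub (fun k' : Option (Fin n) => k'.elim j k)
    have f₀ : j ⟶ k₁ := (hk₁ none).some
    have fk : ∀ a, k a ⟶ k₁ := fun a => (hk₁ (some a)).some
    refine ⟨V₁ ⊓ W', ⟨hxV₁, hx'⟩, k₁, f₀, fun V' hV' hVU g => ?_⟩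
    refine eq_of_loc _ _ _ fun y hy => ?_
    obtain ⟨V₂, h₂, hy₂, e, he⟩ := hs V' (hV'.trans (inf_le_right.trans inf_le_left)) g y hy
    refine ⟨V₂, h₂, hy₂, ?_⟩
    rw [← ap_rs, ← ap_rs, ← ψ.nat hVU h₂, ← ψ'.nat hVU h₂, he]
    simp only [map_sum, map_smul]
    refine Finset.sum_congr rfl fun a _ => congrArg (e a • ·) ?_
    have h21 : V₂ ≤ V a := (h₂.trans hV').trans (inf_le_left.trans (hV₁ a))
    have h2W : V₂ ≤ W' := (h₂.trans hV').trans inf_le_right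
    have e1 := congrArg (ap (D.map (fk a)) (V a)) (hf a)
    rw [ap_map_map (f a) (fk a) f₀, map_zero] at e1
    have e2 := congrArg (rs (D.obj k₁) h21) e1
    rw [map_zero, ← ap_rs, rs_rs, map_sub, map_sub, sub_eq_zero] at e2
    rw [← ψ.nat inf_le_right (h21.trans (hV a)), ← ψ'.nat inf_le_right (h21.trans (hV a)),
      rs_rs] at e2
    exact e2
  choose V hxV k f hf using hloc
  obtain ⟨S, hS⟩ := hU.elim_finite_subcover (fun x : U => (V x : Set X)) (fun x => (V x).2)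
    (fun x hx => Set.mem_iUnion.2 ⟨⟨x, hx⟩, hxV ⟨x, hx⟩⟩)
  obtain ⟨k₁, hk₁⟩ := exists_ub (fun k' : Option S => k'.elim j (fun x => k x))
  have f₀ : j ⟶ k₁ := (hk₁ none).some
  have fk : ∀ x : S, k x ⟶ k₁ := fun a => (hk₁ (some a)).some
  refine ⟨k₁, f₀, fun V' hV' g => ?_⟩
  refine eq_of_loc _ _ _ fun y hy => ?_
  obtain ⟨z, hz⟩ := Set.mem_iUnion.1 (hS (hV' hy))
  obtain ⟨hzS, hyz⟩ := Set.mem_iUnion.1 hz
  refine ⟨V' ⊓ V z, inf_le_left, ⟨hy, hyz⟩, ?_⟩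
  rw [← ap_rs, ← ap_rs, ← ψ.nat hV', ← ψ'.nat hV']
  have e := congrArg (ap (D.map (fk ⟨z, hzS⟩)) (V' ⊓ V z))
    (hf z (V' ⊓ V z) inf_le_right (inf_le_left.trans hV') (rs G inf_le_left g))
  rw [ap_map_map (f z) (fk ⟨z, hzS⟩) f₀, ap_map_map (f z) (fk ⟨z, hzS⟩) f₀] at e
  exact e

end K292.DirHom
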