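import Groth.Agent.ModSite.K292.SiteSec
import Groth.Agent.ModSite.K295.EqCrit
import Groth.Agent.ModSite.K295.FlatCrit

/-!
# Morphisms from finitely presented to flat modules factor locally through finite free modules
-/

set_option autoImplicit false

universe u

open CategoryTheory CategoryTheory.Limits Opposite

namespace K292.FactFree

open Groth.Agent.Gaga.H976.TM0 Groth.Agent.Gaga.H976.TM1 Groth.Agent.Gaga.H976.TM2 K292.SiteSec

variable {C : Type u} [SmallCategory C] {J : GrothendieckTopology C}
  {O : Sheaf J CommRingCat.{u}}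

/-- The section of the free module with constant coordinates. -/
noncomputable def cst (V : C) {I : Type u} [Fintype I]
    (c : I → (ModSite.ringSh O).obj.obj (op V)) :
    (SheafOfModules.free (R := (ModSite.ringSh O).over V) I).sections :=
  (SheafOfModules.free (R := (ModSite.ringSh O).over V) I).unitHomEquiv
    (relHom (fun k => toRSec V (c k)))

lemma co_cst (V : C) {I : Type u} [Fintype I] [DecidableEq I]
    (c : I → (ModSite.ringSh O).obj.obj (op V)) (Z : (Over V)ᵒᵖ) (j : I) :
    co (sec (cst V c) Z) j = rsec (toRSec V (c j)) Z :=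
  co_relHom (fun k => toRSec V (c k)) Z j

theorem factor {F H : ModSite.Mod O} (φ : F ⟶ H) {Y : C} {I K : Type u} [Fintype I] [Fintype K]
    (s : I → (F.over Y).sections) (r : K → I → RSec ((ModSite.ringSh O).over Y))
    (hs : Gen s) (hr : Rel s r) {V : C} (h : V ⟶ Y) {l : ℕ} (t : Fin l → H.val.obj (op V))
    (a : I → Fin l → (ModSite.ringSh O).obj.obj (op V))
    (h1 : ∀ j, H.val.restrictₛₗ h.op (φ.val.app (op Y) (ofSec F Y (s j))) = ∑ k, a j k • t k)
    (h2 : ∀ i k, ∑ j, (ModSite.ringSh O).obj.map h.op
      (show (ModSite.ringSh O).obj.obj (op Y) from rsec (r i j) (op (Over.mk (𝟙 Y)))) * a j k = 0) :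
    ∃ (a : (ModSite.restr O V).obj F ⟶ SheafOfModules.free (ULift.{u} (Fin l)))
      (b : SheafOfModules.free (ULift.{u} (Fin l)) ⟶ (ModSite.restr O V).obj H),
        a ≫ b = (ModSite.restr O V).map φ := by
  classical
  have hs' := gen_res F h s hs
  have hr' := rel_res F h s r hr
  -- the first map
  obtain ⟨α, hα⟩ := exists_desc (N := SheafOfModules.free (R := (ModSite.ringSh O).over V)
    (ULift.{u} (Fin l))) _ _ hs' hr' (fun j => cst V (fun k : ULift.{u} (Fin l) => a j k.down)) (by
      intro i Z
      rw [← ofCo_co (∑ j, rsec (resRSec h (r i j)) Z •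
        sec (cst V (fun k : ULift.{u} (Fin l) => a j k.down)) Z)]
      have h0 : co (∑ j, rsec (resRSec h (r i j)) Z •
        sec (cst V (fun k : ULift.{u} (Fin l) => a j k.down)) Z) = fun _ => 0 := by
        funext k
        rw [co_sum]
        simp only [co_cst, rsec_toRSec]
        have e := congrArg ((ModSite.ringSh O).obj.map Z.unop.hom.op) (h2 i k.down)
        rw [map_sum, map_zero] at e
        refine Eq.trans ?_ e
        refine Finset.sum_congr rfl fun j _ => ?_
        rw [map_mul]
        refine congrArg (fun x => x * ((ModSite.ringSh O).obj.map Z.unop.hom.op (a j k.down))) ?_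
        have e2 := rsec_eq Y (r i j) (op ((Over.map h).obj Z.unop))
        refine Eq.trans e2 ?_
        change (ModSite.ringSh O).obj.map (Z.unop.hom ≫ h).op _ = _
        rw [op_comp, Functor.map_comp]
        rfl
      rw [h0]
      unfold ofCo
      exact Finset.sum_eq_zero fun k _ => zero_smul _ _)
  let β : SheafOfModules.free (R := (ModSite.ringSh O).over V) (ULift.{u} (Fin l)) ⟶ H.over V :=
    (H.over V).freeHomEquiv.symm (fun k => toSec H V (t k.down))
  refine ⟨α, β, ?_⟩
  refine hom_ext _ hs' _ _ fun j Z => ?_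
  have e1 : (α ≫ β).val.app Z (sec (resSec F h (s j)) Z) =
      β.val.app Z (sec (cst V (fun k : ULift.{u} (Fin l) => a j k.down)) Z) :=
    congrArg (fun x => β.val.app Z x) (hα j Z)
  refine Eq.trans e1 ?_
  rw [map_free β Z]
  have e3 : (H.over V).freeHomEquiv β = fun k => toSec H V (t k.down) := Equiv.apply_symm_apply _ _
  rw [e3]
  simp only [co_cst]
  -- the right hand side
  have e4 : ((ModSite.restr O V).map φ).val.app Z (sec (resSec F h (s j)) Z) =
      (show (H.over V).val.obj Z from H.val.restrictₛₗ Z.unop.hom.op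
        (H.val.restrictₛₗ h.op (φ.val.app (op Y) (ofSec F Y (s j))))) := by
    change φ.val.app (op Z.unop.left) (sec (s j) (op ((Over.map h).obj Z.unop))) = _
    have e5 := sec_eq F Y (s j) (op ((Over.map h).obj Z.unop))
    refine Eq.trans (congrArg (fun x => φ.val.app (op Z.unop.left) x) e5) ?_
    change φ.val.app (op Z.unop.left) (F.val.restrictₛₗ (Z.unop.hom ≫ h).op (ofSec F Y (s j))) = _
    rw [app_res]
    have e6 := H.val.map_comp_apply h.op Z.unop.hom.op (φ.val.app (op Y) (ofSec F Y (s j)))
    exact e6
  refine Eq.trans ?_ e4.symm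
  rw [h1 j, map_sum, ← Equiv.sum_comp Equiv.ulift.{u}.symm]
  refine Finset.sum_congr rfl fun k _ => ?_
  exact (map_smulₛₗ (H.val.restrictₛₗ Z.unop.hom.op) (a j k) (t k)).symm

end K292.FactFree
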