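import Groth.Agent.ModSite.K292.FactFree

/-!
# Local factorisation through finite free modules
-/

set_option autoImplicit false

universe u

open CategoryTheory CategoryTheory.Limits Opposite

namespace K292.FactMain

open Groth.Agent.Gaga.H976.TM0 Groth.Agent.Gaga.H976.TM1 Groth.Agent.Gaga.H976.TM2 K292.SiteSec
open K292.FactFree

variable {C : Type u} [SmallCategory C] {J : GrothendieckTopology C}
  {O : Sheaf J CommRingCat.{u}}

/-- The factorisation property over `V`. -/
def Fact {F H : ModSite.Mod O} (φ : F ⟶ H) (V : C) : Prop :=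
  ∃ (n : ℕ) (a : (ModSite.restr O V).obj F ⟶ SheafOfModules.free (ULift.{u} (Fin n)))
        (b : SheafOfModules.free (ULift.{u} (Fin n)) ⟶ (ModSite.restr O V).obj H),
        a ≫ b = (ModSite.restr O V).map φ

theorem exists_sieve {F H : ModSite.Mod O} (hH : ModSite.IsFlat H) (φ : F ⟶ H) {Y : C}
    {I K : Type u} [Fintype I] [Fintype K]
    (s : I → (F.over Y).sections) (r : K → I → RSec ((ModSite.ringSh O).over Y))
    (hs : Gen s) (hr : Rel s r) :
    ∃ S ∈ J Y, ∀ ⦃V : C⦄ (g : V ⟶ Y), S.arrows g → Fact φ V := by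
  classical
  have hT : K295.EqCrit.RelTriv J ((K291.Mon.toP O).obj H) := by
    have h := hH
    rw [K295.FlatCrit.isFlat_iff_LI_injective] at h
    exact (K295.EqCrit.relTriv_iff J ((K291.Mon.toP O).obj H)).2 h
  let e : I ≃ Fin (Fintype.card I) := Fintype.equivFin I
  let e' : K ≃ Fin (Fintype.card K) := Fintype.equivFin K
  have hrel : ∀ k : Fin (Fintype.card K), ∑ j : Fin (Fintype.card I),
      (show (ModSite.ringSh O).obj.obj (op Y) from
        rsec (r (e'.symm k) (e.symm j)) (op (Over.mk (𝟙 Y)))) •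
        (show H.val.obj (op Y) from φ.val.app (op Y) (ofSec F Y (s (e.symm j)))) = 0 := by
    intro k
    have h1 := hr.1 (e'.symm k) (op (Over.mk (𝟙 Y)))
    have h2 := (congrArg (φ.val.app (op Y)).hom h1).trans (map_zero (φ.val.app (op Y)).hom)
    refine Eq.trans ?_ h2
    refine Eq.trans ?_ (map_sum (φ.val.app (op Y)).hom (fun j : I =>
      (show (ModSite.ringSh O).obj.obj (op Y) from
        rsec (r (e'.symm k) j) (op (Over.mk (𝟙 Y)))) •
        (show F.val.obj (op Y) from ofSec F Y (s j))) Finset.univ).symm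
    rw [← Equiv.sum_comp e.symm]
    refine Finset.sum_congr rfl fun j _ => ?_
    exact ((φ.val.app (op Y)).hom.map_smul _ _).symm
  obtain ⟨S, hS, hfac⟩ := hT.system (κ := Fin (Fintype.card K)) (ι := Fin (Fintype.card I))
    (fun k j => rsec (r (e'.symm k) (e.symm j)) (op (Over.mk (𝟙 Y))))
    (fun j => φ.val.app (op Y) (ofSec F Y (s (e.symm j)))) hrel
  refine ⟨S, hS, fun V g hg => ?_⟩
  obtain ⟨fac⟩ := hfac g hg
  refine ⟨fac.l, factor φ s r hs hr g fac.t (fun j k => fac.a (e j) k) (fun j => ?_)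
    (fun i k => ?_)⟩
  · have h := fac.eq (e j)
    rw [Equiv.symm_apply_apply] at h
    exact h
  · have h := fac.rel (e' i) k
    refine Eq.trans ?_ h
    rw [← Equiv.sum_comp e.symm]
    refine Finset.sum_congr rfl fun j _ => ?_
    simp only [Equiv.symm_apply_apply, Equiv.apply_symm_apply]
    exact mul_comm (G := O.obj.obj (op V)) _ _

theorem main (F H : ModSite.Mod O) (hF : F.IsFinitePresentation) (hH : ModSite.IsFlat H)
    (φ : F ⟶ H) (X : C) :
    ∃ (ι : Type u) (Y : ι → C) (g : ∀ i, Y i ⟶ X), Sieve.ofArrows Y g ∈ J X ∧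
      ∀ i, Fact φ (Y i) := by
  classical
  obtain ⟨σ, hσ⟩ := SheafOfModules.IsFinitePresentation.exists_quasicoherentData F
  have key : ∀ i : σ.I, ∃ S ∈ J (σ.X i), ∀ ⦃V : C⦄ (g : V ⟶ σ.X i), S.arrows g → Fact φ V := by
    intro i
    have hP := hσ.isFinite_presentation i
    have hf1 : Finite (σ.presentation i).generators.I := hP.isFiniteType_generators.finite
    have hf2 : Finite (σ.presentation i).relations.I := hP.isFiniteType_relations.finite
    let _ := Fintype.ofFinite (σ.presentation i).generators.I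
    let _ := Fintype.ofFinite (σ.presentation i).relations.I
    obtain ⟨r, hr⟩ := exists_rel (σ.presentation i)
    exact exists_sieve hH φ (σ.presentation i).generators.s r
      ((epi_iff_gen _).1 (σ.presentation i).generators.epi) hr
  choose S hS hfac using key
  let T : Sieve X := ⟨fun V _ => ∃ (i : σ.I) (h : V ⟶ σ.X i), (S i).arrows h, by
    rintro V W f ⟨i, h, hh⟩ g
    exact ⟨i, g ≫ h, (S i).downward_closed hh g⟩⟩
  have hT : T ∈ J X := by
    refine J.transitive (σ.coversTop X) T fun V f hf => ?_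
    obtain ⟨i, ⟨h⟩⟩ := (Sieve.mem_ofObjects_iff ..).mp hf
    refine J.superset_covering ?_ (J.pullback_stable h (hS i))
    intro W g hg
    exact ⟨i, g ≫ h, hg⟩
  refine ⟨{p : Σ V : C, (V ⟶ X) // T.arrows p.2}, fun p => p.1.1, fun p => p.1.2,
    J.superset_covering ?_ hT, ?_⟩
  · intro V f hf
    exact Sieve.ofArrows_mk _ _ (⟨⟨V, f⟩, hf⟩ : {p : Σ V : C, (V ⟶ X) // T.arrows p.2})
  · rintro ⟨⟨V, f⟩, i, h, hh⟩
    exact hfac i h hh

end K292.FactMain
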