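import Groth.Agent.S9095
import Groth.Agent.ModSite.K292.Germ
import Mathlib.RingTheory.Flat.EquationalCriterion

/-!
# Equational criterion of flatness on a ringed space; flatness and stalks
-/

set_option autoImplicit false

universe u

open CategoryTheory CategoryTheory.Limits Opposite TopologicalSpace

namespace K292.FlatEq

open Groth.Agent.Gaga.H976.TM1 Groth.Agent.Gaga.H976.TM3 K292.Sp K292.Germ

variable {X : TopCat.{u}} {O : Sheaf (Opens.grothendieckTopology X) CommRingCat.{u}}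

/-- The relation `∑ f i • s i = 0` is trivial over `V`. -/
def Triv (F : ModSite.Mod O) {U V : Opens X} (hV : V ≤ U) {n : ℕ}
    (f : Fin n → (ModSite.ringSh O).obj.obj (op U)) (s : Fin n → F.val.obj (op U)) : Prop :=
  ∃ (m : ℕ) (a : Fin n → Fin m → (ModSite.ringSh O).obj.obj (op V))
      (t : Fin m → F.val.obj (op V)),
      (∀ i, rs F hV (s i) = ∑ j, a i j • t j) ∧ ∀ j, ∑ i, rr hV (f i) * a i j = 0

lemma Triv.mono {F : ModSite.Mod O} {U V : Opens X} {hV : V ≤ U} {n : ℕ}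
    {f : Fin n → (ModSite.ringSh O).obj.obj (op U)} {s : Fin n → F.val.obj (op U)}
    (h : Triv F hV f s) {W : Opens X} (hW : W ≤ V) : Triv F (hW.trans hV) f s := by
  obtain ⟨m, a, t, h1, h2⟩ := h
  refine ⟨m, fun i j => rr hW (a i j), fun j => rs F hW (t j), fun i => ?_, fun j => ?_⟩
  · have := congrArg (rs F hW) (h1 i)
    rw [rs_rs, rs_sum] at this
    rw [this]
    exact Finset.sum_congr rfl fun j _ => by rw [rs_smul]
  · have := congrArg (rr hW) (h2 j)
    rw [map_sum, map_zero] at this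
    rw [← this]
    exact Finset.sum_congr rfl fun i _ => by rw [map_mul, rr_rr]

/-- Equational criterion of flatness on a ringed space. -/
theorem isFlat_iff (F : ModSite.Mod O) :
    ModSite.IsFlat F ↔ ∀ (U : Opens X) (n : ℕ) (f : Fin n → (ModSite.ringSh O).obj.obj (op U))
      (s : Fin n → F.val.obj (op U)), ∑ i, f i • s i = 0 → ∀ x ∈ U,
        ∃ (V : Opens X) (hV : V ≤ U), x ∈ V ∧ Triv F hV f s := by
  rw [Groth.Agent.S9095.result]
  constructor
  · intro h U n f s hrel x hx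
    obtain ⟨S, hS, h⟩ := h U n f s hrel
    obtain ⟨V, i, hi, hxV⟩ := hS x hx
    obtain ⟨l, t, a, h1, h2⟩ := h i hi
    refine ⟨V, leOfHom i, hxV, l, a, t, h1, fun k => ?_⟩
    refine Eq.trans ?_ (h2 k)
    exact Finset.sum_congr rfl fun j _ => mul_comm (G := O.obj.obj (op V)) _ _
  · intro h U n f s hrel
    refine ⟨⟨fun V i => Triv F (leOfHom i) f s, fun {V W} i hi j => hi.mono (leOfHom j)⟩,
      fun x hx => ?_, ?_⟩
    · obtain ⟨V, hV, hxV, ht⟩ := h U n f s hrel x hx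
      exact ⟨V, homOfLE hV, ht, hxV⟩
    · rintro V g ⟨m, a, t, h1, h2⟩
      refine ⟨m, t, a, h1, fun k => ?_⟩
      refine Eq.trans ?_ (h2 k)
      exact Finset.sum_congr rfl fun j _ => mul_comm (G := O.obj.obj (op V)) _ _

lemma gr_rr (x : X) {U V : Opens X} (h : V ≤ U) (hx : x ∈ V)
    (r : (ModSite.ringSh O).obj.obj (op U)) : gr O x hx (rr h r) = gr O x (h hx) r :=
  (pt x).toPresheafFiber_w_apply (homOfLE h) ⟨⟨hx⟩⟩ O.obj r

lemma exists_gr (x : X) (a : ModSite.stalkRing (pt x) O) :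
    ∃ (U : Opens X) (hx : x ∈ U) (r : (ModSite.ringSh O).obj.obj (op U)), gr O x hx r = a := by
  obtain ⟨U, ⟨⟨hx⟩⟩, r, rfl⟩ := (pt x).toPresheafFiber_jointly_surjective (P := O.obj) a
  exact ⟨U, hx, r, rfl⟩

lemma gr_eq_iff (x : X) {U : Opens X} (hx : x ∈ U)
    (r r' : (ModSite.ringSh O).obj.obj (op U)) :
    gr O x hx r = gr O x hx r' ↔ ∃ (V : Opens X) (h : V ≤ U), x ∈ V ∧ rr h r = rr h r' := by
  refine ((pt x).toPresheafFiber_eq_iff' U ⟨⟨hx⟩⟩ (P := O.obj) r r').trans ?_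
  constructor
  · rintro ⟨V, f, ⟨⟨hy⟩⟩, -, h⟩
    exact ⟨V, leOfHom f, hy, h⟩
  · rintro ⟨V, h, hy, e⟩
    exact ⟨V, homOfLE h, ⟨⟨hy⟩⟩, rfl, e⟩

lemma gr_zero (x : X) {U : Opens X} (hx : x ∈ U) : gr O x hx 0 = 0 :=
  map_zero ((pt x).toPresheafFiber U ⟨⟨hx⟩⟩ O.obj).hom

lemma gr_mul (x : X) {U : Opens X} (hx : x ∈ U) (r r' : (ModSite.ringSh O).obj.obj (op U)) :
    gr O x hx (r * r') = gr O x hx r * gr O x hx r' :=
  map_mul ((pt x).toPresheafFiber U ⟨⟨hx⟩⟩ O.obj).hom _ _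

lemma gr_sum (x : X) {U : Opens X} (hx : x ∈ U) {ι : Type*} (S : Finset ι)
    (r : ι → (ModSite.ringSh O).obj.obj (op U)) :
    gr O x hx (∑ i ∈ S, r i) = ∑ i ∈ S, gr O x hx (r i) :=
  map_sum ((pt x).toPresheafFiber U ⟨⟨hx⟩⟩ O.obj).hom r S

/-- Finitely many germs come from sections over a common neighbourhood, inside a given one. -/
lemma exists_ges (F : ModSite.Mod O) (x : X) {ι : Type*} [Finite ι] (a : ι → ModSite.stalkAb (pt x) F)
    (W : Opens X) (hW : x ∈ W) :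
    ∃ (U : Opens X) (_ : U ≤ W) (hx : x ∈ U) (s : ι → F.val.obj (op U)), ∀ i, ge F x hx (s i) = a i := by
  choose V hV s hs using fun i => exists_ge F x (a i)
  obtain ⟨U, hxU, hU⟩ := exists_common x V hV
  have hx : x ∈ U ⊓ W := ⟨hxU, hW⟩
  refine ⟨U ⊓ W, inf_le_right, hx, fun i => rs F (inf_le_left.trans (hU i)) (s i), fun i => ?_⟩
  rw [ge_rs, hs]

lemma exists_grs (x : X) {ι : Type*} [Finite ι] (a : ι → ModSite.stalkRing (pt x) O)
    (W : Opens X) (hW : x ∈ W) :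
    ∃ (U : Opens X) (_ : U ≤ W) (hx : x ∈ U) (s : ι → (ModSite.ringSh O).obj.obj (op U)),
      ∀ i, gr O x hx (s i) = a i := by
  choose V hV s hs using fun i => exists_gr x (a i)
  obtain ⟨U, hxU, hU⟩ := exists_common x V hV
  have hx : x ∈ U ⊓ W := ⟨hxU, hW⟩
  refine ⟨U ⊓ W, inf_le_right, hx, fun i => rr (inf_le_left.trans (hU i)) (s i), fun i => ?_⟩
  rw [gr_rr, hs]

/-- Equalities of finitely many germs hold over a common neighbourhood. -/
lemma exists_ge_eqs (F : ModSite.Mod O) (x : X) {ι : Type*} [Finite ι] {U : Opens X} (hx : x ∈ U)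
    (s t : ι → F.val.obj (op U)) (h : ∀ i, ge F x hx (s i) = ge F x hx (t i)) :
    ∃ (V : Opens X) (hV : V ≤ U), x ∈ V ∧ ∀ i, rs F hV (s i) = rs F hV (t i) := by
  choose V hV hxV e using fun i => (ge_eq_iff F x hx _ _).1 (h i)
  obtain ⟨W, hxW, hW⟩ := exists_common x V hxV
  refine ⟨W ⊓ U, inf_le_right, ⟨hxW, hx⟩, fun i => ?_⟩
  have := congrArg (rs F (inf_le_left.trans (hW i) : W ⊓ U ≤ V i)) (e i)
  rwa [rs_rs, rs_rs] at this

lemma exists_gr_eqs (x : X) {ι : Type*} [Finite ι] {U : Opens X} (hx : x ∈ U)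
    (s t : ι → (ModSite.ringSh O).obj.obj (op U)) (h : ∀ i, gr O x hx (s i) = gr O x hx (t i)) :
    ∃ (V : Opens X) (hV : V ≤ U), x ∈ V ∧ ∀ i, rr hV (s i) = rr hV (t i) := by
  choose V hV hxV e using fun i => (gr_eq_iff x hx _ _).1 (h i)
  obtain ⟨W, hxW, hW⟩ := exists_common x V hxV
  refine ⟨W ⊓ U, inf_le_right, ⟨hxW, hx⟩, fun i => ?_⟩
  have := congrArg (rr (inf_le_left.trans (hW i) : W ⊓ U ≤ V i)) (e i)
  rwa [rr_rr, rr_rr] at this

theorem isFlat_iff_stalks (F : ModSite.Mod O) :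
    ModSite.IsFlat F ↔ ∀ x : X, Module.Flat (ModSite.stalkRing (pt x) O)
      (ModSite.stalkMod (pt x) F) := by
  rw [isFlat_iff]
  constructor
  · intro h x
    refine Module.Flat.of_forall_isTrivialRelation fun {n f s} hrel => ?_
    obtain ⟨U₀, -, hx₀, f', hf'⟩ := exists_grs x f ⊤ trivial
    obtain ⟨U₁, h₁₀, hx₁, s', hs'⟩ := exists_ges F x s U₀ hx₀
    have h0 : ge F x hx₁ (∑ i, rr h₁₀ (f' i) • s' i) = ge F x hx₁ 0 := by
      rw [ge_sum, ge_zero, ← hrel]
      exact Finset.sum_congr rfl fun i _ => by rw [ge_smul, gr_rr, hf', hs']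
    obtain ⟨U₂, h₂₁, hx₂, e⟩ := (ge_eq_iff F x hx₁ _ _).1 h0
    have h3 : ∑ i, rr (h₂₁.trans h₁₀) (f' i) • rs F h₂₁ (s' i) = 0 := by
      rw [map_zero, rs_sum] at e
      rw [← e]
      exact Finset.sum_congr rfl fun i _ => by rw [rs_smul, rr_rr]
    obtain ⟨V, hV, hxV, m, a, t, ht, ha⟩ := h U₂ n _ _ h3 x hx₂
    refine ⟨m, fun i j => gr O x hxV (a i j), fun j => ge F x hxV (t j), fun i => ?_, fun j => ?_⟩
    · have e1 := congrArg (ge F x hxV) (ht i)
      rw [rs_rs, ge_rs, hs'] at e1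
      rw [e1]
      refine (ge_sum _ _ _ _ _).trans ?_
      exact Finset.sum_congr rfl fun j _ => ge_smul _ _ _ _ _
    · have e1 := congrArg (gr O x hxV) (ha j)
      rw [gr_sum, gr_zero] at e1
      rw [← e1]
      exact Finset.sum_congr rfl fun i _ => by rw [gr_mul, rr_rr, gr_rr, hf']
  · intro h U n f s hrel x hx
    have h0 : ∑ i, gr O x hx (f i) • (show ModSite.stalkMod (pt x) F from ge F x hx (s i)) = 0 := by
      have := congrArg (ge F x hx) hrel
      rw [ge_sum, ge_zero] at this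
      rw [← this]
      exact Finset.sum_congr rfl fun i _ => (ge_smul _ _ _ _ _).symm
    have := h x
    obtain ⟨m, a, t, hst, haf⟩ := Module.Flat.isTrivialRelation_of_sum_smul_eq_zero h0
    obtain ⟨V₁, h₁, hx₁, a', ha'⟩ := exists_grs x (fun p : Fin n × Fin m => a p.1 p.2) U hx
    obtain ⟨V₂, h₂, hx₂, t', ht'⟩ := exists_ges F x t V₁ hx₁
    obtain ⟨V₃, h₃, hx₃, e₃⟩ := exists_ge_eqs F x hx₂ (fun i => rs F (h₂.trans h₁) (s i))
      (fun i => ∑ j, rr h₂ (a' (i, j)) • t' j) (fun i => by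
        rw [ge_rs, ge_sum]
        refine (hst i).trans ?_
        exact Finset.sum_congr rfl fun j _ => by rw [ge_smul, gr_rr, ha', ht'])
    obtain ⟨V₄, h₄, hx₄, e₄⟩ := exists_gr_eqs x hx₃
      (fun j => ∑ i, rr (h₃.trans (h₂.trans h₁)) (f i) * rr (h₃.trans h₂) (a' (i, j)))
      (fun _ : Fin m => 0) (fun j => by
        rw [gr_sum, gr_zero, ← haf j]
        exact Finset.sum_congr rfl fun i _ => by rw [gr_mul, gr_rr, gr_rr, ha'])
    refine ⟨V₄, h₄.trans (h₃.trans (h₂.trans h₁)), hx₄, m,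
      fun i j => rr (h₄.trans (h₃.trans h₂)) (a' (i, j)), fun j => rs F (h₄.trans h₃) (t' j),
      fun i => ?_, fun j => ?_⟩
    · have := congrArg (rs F h₄) (e₃ i)
      rw [rs_rs, rs_rs, rs_rs, rs_sum] at this
      rw [this]
      exact Finset.sum_congr rfl fun j _ => by rw [rs_smul, rr_rr]
    · have := e₄ j
      rw [map_sum, map_zero] at this
      rw [← this]
      exact Finset.sum_congr rfl fun i _ => by rw [map_mul, rr_rr, rr_rr]

end K292.FlatEq

namespace K292.FlatEq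

open Groth.Agent.Gaga.H976.TM1 Groth.Agent.Gaga.H976.TM3 K292.Sp K292.Germ

variable {X : TopCat.{u}} {O : Sheaf (Opens.grothendieckTopology X) CommRingCat.{u}}

theorem s6844 (F : ModSite.Mod O) (hF : ModSite.IsFlat F) (U : Opens X) {n : ℕ}
    (f : Fin n → (ModSite.ringSh O).obj.obj (Opposite.op U)) (s : Fin n → ModSite.sect F U)
    (hrel : ∑ i, f i • s i = 0) (x : X) (hx : x ∈ U) :
    ∃ (V : Opens X) (hV : V ≤ U) (m : ℕ) (a : Fin n → Fin m → (ModSite.ringSh O).obj.obj (Opposite.op V))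
      (t : Fin m → ModSite.sect F V), x ∈ V ∧
      (∀ i, (F.val.map (homOfLE hV).op).hom (s i) = ∑ j, a i j • t j) ∧
        ∀ j, ∑ i, ((ModSite.ringSh O).obj.map (homOfLE hV).op).hom (f i) * a i j = 0 := by
  obtain ⟨V, hV, hxV, m, a, t, h1, h2⟩ := (isFlat_iff F).1 hF U n f s hrel x hx
  exact ⟨V, hV, m, a, t, hxV, h1, h2⟩

end K292.FlatEq
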