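import Groth.Agent.ModSite.K292.PullStalk
import Mathlib.CategoryTheory.Sites.Point.Skyscraper

/-!
# The stalk of the inverse image of the structure sheaf

For `f : RMor O_C O_D`, `e : f.fn ⋙ p.fiber ≅ q.fiber`: the canonical map `O_{D,q} → (f⁻¹O_D)_p` is
bijective (`bijective_sI`) and its composition with `(f⁻¹O_D)_p → O_{C,p}` is `stR f e` (`invSharp_sI`).
-/

set_option autoImplicit false

universe u

open CategoryTheory CategoryTheory.Limits Opposite

namespace K292.InvRing

open K292.Sky K292.PullStalk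

variable {C : Type u} [SmallCategory C] {J : GrothendieckTopology C}
  {D : Type u} [SmallCategory D] {K : GrothendieckTopology D}
  {O_C : Sheaf J CommRingCat.{u}} {O_D : Sheaf K CommRingCat.{u}}
  (f : ModSite.RMor O_C O_D)
  {p : GrothendieckTopology.Point.{u} J} {q : GrothendieckTopology.Point.{u} K}
  (e : f.fn ⋙ p.fiber ≅ q.fiber)

/-- The morphism to the site `C` with structure sheaf `f⁻¹ O_D`. -/
noncomputable def fI : ModSite.RMor f.invRing O_D where
  fn := f.fn
  isContinuous := f.isContinuous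
  exact := f.exact
  sharp := (f.fn.sheafAdjunctionContinuous CommRingCat.{u} K J).unit.app O_D

/-- The canonical map on stalks. -/
noncomputable def sI : ModSite.stalkRing q O_D →+* ModSite.stalkRing p f.invRing :=
  stR (fI f) e

theorem sI_gR (V : D) (v : q.fiber.obj V) (r : O_D.obj.obj (op V)) :
    sI f e (gR q O_D V v r) = gR p f.invRing (f.fn.obj V) (pb f e v) (shp (fI f) V r) :=
  stR_gR (fI f) e V v r

/-- The map on stalks given by `f⁻¹ O_D ⟶ O_C`. -/
noncomputable def iS (p : GrothendieckTopology.Point.{u} J) :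
    ModSite.stalkRing p f.invRing →+* ModSite.stalkRing p O_C :=
  ((p.sheafFiber (A := CommRingCat.{u})).map f.invSharp).hom

theorem iS_gR (X : C) (x : p.fiber.obj X) (r : f.invRing.obj.obj (op X)) :
    iS f p (gR p f.invRing X x r) = gR p O_C X x ((f.invSharp.hom.app (op X)).hom r) :=
  p.toPresheafFiber_naturality_apply f.invSharp.hom X x r

theorem invSharp_unit (V : D) (r : O_D.obj.obj (op V)) :
    (f.invSharp.hom.app (op (f.fn.obj V))).hom (shp (fI f) V r) = shp f V r := by
  have h : (f.fn.sheafAdjunctionContinuous CommRingCat.{u} K J).homEquiv O_D O_C f.invSharp =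
      f.sharp := Equiv.apply_symm_apply _ _
  rw [Adjunction.homEquiv_unit] at h
  exact ConcreteCategory.congr_hom (congrArg (fun k : O_D ⟶
    (f.fn.sheafPushforwardContinuous CommRingCat.{u} K J).obj O_C => k.hom.app (op V)) h) r

theorem iS_sI (a : ModSite.stalkRing q O_D) : iS f p (sI f e a) = stR f e a := by
  obtain ⟨V, v, r, rfl⟩ := exists_germR a
  refine (congrArg (iS f p) (sI_gR f e V v r)).trans ?_
  refine (iS_gR f (f.fn.obj V) (pb f e v) _).trans ?_
  rw [invSharp_unit]
  exact (stR_gR f e V v r).symm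

section Univ

variable (T : CommRingCat.{u})

/-- Ring maps out of the stalk of `f⁻¹ O_D`. -/
noncomputable def Phi : (ModSite.stalkRing p f.invRing ⟶ T) ≃
    (O_D ⟶ (f.fn.sheafPushforwardContinuous CommRingCat.{u} K J).obj (p.skyscraperSheaf T)) :=
  ((p.skyscraperSheafAdjunction (A := CommRingCat.{u})).homEquiv f.invRing T).trans
    ((f.fn.sheafAdjunctionContinuous CommRingCat.{u} K J).homEquiv O_D (p.skyscraperSheaf T))

theorem Phi_app (a : ModSite.stalkRing p f.invRing ⟶ T) (V : D) (x : p.fiber.obj (f.fn.obj V))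
    (r : O_D.obj.obj (op V)) :
    (Pi.π (fun _ : p.fiber.obj (f.fn.obj V) => T) x).hom (((Phi f T a).hom.app (op V)).hom r) =
      a.hom (gR p f.invRing (f.fn.obj V) x (shp (fI f) V r)) := by
  unfold Phi
  rw [Equiv.trans_apply, Adjunction.homEquiv_unit]
  have h := p.skyscraperSheafAdjunction_homEquiv_apply_hom (F := f.invRing) (M := T) a
  have h2 := congrArg (fun k => (k.app (op (f.fn.obj V)) ≫
    Pi.π (fun _ : p.fiber.obj (f.fn.obj V) => T) x).hom (shp (fI f) V r)) h
  have h3 := p.skyscraperPresheafHomEquiv_app_π (P := f.invRing.obj) (M := T) a (f.fn.obj V) x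
  exact h2.trans (congrArg (fun k => k.hom (shp (fI f) V r)) h3)

theorem hom_ext_sI (a b : ModSite.stalkRing p f.invRing ⟶ T)
    (h : ∀ t, a.hom (sI f e t) = b.hom (sI f e t)) : a = b := by
  apply (Phi f T).injective
  ext V : 3
  refine limit.hom_ext fun ⟨x⟩ => ?_
  ext r
  refine (Phi_app f T a V.unop x r).trans (Eq.trans ?_ (Phi_app f T b V.unop x r).symm)
  have h1 := h (gR q O_D V.unop (pf f e x) r)
  rw [sI_gR, pb_pf] at h1
  exact h1

/-- The morphism to the direct image of the skyscraper sheaf. -/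
noncomputable def toSkyR (g : ModSite.stalkRing q O_D ⟶ T) :
    O_D ⟶ (f.fn.sheafPushforwardContinuous CommRingCat.{u} K J).obj (p.skyscraperSheaf T) where
  hom :=
  { app := fun V => Pi.lift (fun x : p.fiber.obj (f.fn.obj V.unop) =>
      q.toPresheafFiber V.unop (pf f e x) O_D.obj ≫ g)
    naturality := fun V W i => by
      refine limit.hom_ext fun ⟨x⟩ => ?_
      have h1 : (Pi.lift (fun x : p.fiber.obj (f.fn.obj W.unop) =>
        q.toPresheafFiber W.unop (pf f e x) O_D.obj ≫ g)) ≫ Pi.π (fun _ => T) x =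
          q.toPresheafFiber W.unop (pf f e x) O_D.obj ≫ g := Pi.lift_π _ _
      have h2 : (Pi.lift (fun x : p.fiber.obj (f.fn.obj V.unop) =>
        q.toPresheafFiber V.unop (pf f e x) O_D.obj ≫ g)) ≫
          Pi.π (fun _ => T) (p.fiber.map (f.fn.map i.unop) x) =
          q.toPresheafFiber V.unop (pf f e (p.fiber.map (f.fn.map i.unop) x)) O_D.obj ≫ g :=
        Pi.lift_π _ _
      have h3 : (p.skyscraperPresheaf T).map (f.fn.map i.unop).op ≫ Pi.π (fun _ => T) x =
          Pi.π (fun _ => T) (p.fiber.map (f.fn.map i.unop) x) := by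
        simp only [GrothendieckTopology.Point.skyscraperPresheafFunctor_obj_map]
        exact (Pi.map'_comp_π _ _ _).trans (Category.comp_id _)
      refine (Category.assoc _ _ _).trans ((congrArg (O_D.obj.map i ≫ ·) h1).trans ?_)
      refine Eq.trans ?_ (Category.assoc _ _ _).symm
      refine Eq.trans ?_ (congrArg (Pi.lift (fun x : p.fiber.obj (f.fn.obj V.unop) =>
        q.toPresheafFiber V.unop (pf f e x) O_D.obj ≫ g) ≫ ·) h3).symm
      refine Eq.trans ?_ h2.symm
      rw [← pf_map, ← Category.assoc]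
      congr 1
      exact q.toPresheafFiber_w i.unop (pf f e x) O_D.obj }

theorem exists_lift (g : ModSite.stalkRing q O_D ⟶ T) :
    ∃ a : ModSite.stalkRing p f.invRing ⟶ T, ∀ t, a.hom (sI f e t) = g.hom t := by
  obtain ⟨a, ha⟩ := (Phi (p := p) f T).surjective (toSkyR f e T g)
  refine ⟨a, fun t => ?_⟩
  obtain ⟨V, v, r, rfl⟩ := exists_germR t
  refine (congrArg a.hom (sI_gR f e V v r)).trans ?_
  refine (Phi_app f T a V (pb f e v) r).symm.trans ?_
  rw [ha]
  have h1 : (Pi.lift (fun x : p.fiber.obj (f.fn.obj V) =>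
        q.toPresheafFiber V (pf f e x) O_D.obj ≫ g)) ≫ Pi.π (fun _ => T) (pb f e v) =
          q.toPresheafFiber V (pf f e (pb f e v)) O_D.obj ≫ g := Pi.lift_π _ _
  refine (congrArg (fun k => k.hom r) h1).trans ?_
  rw [pf_pb]
  rfl

end Univ

theorem bijective_sI : Function.Bijective (sI f e) := by
  obtain ⟨t, ht⟩ := exists_lift f e (ModSite.stalkRing q O_D) (𝟙 _)
  have h1 : CommRingCat.ofHom ((sI f e).comp t.hom) = 𝟙 (ModSite.stalkRing p f.invRing) := by
    apply hom_ext_sI f e
    intro a
    exact congrArg (sI f e) (ht a)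
  constructor
  · intro a b hab
    have := congrArg t.hom hab
    rwa [ht, ht] at this
  · intro a
    exact ⟨t.hom a, ConcreteCategory.congr_hom h1 a⟩

end K292.InvRing
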