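import Groth.Agent.ModSite.K292.TensorStalk
import Groth.Agent.ModSite.K292.InvRing
import Groth.Agent.ModSite.K292.FlatPull
import Mathlib.RingTheory.Flat.Stability

/-!
# Modules flat over the base: `G ↦ f^* G ⊗ F` is exact
-/

set_option autoImplicit false

universe u

open CategoryTheory MonoidalCategory CategoryTheory.Limits Opposite TopologicalSpace

namespace K292.FlatTensor

open Groth.Agent.Dcoh K291.Mon K291.FreeOn K292.Tm K292.Sky K292.PullStalk K292.TensorStalk
open K292.InvRing K292.FlatPull K292.Germ

section Algebra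

open TensorProduct

variable {R S : Type*} [CommRing R] [CommRing S] [Algebra R S] {F : Type*} [AddCommGroup F]
  [Module R F] [Module S F] [IsScalarTower R S F] {M N : Type*} [AddCommGroup M] [Module R M]
  [AddCommGroup N] [Module R N]

theorem cancel_nat (g : M →ₗ[R] N) (z : F ⊗[S] (S ⊗[R] M)) :
    AlgebraTensorModule.cancelBaseChange R S S F N
      (LinearMap.lTensor F (g.baseChange S) z) =
    (g.lTensor F) (AlgebraTensorModule.cancelBaseChange R S S F M z) := by
  induction z using TensorProduct.induction_on with
  | zero => simp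
  | add a b ha hb => simp only [map_add, ha, hb]
  | tmul f w =>
    induction w using TensorProduct.induction_on with
    | zero => simp
    | add a b ha hb => simp only [tmul_add, map_add, ha, hb]
    | tmul s m => simp

theorem injective_lTensor [Module.Flat R F] (g : M →ₗ[R] N) (hg : Function.Injective g) :
    Function.Injective (LinearMap.lTensor F (g.baseChange S) :
      F ⊗[S] (S ⊗[R] M) → F ⊗[S] (S ⊗[R] N)) := by
  have h1 := Module.Flat.lTensor_preserves_injective_linearMap (M := F) g hg
  intro a b hab
  have h2 := congrArg (AlgebraTensorModule.cancelBaseChange R S S F N) hab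
  rw [cancel_nat, cancel_nat] at h2
  exact (AlgebraTensorModule.cancelBaseChange R S S F M).injective (h1 h2)

end Algebra

section Site

open TensorProduct

variable {C : Type u} [SmallCategory C] {J : GrothendieckTopology C}
  {D : Type u} [SmallCategory D] {K : GrothendieckTopology D}
  {O_C : Sheaf J CommRingCat.{u}} {O_D : Sheaf K CommRingCat.{u}}
  (f : ModSite.RMor O_C O_D)
  {p : GrothendieckTopology.Point.{u} J} {q : GrothendieckTopology.Point.{u} K}
  (e : f.fn ⋙ p.fiber ≅ q.fiber)

theorem stalkMap_id (F : ModSite.Mod O_C) (a : ModSite.stalkAb p F) :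
    (ModSite.stalkMap p (𝟙 F)).hom a = a := by
  obtain ⟨U, x, s, rfl⟩ := Sky.exists_germ F a
  exact stalkMap_germ' p (𝟙 F) U x s

/-- If `F_p` is flat over `O_{D,q}` and `φ` is injective at `q` then `f^* φ ⊗ F` is injective at `p`. -/
theorem injective_pull_tensor (F : ModSite.Mod O_C)
    (hF : letI := stMod f e F; Module.Flat (ModSite.stalkRing q O_D) (ModSite.stalkAb p F))
    {M N : ModSite.Mod O_D} (φ : M ⟶ N) (hφ : Function.Injective (ModSite.stalkMap q φ).hom) :
    Function.Injective (ModSite.stalkMap p (F ◁ f.pull.map φ)).hom := by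
  let _ := stAlg f e
  let _ := stMod f e F
  have := isScalarTower f e F
  have h1 := injective_lTensor (S := ModSite.stalkRing p O_C) (F := ModSite.stalkAb p F)
    (ModSite.stalkMap q φ).hom hφ
  let eM := (equivT p F (f.pull.obj M)).toEquiv
  let lM := (LinearEquiv.lTensor (ModSite.stalkAb p F) (pullEquiv f e M)).trans
    (equivT p F (f.pull.obj M))
  let lN := (LinearEquiv.lTensor (ModSite.stalkAb p F) (pullEquiv f e N)).trans
    (equivT p F (f.pull.obj N))
  have key : ∀ z : ModSite.stalkAb p F ⊗[ModSite.stalkRing p O_C]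
      (ModSite.stalkRing p O_C ⊗[ModSite.stalkRing q O_D] ModSite.stalkAb q M),
      (ModSite.stalkMap p (F ◁ f.pull.map φ)).hom (lM z) =
      lN (LinearMap.lTensor (ModSite.stalkAb p F)
          ((ModSite.stalkMap q φ).hom.baseChange (ModSite.stalkRing p O_C)) z) := by
    intro z
    induction z using TensorProduct.induction_on with
    | zero => simp only [map_zero]
    | add a b ha hb => simp only [map_add, ha, hb]
    | tmul a w =>
      have h2 := stalkMap_tS p (𝟙 F) (f.pull.map φ) a (pullEquiv f e M w)
      rw [MonoidalCategory.id_tensorHom] at h2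
      refine Eq.trans h2 ?_
      rw [stalkMap_id]
      exact congrArg (tS p a) (stalkMap_pullEquiv f e φ w)
  intro a b hab
  obtain ⟨a, rfl⟩ := lM.surjective a
  obtain ⟨b, rfl⟩ := lM.surjective b
  rw [key, key] at hab
  exact congrArg lM (h1 (lN.injective hab))

/-- Flatness over `O_{D,q}` through the inverse image ring. -/
theorem flat_of_inv (F : ModSite.Mod O_C)
    (hF : @Module.Flat (ModSite.stalkRing p f.invRing) (ModSite.stalkAb p F) _ _
      (Module.compHom (ModSite.stalkAb p F) (iS f p))) :
    letI := stMod f e F; Module.Flat (ModSite.stalkRing q O_D) (ModSite.stalkAb p F) := by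
  let _ : Module (ModSite.stalkRing p f.invRing) (ModSite.stalkAb p F) :=
    Module.compHom (ModSite.stalkAb p F) (iS f p)
  let _ := stMod f e F
  let _ : Algebra (ModSite.stalkRing q O_D) (ModSite.stalkRing p f.invRing) :=
    (sI f e).toAlgebra
  have : IsScalarTower (ModSite.stalkRing q O_D) (ModSite.stalkRing p f.invRing)
      (ModSite.stalkAb p F) := ⟨fun r a m => by
    rw [Algebra.smul_def, mul_smul]
    change iS f p (sI f e r) • a • m = stR f e r • a • m
    rw [iS_sI]⟩
  have h1 : Module.Flat (ModSite.stalkRing q O_D) (ModSite.stalkRing p f.invRing) :=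
    RingHom.Flat.of_bijective (bijective_sI f e)
  exact Module.Flat.trans (ModSite.stalkRing q O_D) (ModSite.stalkRing p f.invRing)
    (ModSite.stalkAb p F)

end Site

section Top

variable {X Y : TopCat.{u}} (f : X ⟶ Y) {O_X : TopCat.Sheaf CommRingCat.{u} X}
  {O_Y : TopCat.Sheaf CommRingCat.{u} Y}
  (c : O_Y ⟶ ((Opens.map f).sheafPushforwardContinuous CommRingCat.{u}
      (Opens.grothendieckTopology Y) (Opens.grothendieckTopology X)).obj O_X)
  (F : ModSite.Mod O_X)

theorem main
    (hF : ∀ x : X, @Module.Flat
      (ModSite.stalkRing (pt x) (ModSite.RMor.ofFlat (Opens.map f) c).invRing)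
      (ModSite.stalkAb (pt x) F) _ _
      (Module.compHom (ModSite.stalkAb (pt x) F)
        (((pt x).sheafFiber (A := CommRingCat.{u})).map
          (ModSite.RMor.ofFlat (Opens.map f) c).invSharp).hom)) :
    PreservesFiniteLimits ((ModSite.RMor.ofFlat (Opens.map f) c).pull ⋙
        (ModSite.tensorBi O_X).flip.obj F) ∧
      PreservesFiniteColimits ((ModSite.RMor.ofFlat (Opens.map f) c).pull ⋙
        (ModSite.tensorBi O_X).flip.obj F) := by
  let g := ModSite.RMor.ofFlat (Opens.map f) c
  let T := g.pull ⋙ (ModSite.tensorBi O_X).flip.obj F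
  have : ((ModSite.tensorBi O_X).flip.obj F).IsLeftAdjoint := K291.Colim.hasSheafHom F
  have : g.pull.IsLeftAdjoint := g.adj.isLeftAdjoint
  have : PreservesColimits T := inferInstance
  have : T.IsLeftAdjoint := inferInstance
  have : T.PreservesZeroMorphisms := Functor.preservesZeroMorphisms_of_isLeftAdjoint _
  have := preservesBinaryBiproducts_of_preservesBinaryCoproducts T
  have : T.Additive := Functor.additive_of_preservesBinaryBiproducts _
  refine ⟨K291.Flat.preservesFiniteLimits_of_mono T fun M N φ _ => ?_, inferInstance⟩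
  have h1 : Mono (F ◁ g.pull.map φ) := by
    rw [mono_iff_stalks]
    intro x
    exact injective_pull_tensor g (ptIso f c x) F (flat_of_inv g (ptIso f c x) F (hF x)) φ
      ((mono_iff_stalks φ).1 inferInstance (f x))
  have h2 : g.pull.map φ ▷ F = (β_ (g.pull.obj M) F).hom ≫ F ◁ g.pull.map φ ≫
      (β_ (g.pull.obj N) F).inv := by
    rw [← BraidedCategory.braiding_naturality_left_assoc, Iso.hom_inv_id, Category.comp_id]
  change Mono (g.pull.map φ ▷ F)
  rw [h2]
  infer_instance

end Top

end K292.FlatTensor
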