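import Groth.Agent.Gaga.H976.TM2
import Groth.Prelude.Def_ModSite
import Mathlib.CategoryTheory.Sites.Over

/-!
# Sections, generators and relations on slices of a ringed site; morphisms out of presented modules
-/

set_option autoImplicit false

universe u

open CategoryTheory CategoryTheory.Limits Opposite

namespace K292.SiteSec

open Groth.Agent.Gaga.H976.TM0 Groth.Agent.Gaga.H976.TM1 Groth.Agent.Gaga.H976.TM2

variable {C : Type u} [SmallCategory C] {J : GrothendieckTopology C} {R : Sheaf J RingCat.{u}}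

/-- Sections of a sheaf of modules vanish if they vanish locally. -/
theorem eq_zero_of_loc (N : SheafOfModules.{u} R) {X : C} (t : N.val.obj (op X)) (S : Sieve X)
    (hS : S ∈ J X) (h : ∀ ⦃Y : C⦄ (g : Y ⟶ X), S.arrows g → N.val.restrictₛₗ g.op t = 0) :
    t = 0 := by
  have hsep : Presheaf.IsSheaf J N.val.presheaf := N.isSheaf
  have h2 := (Presheaf.isSheaf_iff_isSheaf_forget _ _ (forget AddCommGrpCat.{u})).1 hsep
  rw [isSheaf_iff_isSheaf_of_type] at h2
  refine (h2 S hS).isSeparatedFor.ext fun Y g hg => ?_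
  refine (h g hg).trans ?_
  exact (map_zero (N.val.restrictₛₗ g.op)).symm

/-- A morphism out of a module with generators `s` and relations `r`. -/
theorem exists_desc {M N : SheafOfModules.{u} R} {I K : Type u} [Fintype I] [Fintype K]
    (s : I → M.sections) (r : K → I → RSec R) (hs : Gen s) (hr : Rel s r) (n : I → N.sections)
    (hn : ∀ (k : K) (X : Cᵒᵖ), ∑ j, rsec (r k j) X • sec (n j) X = 0) :
    ∃ f : M ⟶ N, ∀ j X, f.val.app X (sec (s j) X) = sec (n j) X := by
  classical
  have hepi : Epi (M.freeHomEquiv.symm s) := (epi_iff_gen s).2 hs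
  let π := M.freeHomEquiv.symm s
  let ν := N.freeHomEquiv.symm n
  have hπ : M.freeHomEquiv π = s := Equiv.apply_symm_apply _ _
  have hν : N.freeHomEquiv ν = n := Equiv.apply_symm_apply _ _
  have hz : kernel.ι π ≫ ν = 0 := by
    refine (SheafOfModules.forget R).map_injective ?_
    refine PresheafOfModules.hom_ext fun X => ?_
    ext t
    have h0 : ∑ j, co ((kernel.ι π).val.app X t) j • sec (s j) X = 0 := by
      have h1 := map_free π X ((kernel.ι π).val.app X t)
      have h2 : π.val.app X ((kernel.ι π).val.app X t) = (kernel.ι π ≫ π).val.app X t := rfl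
      rw [h2, kernel.condition, hπ] at h1
      exact h1.symm
    have h1 := map_free ν X ((kernel.ι π).val.app X t)
    rw [hν] at h1
    refine Eq.trans h1 ?_
    change _ = (0 : N.val.obj X)
    obtain ⟨S, hS, h⟩ := hr.2 X.unop _ h0
    refine eq_zero_of_loc N _ S hS fun Y g hg => ?_
    obtain ⟨d, hd⟩ := h g hg
    rw [map_sum]
    have h3 : ∀ j, N.val.restrictₛₗ g.op (co ((kernel.ι π).val.app X t) j • sec (n j) X) =
        ∑ k, d k • (rsec (r k j) (op Y) • sec (n j) (op Y)) := by
      intro j
      rw [map_smulₛₗ, sec_map]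
      refine Eq.trans (congrArg (· • sec (n j) (op Y)) (hd j)) ?_
      rw [Finset.sum_smul]
      exact Finset.sum_congr rfl fun k _ => mul_smul _ _ _
    rw [Finset.sum_congr rfl fun j _ => h3 j, Finset.sum_comm]
    refine Finset.sum_eq_zero fun k _ => ?_
    rw [← Finset.smul_sum, hn k, smul_zero]
  refine ⟨Abelian.epiDesc π ν hz, fun j X => ?_⟩
  have h1 : π ≫ Abelian.epiDesc π ν hz = ν := Abelian.comp_epiDesc _ _ _
  have h2 : N.freeHomEquiv (π ≫ Abelian.epiDesc π ν hz) j = n j := by
    rw [h1, hν]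
  rw [SheafOfModules.freeHomEquiv_comp_apply, hπ] at h2
  rw [← h2]
  rfl

/-- Morphisms out of a generated module are determined by the generators. -/
theorem hom_ext {M N : SheafOfModules.{u} R} {I : Type u} [Fintype I]
    (s : I → M.sections) (hs : Gen s) (f g : M ⟶ N)
    (h : ∀ j X, f.val.app X (sec (s j) X) = g.val.app X (sec (s j) X)) : f = g := by
  have hepi : Epi (M.freeHomEquiv.symm s) := (epi_iff_gen s).2 hs
  rw [← cancel_epi (M.freeHomEquiv.symm s)]
  apply N.freeHomEquiv.injective
  funext j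
  rw [SheafOfModules.freeHomEquiv_comp_apply, SheafOfModules.freeHomEquiv_comp_apply,
    Equiv.apply_symm_apply]
  exact Subtype.ext (funext fun X => h j X)

section Over

/-- Restriction of a section over `Y` along `h : V ⟶ Y`. -/
noncomputable def resSec (M : SheafOfModules.{u} R) {V Y : C} (h : V ⟶ Y) (σ : (M.over Y).sections) :
    (M.over V).sections :=
  ⟨fun Z => (show M.val.obj (op Z.unop.left) from sec σ (op ((Over.map h).obj Z.unop))),
    fun {_ _} g => sec_map σ ((Over.map h).map g.unop).op⟩

/-- Restriction of a ring section over `Y` along `h : V ⟶ Y`. -/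
noncomputable def resRSec {V Y : C} (h : V ⟶ Y) (σ : RSec (R.over Y)) : RSec (R.over V) :=
  ⟨fun Z => (show R.obj.obj (op Z.unop.left) from rsec σ (op ((Over.map h).obj Z.unop))),
    fun {_ _} g => rsec_map σ ((Over.map h).map g.unop).op⟩

lemma sec_resSec (M : SheafOfModules.{u} R) {V Y : C} (h : V ⟶ Y) (σ : (M.over Y).sections)
    (Z : (Over V)ᵒᵖ) : sec (resSec M h σ) Z =
      (show M.val.obj (op Z.unop.left) from sec σ (op ((Over.map h).obj Z.unop))) := rfl

theorem gen_res (M : SheafOfModules.{u} R) {V Y : C} (h : V ⟶ Y) {I : Type u} [Fintype I]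
    (σ : I → (M.over Y).sections) (hσ : Gen σ) : Gen (fun j => resSec M h (σ j)) := by
  intro Z t
  obtain ⟨S, hS, hS'⟩ := hσ ((Over.map h).obj Z) t
  refine ⟨S.functorPullback (Over.map h),
    (Over.map h).cover_lift (J.over V) (J.over Y) hS, fun Z' g hg => ?_⟩
  exact hS' ((Over.map h).map g) hg

theorem rel_res (M : SheafOfModules.{u} R) {V Y : C} (h : V ⟶ Y) {I K : Type u} [Fintype I]
    [Fintype K] (σ : I → (M.over Y).sections) (ρ : K → I → RSec (R.over Y)) (hσ : Rel σ ρ) :
    Rel (fun j => resSec M h (σ j)) (fun k j => resRSec h (ρ k j)) := by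
  refine ⟨fun k Z => hσ.1 k (op ((Over.map h).obj Z.unop)), fun Z c hc => ?_⟩
  obtain ⟨S, hS, hS'⟩ := hσ.2 ((Over.map h).obj Z) c hc
  refine ⟨S.functorPullback (Over.map h),
    (Over.map h).cover_lift (J.over V) (J.over Y) hS, fun Z' g hg => ?_⟩
  exact hS' ((Over.map h).map g) hg

/-- The section of `M.over V` given by an element of `M(V)`. -/
noncomputable def toSec (M : SheafOfModules.{u} R) (V : C) (m : M.val.obj (op V)) : (M.over V).sections :=
  ⟨fun Z => (show M.val.obj (op Z.unop.left) from M.val.restrictₛₗ Z.unop.hom.op m),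
    fun {Z _} g => by
      have e := M.val.map_comp_apply Z.unop.hom.op g.unop.left.op m
      refine Eq.trans e.symm ?_
      rw [← op_comp, Over.w]
      rfl⟩

/-- The ring section over `V` given by an element of `R(V)`. -/
noncomputable def toRSec (V : C) (r : R.obj.obj (op V)) : RSec (R.over V) :=
  toSec (SheafOfModules.unit R) V r

/-- The value at the terminal object. -/
noncomputable def ofSec (M : SheafOfModules.{u} R) (V : C) (σ : (M.over V).sections) : M.val.obj (op V) :=
  sec σ (op (Over.mk (𝟙 V)))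

lemma sec_eq (M : SheafOfModules.{u} R) (V : C) (σ : (M.over V).sections) (Z : (Over V)ᵒᵖ) :
    sec σ Z = (show (M.over V).val.obj Z from
      M.val.restrictₛₗ Z.unop.hom.op (ofSec M V σ)) := by
  have h := sec_map σ (Over.homMk Z.unop.hom : Z.unop ⟶ Over.mk (𝟙 V)).op
  exact h.symm

lemma rsec_eq (V : C) (σ : RSec (R.over V)) (Z : (Over V)ᵒᵖ) :
    rsec σ Z = (show (R.over V).obj.obj Z from
      R.obj.map Z.unop.hom.op (show R.obj.obj (op V) from rsec σ (op (Over.mk (𝟙 V))))) := by
  have h := rsec_map σ (Over.homMk Z.unop.hom : Z.unop ⟶ Over.mk (𝟙 V)).op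
  exact h.symm

lemma rsec_toRSec (V : C) (r : R.obj.obj (op V)) (Z : (Over V)ᵒᵖ) :
    rsec (toRSec V r) Z = (show (R.over V).obj.obj Z from R.obj.map Z.unop.hom.op r) := rfl

end Over

end K292.SiteSec
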