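import Groth.Agent.ModSite.K292.Sp
import Groth.Agent.ModSite.K292.SiteSec

/-!
# Gluing of morphisms of modules on a ringed space
-/

set_option autoImplicit false

universe u

open CategoryTheory CategoryTheory.Limits Opposite TopologicalSpace

namespace K292.Glue

open Groth.Agent.Gaga.H976.TM1 Groth.Agent.Gaga.H976.TM2 Groth.Agent.Gaga.H976.TM3 K292.Sp

variable {X : TopCat.{u}} {R : Sheaf (Opens.grothendieckTopology X) RingCat.{u}}

/-- A morphism of modules over an open `U`. -/
structure PHom (G N : SheafOfModules.{u} R) (U : Opens X) where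
  /-- the value on sections -/
  f : ∀ V : Opens X, V ≤ U → (G.val.obj (op V) →ₗ[R.obj.obj (op V)] N.val.obj (op V))
  nat : ∀ {V V' : Opens X} (hV : V ≤ U) (h : V' ≤ V) (g : G.val.obj (op V)),
    f V' (h.trans hV) (rs G h g) = rs N h (f V hV g)

/-- Restriction. -/
def PHom.res {G N : SheafOfModules.{u} R} {U : Opens X} (p : PHom G N U) {U' : Opens X}
    (h : U' ≤ U) : PHom G N U' where
  f V hV := p.f V (hV.trans h)
  nat hV h' g := p.nat (hV.trans h) h' g

/-- Composition with a morphism. -/
noncomputable def PHom.comp {G N N' : SheafOfModules.{u} R} {U : Opens X} (p : PHom G N U)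
    (q : N ⟶ N') : PHom G N' U where
  f V hV := (ap q V).comp (p.f V hV)
  nat hV h g := by
    change ap q _ (p.f _ _ (rs G h g)) = rs N' h (ap q _ (p.f _ _ g))
    rw [p.nat hV h g, ap_rs]

/-- A global morphism as a partial morphism. -/
noncomputable def PHom.ofHom {G N : SheafOfModules.{u} R} (q : G ⟶ N) (U : Opens X) :
    PHom G N U where
  f V _ := ap q V
  nat _ h g := ap_rs q h g

/-- A morphism of restricted modules as a partial morphism. -/
noncomputable def PHom.ofOver {G N : SheafOfModules.{u} R} {U : Opens X}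
    (q : G.over U ⟶ N.over U) : PHom G N U where
  f V hV := (q.val.app (op (Over.mk (homOfLE hV)))).hom
  nat {V V'} hV h g := by
    have h1 := app_res q (Over.homMk (homOfLE h) : Over.mk (homOfLE (h.trans hV)) ⟶
      Over.mk (homOfLE hV)).op g
    exact h1

/-- The glued value. -/
def IsVal {G N : SheafOfModules.{u} R} {ι : Type*} {U : ι → Opens X} (p : ∀ i, PHom G N (U i))
    {V : Opens X} (g : G.val.obj (op V)) (n : N.val.obj (op V)) : Prop :=
  ∀ (i : ι) (V' : Opens X) (h : V' ≤ V) (h' : V' ≤ U i), rs N h n = (p i).f V' h' (rs G h g)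

section

variable {G N : SheafOfModules.{u} R} {ι : Type*} {U : ι → Opens X} (p : ∀ i, PHom G N (U i))
  (hU : iSup U = ⊤)

include hU in
lemma IsVal.unique {V : Opens X} {g : G.val.obj (op V)} {n n' : N.val.obj (op V)}
    (h : IsVal p g n) (h' : IsVal p g n') : n = n' := by
  refine eq_of_loc N n n' fun x hx => ?_
  have hx' : x ∈ iSup U := by rw [hU]; trivial
  obtain ⟨i, hi⟩ := Opens.mem_iSup.1 hx'
  exact ⟨V ⊓ U i, inf_le_left, ⟨hx, hi⟩, by
    rw [h i _ inf_le_left inf_le_right, h' i _ inf_le_left inf_le_right]⟩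

include hU in
lemma exists_isVal (hp : ∀ (i j : ι) (V : Opens X) (h : V ≤ U i) (h' : V ≤ U j)
    (g : G.val.obj (op V)), (p i).f V h g = (p j).f V h' g) {V : Opens X} (g : G.val.obj (op V)) :
    ∃ n : N.val.obj (op V), IsVal p g n := by
  have hx' : ∀ x : X, ∃ i, x ∈ U i := fun x => by
    have : x ∈ iSup U := by rw [hU]; trivial
    exact Opens.mem_iSup.1 this
  choose i hi using hx'
  obtain ⟨n, hn⟩ := exists_glue N (U := V) (fun x _ => V ⊓ U (i x)) (fun x _ => inf_le_left)
    (fun x hx => ⟨hx, hi x⟩) (fun x hx => (p (i x)).f _ inf_le_right (rs G inf_le_left g))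
    (fun x hx y hy W h1 h2 => by
      rw [← (p (i x)).nat, ← (p (i y)).nat, rs_rs, rs_rs]
      exact hp _ _ _ _ _ _)
  refine ⟨n, fun j V' h h' => eq_of_loc N _ _ fun x hx => ?_⟩
  have hxV : x ∈ V := h hx
  refine ⟨V' ⊓ U (i x), inf_le_left, ⟨hx, hi x⟩, ?_⟩
  have e1 := congrArg (rs N (inf_le_inf_right (U (i x)) h : V' ⊓ U (i x) ≤ V ⊓ U (i x))) (hn x hxV)
  rw [rs_rs, ← (p (i x)).nat, rs_rs] at e1
  rw [rs_rs, e1, ← (p j).nat, rs_rs]
  exact hp _ _ _ _ _ _

include hU in
/-- Gluing of partial morphisms. -/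
theorem exists_hom (hp : ∀ (i j : ι) (V : Opens X) (h : V ≤ U i) (h' : V ≤ U j)
    (g : G.val.obj (op V)), (p i).f V h g = (p j).f V h' g) :
    ∃ F : G ⟶ N, ∀ (i : ι) (V : Opens X) (h : V ≤ U i) (g : G.val.obj (op V)),
      ap F V g = (p i).f V h g := by
  choose F hF using fun (V : Opens X) (g : G.val.obj (op V)) => exists_isVal p hU hp g
  have hadd : ∀ (V : Opens X) (g g' : G.val.obj (op V)), F V (g + g') = F V g + F V g' := by
    intro V g g'
    refine (hF V (g + g')).unique p hU fun i V' h h' => ?_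
    rw [map_add, map_add, map_add, hF V g i V' h h', hF V g' i V' h h']
  have hsmul : ∀ (V : Opens X) (r : R.obj.obj (op V)) (g : G.val.obj (op V)),
      F V (r • g) = r • F V g := by
    intro V r g
    refine (hF V (r • g)).unique p hU fun i V' h h' => ?_
    rw [rs_smul, rs_smul, map_smul, hF V g i V' h h']
  have hnat : ∀ (V W : Opens X) (h : W ≤ V) (g : G.val.obj (op V)), F W (rs G h g) = rs N h (F V g) := by
    intro V W h g
    refine (hF W _).unique p hU fun i V' h1 h2 => ?_
    rw [rs_rs, rs_rs, hF V g i V' (h1.trans h) h2]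
  let Φ : G.val.presheaf ⟶ N.val.presheaf :=
    { app := fun V => AddCommGrpCat.ofHom (AddMonoidHom.mk' (F V.unop) (hadd V.unop))
      naturality := fun V W i => by
        ext g
        exact hnat V.unop W.unop (leOfHom i.unop) g }
  refine ⟨⟨PresheafOfModules.homMk Φ fun V r g => hsmul V.unop r g⟩, fun i V h g => ?_⟩
  have e := hF V g i V le_rfl h
  rw [rs_self, rs_self] at e
  exact e

end

end K292.Glue
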