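import Groth.Agent.ModSite.K292.TmR

/-!
# Morphisms out of `A_X ⊗ F`, elementwise

* `homEl : (A_X ⊗ F ⟶ G) → (F|_X ⟶ G|_X)`, `φ ↦ (m ↦ φ (gen ⊗ m))`, is bijective (`bijective_homEl`).
* for an internal hom `ε : E ⊗ F ⟶ G` the map `tau ε : E(X) → (F|_X ⟶ G|_X)` is bijective.
-/

set_option autoImplicit false

open CategoryTheory MonoidalCategory Limits Opposite

universe u

namespace K292.HomEl

open Groth.Agent.Dcoh K291.Mon K291.Colim K291.Flat K291.FreeOn K291.Restr K292.Tm K292.TmR

variable {C : Type u} [SmallCategory C] {J : GrothendieckTopology C} {O : Sheaf J CommRingCat.{u}}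

section Free

variable (O) (X : C)

/-- The free presheaf of modules on the presheaf represented by `X`. -/
noncomputable abbrev Pr : PM O := PresheafOfModules.freeObj
  (R := O.obj ⋙ forget₂ CommRingCat.{u} RingCat.{u}) (yoneda.obj X)

/-- The generator of `Pr O X` attached to `f : U ⟶ X`. -/
noncomputable def mk {U : C} (f : U ⟶ X) : (Pr O X).obj (op U) := ModuleCat.freeMk f

/-- The canonical map to `A_X`. -/
noncomputable def w : Pr O X ⟶ (toP O).obj (ModSite.freeOn O X) :=
  PresheafOfModules.freeObjDesc (G := (toP O).obj (ModSite.freeOn O X))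
    (yonedaEquiv.symm (gen O X))

theorem w_mk {U : C} (f : U ⟶ X) :
    MonW.sec (w O X) (op U) (mk O X f) = rs (ModSite.freeOn O X) f (gen O X) := by
  refine (ModuleCat.freeDesc_apply _ _).trans ?_
  rfl

theorem homEquiv_symm_w : ((shAdj O).homEquiv _ _).symm (w O X) = (freeOnIso O X).inv := by
  change _ = (homFrY _ X).symm (gen O X)
  have h := congrFun (congrFun (Adjunction.comp_homEquiv
    (PresheafOfModules.freeAdjunction (O.obj ⋙ forget₂ CommRingCat.{u} RingCat.{u})) (shAdj O))
    (yoneda.obj X)) (ModSite.freeOn O X)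
  apply (homFrY _ X).injective
  rw [Equiv.apply_symm_apply]
  refine (congrArg (fun k => yonedaEquiv (k (((shAdj O).homEquiv _ _).symm (w O X)))) h).trans ?_
  refine (congrArg (fun k => yonedaEquiv (((PresheafOfModules.freeAdjunction
    (O.obj ⋙ forget₂ CommRingCat.{u} RingCat.{u})).homEquiv (yoneda.obj X)
      ((toP O).obj (ModSite.freeOn O X))) k)) (Equiv.apply_symm_apply _ (w O X))).trans ?_
  rw [PresheafOfModules.freeAdjunction_homEquiv]
  refine (congrArg yonedaEquiv (Equiv.apply_symm_apply PresheafOfModules.freeHomEquiv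
    (yonedaEquiv.symm (gen O X)))).trans ?_
  exact Equiv.apply_symm_apply _ _

theorem WO_w : WO O (w O X) := by
  rw [WO_iff]
  have h := homEquiv_symm_w O X
  rw [Adjunction.homEquiv_counit] at h
  have h2 : IsIso ((shP O).map (w O X) ≫ (shAdj O).counit.app (ModSite.freeOn O X)) := by
    rw [h]
    infer_instance
  exact IsIso.of_isIso_comp_right _ ((shAdj O).counit.app (ModSite.freeOn O X))

variable {O}

/-- Precomposition with a locally bijective morphism is bijective on morphisms to a sheaf. -/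
theorem precomp_bijective {A B : PM O} {f : A ⟶ B} (hf : WO O f) (G : ModSite.Mod O) :
    Function.Bijective (fun b : B ⟶ (toP O).obj G => f ≫ b) := by
  have hf' := (WO_iff O f).1 hf
  have h : (fun b : B ⟶ (toP O).obj G => f ≫ b) =
      (shAdj O).homEquiv A G ∘ (fun k => (shP O).map f ≫ k) ∘ ((shAdj O).homEquiv B G).symm := by
    funext b
    obtain ⟨c, rfl⟩ := ((shAdj O).homEquiv B G).surjective b
    simp only [Function.comp_apply, Equiv.symm_apply_apply]
    exact ((shAdj O).homEquiv_naturality_left f c).symm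
  rw [h]
  refine ((shAdj O).homEquiv A G).bijective.comp (Function.Bijective.comp ?_
    ((shAdj O).homEquiv B G).symm.bijective)
  refine ⟨fun a b hab => ?_, fun a => ⟨inv ((shP O).map f) ≫ a, ?_⟩⟩
  · exact (cancel_epi ((shP O).map f)).1 hab
  · exact IsIso.hom_inv_id_assoc _ _

/-- Morphisms out of `Pr ⊗ B` are determined by their values on `f ⊗ m`. -/
theorem pr_ext {B P : PM O} {a b : Pr O X ⊗ B ⟶ P}
    (h : ∀ (U : C) (f : U ⟶ X) (m : B.obj (op U)),
      MonW.sec a (op U) (tp (Pr O X) B U (mk O X f) m) =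
        MonW.sec b (op U) (tp (Pr O X) B U (mk O X f) m)) : a = b := by
  apply tp_ext
  intro U m n
  change (U ⟶ X) →₀ (O.obj.obj (op U)) at m
  induction m using Finsupp.induction_linear with
  | zero =>
    have h0 : tp (Pr O X) B U 0 n = 0 :=
      TensorProduct.zero_tmul (R := O.obj.obj (op U)) (Pr O X |>.obj (op U)) n
    exact (congrArg (MonW.sec a (op U)) h0).trans ((map_zero (MonW.sec a (op U))).trans
      ((map_zero (MonW.sec b (op U))).symm.trans (congrArg (MonW.sec b (op U)) h0).symm))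
  | add x y hx hy =>
    have h0 : tp (Pr O X) B U (x + y) n = tp (Pr O X) B U x n + tp (Pr O X) B U y n :=
      TensorProduct.add_tmul (R := O.obj.obj (op U)) _ _ n
    refine (congrArg (MonW.sec a (op U)) h0).trans ((map_add (MonW.sec a (op U)) _ _).trans
      (Eq.trans ?_ ((map_add (MonW.sec b (op U)) _ _).symm.trans
        (congrArg (MonW.sec b (op U)) h0).symm)))
    exact congrArg₂ (· + ·) hx hy
  | single f r =>
    have h1 : (Finsupp.single f r : (U ⟶ X) →₀ (O.obj.obj (op U))) = r • Finsupp.single f 1 := by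
      rw [Finsupp.smul_single, smul_eq_mul, mul_one]
    have h0 : tp (Pr O X) B U (Finsupp.single f r) n = r • tp (Pr O X) B U (mk O X f) n :=
      (congrArg (fun z => tp (Pr O X) B U z n) h1).trans
        (TensorProduct.smul_tmul' (R := O.obj.obj (op U)) r (mk O X f) n).symm
    refine (congrArg (MonW.sec a (op U)) h0).trans ((map_smul (MonW.sec a (op U)) _ _).trans
      (Eq.trans ?_ ((map_smul (MonW.sec b (op U)) _ _).symm.trans
        (congrArg (MonW.sec b (op U)) h0).symm)))
    exact congrArg (r • ·) (h U f n)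

variable {F G : ModSite.Mod O}

/-- A morphism `F|_X ⟶ G|_X` at `f : U ⟶ X`, as a linear map `F(U) → G(U)`. -/
noncomputable def psi (ψ : (ModSite.restr O X).obj F ⟶ (ModSite.restr O X).obj G) {U : C}
    (f : U ⟶ X) : ((toP O).obj F).obj (op U) →ₗ[O.obj.obj (op U)] ((toP O).obj G).obj (op U) :=
  (ψ.val.app (op (Over.mk f))).hom

theorem psi_res (ψ : (ModSite.restr O X).obj F ⟶ (ModSite.restr O X).obj G) {U V : C}
    (f : U ⟶ X) (g : V ⟶ U) (m : ModSite.sect F U) :
    rs G g (psi X ψ f m) = psi X ψ (g ≫ f) (rs F g m) :=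
  (sc_rs ψ (Over.homMk g : Over.mk (g ≫ f) ⟶ Over.mk f) m).symm

/-- The linear map out of the free module. -/
noncomputable def ell (ψ : (ModSite.restr O X).obj F ⟶ (ModSite.restr O X).obj G) (U : C) :
    ((U ⟶ X) →₀ O.obj.obj (op U)) →ₗ[O.obj.obj (op U)]
      (((toP O).obj F).obj (op U) →ₗ[O.obj.obj (op U)] ((toP O).obj G).obj (op U)) :=
  Finsupp.lift _ (O.obj.obj (op U)) (U ⟶ X) (fun f => psi X ψ f)

theorem ell_single (ψ : (ModSite.restr O X).obj F ⟶ (ModSite.restr O X).obj G) (U : C)
    (f : U ⟶ X) : ell X ψ U (Finsupp.single f 1) = psi X ψ f := by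
  rw [ell, Finsupp.lift_apply, Finsupp.sum_single_index (by rw [zero_smul]), one_smul]

/-- The map `Pr(U) ⊗ F(U) → G(U)`. -/
noncomputable def descL (ψ : (ModSite.restr O X).obj F ⟶ (ModSite.restr O X).obj G) (U : C) :
    (Pr O X ⊗ (toP O).obj F).obj (op U) →ₗ[O.obj.obj (op U)] ((toP O).obj G).obj (op U) :=
  TensorProduct.lift (R := O.obj.obj (op U)) (ell X ψ U)

theorem descL_tp (ψ : (ModSite.restr O X).obj F ⟶ (ModSite.restr O X).obj G) (U : C)
    (f : U ⟶ X) (m : ModSite.sect F U) :
    descL X ψ U (tp (Pr O X) ((toP O).obj F) U (mk O X f) m) = psi X ψ f m :=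
  congrArg (fun k : ((toP O).obj F).obj (op U) →ₗ[O.obj.obj (op U)] ((toP O).obj G).obj (op U) =>
    k m) (ell_single X ψ U f)

theorem mk_res {U V : C} (f : U ⟶ X) (g : V ⟶ U) :
    MonW.res (Pr O X) g.op (mk O X f) = mk O X (g ≫ f) :=
  ModuleCat.freeDesc_apply _ _

theorem descL_nat (ψ : (ModSite.restr O X).obj F ⟶ (ModSite.restr O X).obj G) {U V : C}
    (g : V ⟶ U) (x : (Pr O X ⊗ (toP O).obj F).obj (op U)) :
    descL X ψ V (MonW.res (Pr O X ⊗ (toP O).obj F) g.op x) =
      MonW.res ((toP O).obj G) g.op (descL X ψ U x) := by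
  change TensorProduct (O.obj.obj (op U)) ((U ⟶ X) →₀ O.obj.obj (op U))
    (((toP O).obj F).obj (op U)) at x
  induction x using TensorProduct.induction_on with
  | zero =>
    exact (map_zero ((descL X ψ V).toAddMonoidHom.comp
      (MonW.res (Pr O X ⊗ (toP O).obj F) g.op))).trans
        (map_zero ((MonW.res ((toP O).obj G) g.op).comp (descL X ψ U).toAddMonoidHom)).symm
  | tmul m n =>
    induction m using Finsupp.induction_linear with
    | zero =>
      rw [TensorProduct.zero_tmul]
      exact (map_zero ((descL X ψ V).toAddMonoidHom.comp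
      (MonW.res (Pr O X ⊗ (toP O).obj F) g.op))).trans
        (map_zero ((MonW.res ((toP O).obj G) g.op).comp (descL X ψ U).toAddMonoidHom)).symm
    | add x y hx hy =>
      rw [TensorProduct.add_tmul]
      exact (map_add ((descL X ψ V).toAddMonoidHom.comp
        (MonW.res (Pr O X ⊗ (toP O).obj F) g.op)) _ _).trans
        ((congrArg₂ (· + ·) hx hy).trans
          (map_add ((MonW.res ((toP O).obj G) g.op).comp (descL X ψ U).toAddMonoidHom)
            (tp (Pr O X) ((toP O).obj F) U x n) (tp (Pr O X) ((toP O).obj F) U y n)).symm)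
    | single f r =>
      have h1 : (Finsupp.single f r : (U ⟶ X) →₀ (O.obj.obj (op U))) = r • Finsupp.single f 1 := by
        rw [Finsupp.smul_single, smul_eq_mul, mul_one]
      rw [h1, ← TensorProduct.smul_tmul']
      refine (congrArg (descL X ψ V) (MonW.res_smul (Pr O X ⊗ (toP O).obj F) g.op r
        (tp (Pr O X) ((toP O).obj F) U (mk O X f) n))).trans ?_
      refine ((descL X ψ V).map_smul _ _).trans ?_
      refine Eq.trans ?_ (congrArg (MonW.res ((toP O).obj G) g.op) ((descL X ψ U).map_smul r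
        (tp (Pr O X) ((toP O).obj F) U (mk O X f) n))).symm
      refine Eq.trans ?_ (MonW.res_smul ((toP O).obj G) g.op r _).symm
      congr 1
      refine (congrArg (descL X ψ V) ((tp_res (Pr O X) ((toP O).obj F) g (mk O X f) n).trans
        (congrArg (fun z => tp (Pr O X) ((toP O).obj F) V z _) (mk_res X f g)))).trans ?_
      refine (descL_tp X ψ V (g ≫ f) _).trans ?_
      refine Eq.trans (psi_res X ψ f g n).symm ?_
      exact congrArg (MonW.res ((toP O).obj G) g.op) (descL_tp X ψ U f n).symm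
  | add x y hx hy =>
    exact (map_add ((descL X ψ V).toAddMonoidHom.comp
        (MonW.res (Pr O X ⊗ (toP O).obj F) g.op)) x y).trans
        ((congrArg₂ (· + ·) hx hy).trans
          (map_add ((MonW.res ((toP O).obj G) g.op).comp (descL X ψ U).toAddMonoidHom) x y).symm)

/-- The morphism `Pr ⊗ F ⟶ G` given by `F|_X ⟶ G|_X`. -/
noncomputable def desc (ψ : (ModSite.restr O X).obj F ⟶ (ModSite.restr O X).obj G) :
    Pr O X ⊗ (toP O).obj F ⟶ (toP O).obj G where
  app U := ModuleCat.ofHom (R := O.obj.obj U) (X := (Pr O X ⊗ (toP O).obj F).obj U)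
    (Y := ((toP O).obj G).obj U) (descL X ψ U.unop)
  naturality {U V} g := by
    ext x
    exact descL_nat X ψ g.unop x

theorem desc_tp (ψ : (ModSite.restr O X).obj F ⟶ (ModSite.restr O X).obj G) (U : C)
    (f : U ⟶ X) (m : ModSite.sect F U) :
    MonW.sec (desc X ψ) (op U) (tp (Pr O X) ((toP O).obj F) U (mk O X f) m) = psi X ψ f m :=
  descL_tp X ψ U f m

theorem desc_injective {ψ ψ' : (ModSite.restr O X).obj F ⟶ (ModSite.restr O X).obj G}
    (h : desc X ψ = desc X ψ') : ψ = ψ' := by
  apply hom_ext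
  intro Y m
  have h1 := congrArg (fun k => MonW.sec k (op Y.left)
    (tp (Pr O X) ((toP O).obj F) Y.left (mk O X Y.hom) m)) h
  exact (desc_tp X ψ Y.left Y.hom m).symm.trans (h1.trans (desc_tp X ψ' Y.left Y.hom m))

end Free

section Tau

variable {A F G : ModSite.Mod O} {X : C}

/-- The linear map `m ↦ φ (a ⊗ m)`. -/
noncomputable def tauL (φ : A ⊗ F ⟶ G) (a : ModSite.sect A X) (Y : Over X) :
    F.val.obj (op Y.left) →ₗ[Rg O Y.left] G.val.obj (op Y.left) where
  toFun m := sc φ Y.left (tm (rs A Y.hom a) m)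
  map_add' m m' := (congrArg (sc φ Y.left) (tm_add_right _ _ _)).trans (map_add _ _ _)
  map_smul' r m := (congrArg (sc φ Y.left) (tm_smul_right _ _ _)).trans (sc_smul _ _ _ _)

theorem tauL_res (φ : A ⊗ F ⟶ G) (a : ModSite.sect A X) {Y Z : Over X} (g : Z ⟶ Y)
    (m : ModSite.sect F Y.left) :
    tauL φ a Z (rs F g.left m) = rs G g.left (tauL φ a Y m) := by
  change sc φ Z.left (tm (rs A Z.hom a) (rs F g.left m)) = rs G g.left (sc φ Y.left (tm (rs A Y.hom a) m))
  rw [← sc_rs, rs_tm, rs_comp, Over.w]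

/-- The morphism `F|_X ⟶ G|_X` given by `φ : A ⊗ F ⟶ G` and a section of `A` over `X`. -/
noncomputable def tau (φ : A ⊗ F ⟶ G) (a : ModSite.sect A X) :
    (ModSite.restr O X).obj F ⟶ (ModSite.restr O X).obj G where
  val :=
  { app := fun Y => (ModuleCat.ofHom (tauL φ a Y.unop) :
      F.val.obj (op Y.unop.left) ⟶ G.val.obj (op Y.unop.left))
    naturality := fun {Y Z} g => by
      ext m
      exact tauL_res φ a g.unop m }

theorem sc_tau (φ : A ⊗ F ⟶ G) (a : ModSite.sect A X) (Y : Over X) (m : ModSite.sect F Y.left) :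
    sc (tau φ a) Y (so Y m) = so Y (sc φ Y.left (tm (rs A Y.hom a) m)) := rfl

theorem tau_ext {B : ModSite.Mod O} (φ : A ⊗ F ⟶ G) (a : ModSite.sect A X) (φ' : B ⊗ F ⟶ G)
    (b : ModSite.sect B X)
    (h : ∀ (Y : Over X) (m : ModSite.sect F Y.left),
      sc φ Y.left (tm (rs A Y.hom a) m) = sc φ' Y.left (tm (rs B Y.hom b) m)) :
    tau φ a = tau φ' b :=
  hom_ext fun Y m => h Y m

theorem tau_add (φ : A ⊗ F ⟶ G) (a b : ModSite.sect A X) : tau φ (a + b) = tau φ a + tau φ b := by
  apply hom_ext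
  intro Y m
  change sc φ Y.left (tm (rs A Y.hom (a + b)) m) = sc φ Y.left (tm (rs A Y.hom a) m) +
    sc φ Y.left (tm (rs A Y.hom b) m)
  rw [map_add, tm_add_left, map_add]

/-- Morphisms out of `A_X ⊗ F` are morphisms `F|_X ⟶ G|_X`. -/
theorem bijective_homEl : Function.Bijective
    (fun φ : ModSite.freeOn O X ⊗ F ⟶ G => tau φ (gen O X)) := by
  have hW : WO O (w O X ▷ (toP O).obj F) :=
    MorphismProperty.IsMonoidal.whiskerRight _ (WO_w O X) _
  have hb := precomp_bijective hW G
  have key : ∀ φ : ModSite.freeOn O X ⊗ F ⟶ G, desc X (tau φ (gen O X)) =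
      w O X ▷ (toP O).obj F ≫
        (shAdj O).homEquiv ((toP O).obj (ModSite.freeOn O X) ⊗ (toP O).obj F) G φ := by
    intro φ
    apply pr_ext
    intro U f m
    refine (desc_tp X _ U f m).trans ?_
    rw [Adjunction.homEquiv_unit]
    have h1 := w_mk O X f
    refine (?_ : _ = sc φ U (tm (rs (ModSite.freeOn O X) f (gen O X)) m)).trans ?_
    · rfl
    · rw [← h1]
      rfl
  constructor
  · intro φ φ' h
    apply ((shAdj O).homEquiv ((toP O).obj (ModSite.freeOn O X) ⊗ (toP O).obj F) G).injective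
    apply hb.1
    exact (key φ).symm.trans ((congrArg (desc X) h).trans (key φ'))
  · intro ψ
    obtain ⟨b, hb'⟩ := hb.2 (desc X ψ)
    refine ⟨((shAdj O).homEquiv ((toP O).obj (ModSite.freeOn O X) ⊗ (toP O).obj F) G).symm b,
      desc_injective X ((key _).trans ?_)⟩
    rw [Equiv.apply_symm_apply]
    exact hb'

/-- `ε : E ⊗ F ⟶ G` exhibits `E` as the internal hom. -/
def IsHS {E : ModSite.Mod O} (ε : E ⊗ F ⟶ G) : Prop :=
  ∀ M : ModSite.Mod O, Function.Bijective (fun g : M ⟶ E => g ▷ F ≫ ε)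

theorem IsHS.bijective_tau {E : ModSite.Mod O} {ε : E ⊗ F ⟶ G} (h : IsHS ε) (X : C) :
    Function.Bijective (fun e : ModSite.sect E X => tau ε e) := by
  have h1 : (fun e : ModSite.sect E X => tau ε e) =
      (fun φ : ModSite.freeOn O X ⊗ F ⟶ G => tau φ (gen O X)) ∘
      (fun g : ModSite.freeOn O X ⟶ E => g ▷ F ≫ ε) ∘ (homFreeOn E X).symm := by
    funext e
    refine tau_ext ε e ((homFreeOn E X).symm e ▷ F ≫ ε) (gen O X) fun Y m => ?_
    rw [sc_comp, sc_whiskerRight, sc_rs]
    congr 3
    exact (sc_ofSec e).symm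
  rw [h1]
  exact bijective_homEl.comp ((h _).comp (homFreeOn E X).symm.bijective)

/-- The chosen internal hom. -/
theorem isHS_counit (F G : ModSite.Mod O) [ModSite.HasSheafHom F] :
    IsHS ((ModSite.sheafHomAdj F).counit.app G : (ModSite.sheafHom F).obj G ⊗ F ⟶ G) := by
  intro M
  have h : (fun g : M ⟶ (ModSite.sheafHom F).obj G => g ▷ F ≫
      ((ModSite.sheafHomAdj F).counit.app G : (ModSite.sheafHom F).obj G ⊗ F ⟶ G)) =
      ((ModSite.sheafHomAdj F).homEquiv M G).symm := by
    funext g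
    exact ((ModSite.sheafHomAdj F).homEquiv_counit M G g).symm
  rw [h]
  exact ((ModSite.sheafHomAdj F).homEquiv M G).symm.bijective

end Tau

end K292.HomEl
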