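import Mathlib.CategoryTheory.Limits.Constructions.FiniteProductsOfBinaryProducts
import Mathlib.CategoryTheory.Limits.Preserves.Shapes.Products
import Mathlib.CategoryTheory.Limits.Preserves.Shapes.Kernels
import Mathlib.CategoryTheory.Preadditive.AdditiveFunctor
import Mathlib.CategoryTheory.Limits.Constructions.EpiMono

/-!
# Common kernels of finitely many linear relations, and left exact functors
-/

set_option autoImplicit false

open CategoryTheory CategoryTheory.Limits

universe v₁ v₂ u₁ u₂

namespace K292.UnivKer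

variable {A : Type u₁} [Category.{v₁} A] [Preadditive A] {B : Type u₂} [Category.{v₂} B] [Preadditive B]

/-- `(E, a)` is universal among the families of morphisms to `G` satisfying the relations `r`. -/
structure Univ {n m : ℕ} {G E : A} (a : Fin n → (E ⟶ G)) (r : Fin m → Fin n → (G ⟶ G)) : Prop where
  zero : ∀ k, ∑ i, a i ≫ r k i = 0
  ex : ∀ ⦃Z : A⦄ (z : Fin n → (Z ⟶ G)), (∀ k, ∑ i, z i ≫ r k i = 0) → ∃ l : Z ⟶ E, ∀ i, l ≫ a i = z i
  uniq : ∀ ⦃Z : A⦄ (l l' : Z ⟶ E), (∀ i, l ≫ a i = l' ≫ a i) → l = l'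

variable [HasFiniteProducts A] {n m : ℕ} {G E : A} (a : Fin n → (E ⟶ G))
  (r : Fin m → Fin n → (G ⟶ G))

/-- The matrix of relations. -/
noncomputable def mat : (∏ᶜ fun _ : Fin n => G) ⟶ (∏ᶜ fun _ : Fin m => G) :=
  Pi.lift fun k => ∑ i, Pi.π (fun _ : Fin n => G) i ≫ r k i

theorem comp_mat_iff {Z : A} (z : Z ⟶ ∏ᶜ fun _ : Fin n => G) :
    z ≫ mat r = 0 ↔ ∀ k, ∑ i, (z ≫ Pi.π (fun _ : Fin n => G) i) ≫ r k i = 0 := by
  have h : ∀ k, (z ≫ mat r) ≫ Pi.π (fun _ : Fin m => G) k =
      ∑ i, (z ≫ Pi.π (fun _ : Fin n => G) i) ≫ r k i := by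
    intro k
    rw [Category.assoc, mat, Pi.lift_π, Preadditive.comp_sum]
    exact Finset.sum_congr rfl fun i _ => (Category.assoc _ _ _).symm
  constructor
  · intro hz k
    rw [← h, hz, zero_comp]
  · intro hz
    refine Pi.hom_ext _ _ fun k => ?_
    rw [h, hz, zero_comp]

variable {a r}

theorem Univ.lift_zero (h : Univ a r) : Pi.lift a ≫ mat r = 0 := by
  rw [comp_mat_iff]
  intro k
  simp only [Pi.lift_π]
  exact h.zero k

/-- A universal family is a kernel. -/
noncomputable def Univ.isLimit (h : Univ a r) : IsLimit (KernelFork.ofι (Pi.lift a) h.lift_zero) :=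
  KernelFork.IsLimit.ofι _ _
    (fun z hz => Classical.choose (h.ex (fun i => z ≫ Pi.π (fun _ : Fin n => G) i)
      ((comp_mat_iff r z).1 hz)))
    (fun z hz => by
      have h1 := Classical.choose_spec (h.ex (fun i => z ≫ Pi.π (fun _ : Fin n => G) i)
        ((comp_mat_iff r z).1 hz))
      refine Pi.hom_ext _ _ fun i => ?_
      rw [Category.assoc, Pi.lift_π]
      exact h1 i)
    (fun z hz l hl => by
      have h1 := Classical.choose_spec (h.ex (fun i => z ≫ Pi.π (fun _ : Fin n => G) i)
        ((comp_mat_iff r z).1 hz))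
      refine h.uniq _ _ fun i => ?_
      refine Eq.trans ?_ (h1 i).symm
      rw [← hl, Category.assoc, Pi.lift_π])

variable (T : A ⥤ B) [T.Additive] [PreservesFiniteLimits T] [HasFiniteProducts B]

theorem Univ.map (h : Univ a r) : Univ (fun i => T.map (a i)) (fun k i => T.map (r k i)) where
  zero k := by
    have := congrArg T.map (h.zero k)
    simpa [T.map_sum] using this
  uniq Z l l' hl := by
    have h1 : Mono (T.map (Pi.lift a)) := by
      have : Mono (Pi.lift a) := mono_of_isLimit_fork h.isLimit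
      infer_instance
    rw [← cancel_mono (T.map (Pi.lift a)),
      ← cancel_mono (piComparison T (fun _ : Fin n => G))]
    refine Pi.hom_ext _ _ fun i => ?_
    simp only [Category.assoc, piComparison_comp_π]
    rw [← T.map_comp, Pi.lift_π]
    exact hl i
  ex Z z hz := by
    let z' : Z ⟶ T.obj (∏ᶜ fun _ : Fin n => G) :=
      Pi.lift z ≫ inv (piComparison T (fun _ : Fin n => G))
    have hz' : ∀ i, z' ≫ T.map (Pi.π _ i) = z i := by
      intro i
      rw [← piComparison_comp_π, Category.assoc, IsIso.inv_hom_id_assoc, Pi.lift_π]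
    have h0 : z' ≫ T.map (mat r) = 0 := by
      rw [← cancel_mono (piComparison T (fun _ : Fin m => G)), zero_comp]
      refine Pi.hom_ext _ _ fun k => ?_
      rw [zero_comp, Category.assoc, Category.assoc, piComparison_comp_π, ← T.map_comp, mat, Pi.lift_π,
        T.map_sum, Preadditive.comp_sum]
      refine Eq.trans ?_ (hz k)
      refine Finset.sum_congr rfl fun i _ => ?_
      rw [T.map_comp, ← Category.assoc, hz']
    let hl := isLimitForkMapOfIsLimit' T h.lift_zero h.isLimit
    obtain ⟨l, hl⟩ := KernelFork.IsLimit.lift' hl z' h0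
    refine ⟨l, fun i => ?_⟩
    have h3 : l ≫ T.map (Pi.lift a) = z' := hl
    rw [← hz' i, ← h3, Category.assoc, ← T.map_comp, Pi.lift_π]

omit [HasFiniteProducts A] in
/-- Uniqueness of universal families, along an isomorphism of the targets. -/
theorem Univ.isIso (h : Univ a r) {G' E' : A} {a' : Fin n → (E' ⟶ G')}
    {r' : Fin m → Fin n → (G' ⟶ G')} (h' : Univ a' r') (e : G ⟶ G') [IsIso e] (c : E ⟶ E')
    (hc : ∀ i, c ≫ a' i = a i ≫ e) (hr : ∀ k i, r k i ≫ e = e ≫ r' k i) : IsIso c := by
  obtain ⟨l, hl⟩ := h.ex (fun i => a' i ≫ inv e) (fun k => by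
    have h1 : ∀ i, (a' i ≫ inv e) ≫ r k i = (a' i ≫ r' k i) ≫ inv e := by
      intro i
      rw [Category.assoc, Category.assoc]
      congr 1
      rw [IsIso.inv_comp_eq, ← Category.assoc, ← hr, Category.assoc, IsIso.hom_inv_id,
        Category.comp_id]
    rw [Finset.sum_congr rfl fun i _ => h1 i, ← Preadditive.sum_comp, h'.zero, zero_comp])
  refine ⟨l, ?_, ?_⟩
  · refine h.uniq _ _ fun i => ?_
    rw [Category.assoc, hl, ← Category.assoc, hc, Category.assoc, IsIso.hom_inv_id,
      Category.comp_id, Category.id_comp]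
  · refine h'.uniq _ _ fun i => ?_
    rw [Category.assoc, hc, ← Category.assoc, hl, Category.assoc, IsIso.inv_hom_id,
      Category.comp_id, Category.id_comp]

end K292.UnivKer
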