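import Groth.Agent.ModSite.K292.HomEl
import Groth.Agent.ModSite.K292.UnivKer
import Groth.Agent.ModSite.K292.SiteSec
import Groth.Agent.ModSite.K291.Shriek2

/-!
# The map `ℋom(F, G) ⊗ H → ℋom(F, G ⊗ H)`

`isIso_can`: it is an isomorphism if `F` is of finite presentation and `H` is flat.
-/

set_option autoImplicit false

open CategoryTheory MonoidalCategory Limits Opposite

universe u

namespace K292.HomTensor

open Groth.Agent.Dcoh K291.Mon K291.Colim K291.Flat K291.FreeOn K291.Restr K292.Tm K292.TmR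
open K292.HomEl K292.UnivKer

variable {C : Type u} [SmallCategory C] {J : GrothendieckTopology C} {O : Sheaf J CommRingCat.{u}}

section Mor

/-- Elementwise construction of morphisms of modules. -/
noncomputable def mkMor {M N : ModSite.Mod O}
    (φ : ∀ U : C, ModSite.sect M U →ₗ[Rg O U] ModSite.sect N U)
    (h : ∀ {U V : C} (f : V ⟶ U) (m : ModSite.sect M U), φ V (rs M f m) = rs N f (φ U m)) :
    M ⟶ N where
  val :=
  { app := fun U => (ModuleCat.ofHom (φ U.unop) : M.val.obj (op U.unop) ⟶ N.val.obj (op U.unop))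
    naturality := fun {U V} f => by
      ext m
      exact h f.unop m }

theorem sc_mkMor {M N : ModSite.Mod O}
    (φ : ∀ U : C, ModSite.sect M U →ₗ[Rg O U] ModSite.sect N U)
    (h : ∀ {U V : C} (f : V ⟶ U) (m : ModSite.sect M U), φ V (rs M f m) = rs N f (φ U m)) (U : C)
    (m : ModSite.sect M U) : sc (mkMor φ h) U m = φ U m := rfl

theorem rr_comp {X Y Z : C} (f : Y ⟶ X) (g : Z ⟶ Y) (r : Rg O X) :
    rr O (g ≫ f) r = rr O g (rr O f r) := by
  change ((ModSite.ringSh O).obj.map (g ≫ f).op).hom r = _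
  rw [op_comp, Functor.map_comp]
  rfl

/-- A morphism which is bijective on sections on a covering family is an isomorphism. -/
theorem isIso_of_loc {M N : ModSite.Mod O} (c : M ⟶ N)
    (h : ∀ U : C, ∃ S ∈ J U, ∀ ⦃V : C⦄ (f : V ⟶ U), S f → Function.Bijective (sc c V)) :
    IsIso c := by
  have hW : WO O ((toP O).map c) := by
    change J.W _
    rw [GrothendieckTopology.W_iff_isLocallyBijective]
    constructor
    · rw [MonW.isLocallyInjective_iff]
      intro U s hs
      obtain ⟨S, hS, H⟩ := h U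
      refine ⟨S, hS, fun V f hf => (H f hf).1 ?_⟩
      exact (MonW.sec_res ((toP O).map c) f.op s).trans
        ((congrArg (MonW.res ((toP O).obj N) f.op) hs).trans
          ((map_zero (MonW.res ((toP O).obj N) f.op)).trans (map_zero (sc c V)).symm))
    · rw [MonW.isLocallySurjective_iff]
      intro U s
      obtain ⟨S, hS, H⟩ := h U
      exact ⟨S, hS, fun V f hf => (H f hf).2 _⟩
  have h1 := (WO_iff O _).1 hW
  have h2 := (shAdj O).counit.naturality c
  have h3 : c = inv ((shAdj O).counit.app M) ≫ (shP O).map ((toP O).map c) ≫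
      (shAdj O).counit.app N := by
    rw [IsIso.eq_inv_comp]
    exact h2.symm
  rw [h3]
  infer_instance

theorem bijective_of_isIso {M N : ModSite.Mod O} (c : M ⟶ N) [IsIso c] (U : C) :
    Function.Bijective (sc c U) := by
  constructor
  · intro a b hab
    have h := congrArg (sc (inv c) U) hab
    rw [← sc_comp, ← sc_comp, IsIso.hom_inv_id, sc_id, sc_id] at h
    exact h
  · intro a
    exact ⟨sc (inv c) U a, by rw [← sc_comp, IsIso.inv_hom_id, sc_id]⟩

end Mor

section Pres

variable {F : ModSite.Mod O} {X : C}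

/-- An elementwise presentation of `F|_X`. -/
structure Pres (F : ModSite.Mod O) (X : C) (n m : ℕ) where
  /-- generators -/
  f : Fin n → ModSite.sect F X
  /-- relations -/
  r : Fin m → Fin n → Rg O X
  rel : ∀ k, ∑ i, r k i • f i = 0
  ext : ∀ (N : ModSite.Mod O) (Y : C) (g : Y ⟶ X)
    (ψ ψ' : (ModSite.restr O Y).obj F ⟶ (ModSite.restr O Y).obj N),
    (∀ i, sc ψ (Over.mk (𝟙 Y)) (so (Over.mk (𝟙 Y)) (rs F g (f i))) =
      sc ψ' (Over.mk (𝟙 Y)) (so (Over.mk (𝟙 Y)) (rs F g (f i)))) → ψ = ψ'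
  desc : ∀ (N : ModSite.Mod O) (Y : C) (g : Y ⟶ X) (x : Fin n → ModSite.sect N Y),
    (∀ k, ∑ i, rr O g (r k i) • x i = 0) →
    ∃ ψ : (ModSite.restr O Y).obj F ⟶ (ModSite.restr O Y).obj N,
      ∀ i, sc ψ (Over.mk (𝟙 Y)) (so (Over.mk (𝟙 Y)) (rs F g (f i))) = so (Over.mk (𝟙 Y)) (x i)

variable {n m : ℕ} (P : Pres F X n m) {G E : ModSite.Mod O} {ε : E ⊗ F ⟶ G} (hε : IsHS ε)

theorem tau_one {Y : C} (e : ModSite.sect E Y) (m : ModSite.sect F Y) :
    sc (tau ε e) (Over.mk (𝟙 Y)) (so (Over.mk (𝟙 Y)) m) = so (Over.mk (𝟙 Y)) (sc ε Y (tm e m)) := by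
  refine (sc_tau ε e (Over.mk (𝟙 Y)) m).trans ?_
  exact congrArg (fun z => sc ε Y (tm z m)) (rs_id E e)

include hε

theorem ext_gen {Y : C} (g : Y ⟶ X) (e e' : ModSite.sect E Y)
    (h : ∀ i, sc ε Y (tm e (rs F g (P.f i))) = sc ε Y (tm e' (rs F g (P.f i)))) : e = e' := by
  apply (hε.bijective_tau Y).1
  refine P.ext G Y g _ _ fun i => ?_
  exact (tau_one e _).trans ((h i).trans (tau_one e' _).symm)

theorem ex_gen {Y : C} (g : Y ⟶ X) (x : Fin n → ModSite.sect G Y)
    (hx : ∀ k, ∑ i, rr O g (P.r k i) • x i = 0) :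
    ∃ e : ModSite.sect E Y, ∀ i, sc ε Y (tm e (rs F g (P.f i))) = x i := by
  obtain ⟨ψ, hψ⟩ := P.desc G Y g x hx
  obtain ⟨e, he⟩ := (hε.bijective_tau Y).2 ψ
  refine ⟨e, fun i => ?_⟩
  refine (tau_one e _).symm.trans (Eq.trans ?_ (hψ i))
  exact congrArg (fun k => sc k (Over.mk (𝟙 Y)) (so (Over.mk (𝟙 Y)) (rs F g (P.f i)))) he

omit hε

theorem rel_gen {Y : C} (g : Y ⟶ X) (e : ModSite.sect E Y) (k : Fin m) :
    ∑ i, rr O g (P.r k i) • sc ε Y (tm e (rs F g (P.f i))) = 0 := by
  have h : ∀ i, rr O g (P.r k i) • sc ε Y (tm e (rs F g (P.f i))) =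
      sc ε Y (tm e (rs F g (P.r k i • P.f i))) := by
    intro i
    rw [rs_smul, tm_smul_right, sc_smul]
  rw [Finset.sum_congr rfl fun i _ => h i, ← map_sum, ← tm_sum_right, ← map_sum, P.rel, map_zero]
  have h0 : tm e (0 : ModSite.sect F Y) = 0 := map_zero (tmR F e)
  rw [h0, map_zero]

variable (ε)

/-- Evaluation at the `i`-th generator. -/
noncomputable def evG (i : Fin n) : (ModSite.restr O X).obj E ⟶ (ModSite.restr O X).obj G :=
  mkMor (O := O.over X) (fun Y =>
    { toFun := fun e => (sc ε Y.left (tm (show ModSite.sect E Y.left from e) (rs F Y.hom (P.f i))) :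
        ModSite.sect G Y.left)
      map_add' := fun e e' => by
        refine (congrArg (sc ε Y.left) (tm_add_left _ _ _)).trans (map_add _ _ _)
      map_smul' := fun r e =>
        (congrArg (sc ε Y.left) (tm_smul_left _ _ _)).trans (sc_smul _ _ _ _) })
    (fun {Y Z} g e => by
      change sc ε Z.left (tm (rs E g.left e) (rs F Z.hom (P.f i))) =
        rs G g.left (sc ε Y.left (tm (show ModSite.sect E Y.left from e) (rs F Y.hom (P.f i))))
      rw [← sc_rs, rs_tm, rs_comp, Over.w])

theorem sc_evG (i : Fin n) (Y : Over X) (e : ModSite.sect E Y.left) :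
    sc (evG P ε i) Y (so Y e) = so Y (sc ε Y.left (tm e (rs F Y.hom (P.f i)))) := rfl

variable (G)

/-- Multiplication by the coefficient of a relation. -/
noncomputable def smG (k : Fin m) (i : Fin n) :
    (ModSite.restr O X).obj G ⟶ (ModSite.restr O X).obj G :=
  mkMor (O := O.over X) (fun Y =>
    { toFun := fun x => (rr O Y.hom (P.r k i) • (show ModSite.sect G Y.left from x) :
        ModSite.sect G Y.left)
      map_add' := fun x x' => smul_add (M := Rg O Y.left) (A := ModSite.sect G Y.left) _ x x'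
      map_smul' := fun r x => by
        change rr O Y.hom (P.r k i) • ((show Rg O Y.left from r) • (show ModSite.sect G Y.left from x)) =
          (show Rg O Y.left from r) • (rr O Y.hom (P.r k i) • (show ModSite.sect G Y.left from x))
        rw [← mul_smul, ← mul_smul]
        congr 1
        exact mul_comm (G := O.obj.obj (op Y.left)) _ _ })
    (fun {Y Z} g x => by
      change rr O Z.hom (P.r k i) • rs G g.left x =
        rs G g.left (rr O Y.hom (P.r k i) • (show ModSite.sect G Y.left from x))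
      rw [rs_smul]
      congr 1
      rw [← Over.w g]
      exact rr_comp _ _ _)

theorem sc_smG (k : Fin m) (i : Fin n) (Y : Over X) (x : ModSite.sect G Y.left) :
    sc (smG P G k i) Y (so Y x) = so Y (rr O Y.hom (P.r k i) • x) := rfl

variable {G}

include hε

/-- The internal hom out of a presented module. -/
theorem univ : Univ (evG P ε) (smG P G) where
  zero k := by
    apply hom_ext
    intro Y e
    refine Eq.trans ?_ (rel_gen P (ε := ε) Y.hom e k)
    have h := map_sum (AddMonoidHom.mk' (fun a : (ModSite.restr O X).obj E ⟶ (ModSite.restr O X).obj G =>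
      sc a Y e) (fun _ _ => rfl)) (fun i => evG P ε i ≫ smG P G k i) Finset.univ
    exact h
  uniq Z l l' h := by
    apply hom_ext
    intro Y z
    refine ext_gen P hε Y.hom _ _ fun i => ?_
    have h1 := congrArg (fun k => sc k Y z) (h i)
    simp only [sc_comp] at h1
    exact h1
  ex Z z hz := by
    have hrel : ∀ (Y : Over X) (s : ModSite.sect Z Y) (k : Fin m),
        ∑ i, rr O Y.hom (P.r k i) • (show ModSite.sect G Y.left from sc (z i) Y s) = 0 := by
      intro Y s k
      have h := map_sum (AddMonoidHom.mk' (fun a : Z ⟶ (ModSite.restr O X).obj G =>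
        sc a Y s) (fun _ _ => rfl)) (fun i => z i ≫ smG P G k i) Finset.univ
      refine Eq.trans h.symm ?_
      change sc (∑ i, z i ≫ smG P G k i) Y s = 0
      rw [hz k]
      rfl
    choose e he using fun (Y : Over X) (s : ModSite.sect Z Y) =>
      ex_gen P hε Y.hom (fun i => (show ModSite.sect G Y.left from sc (z i) Y s)) (hrel Y s)
    refine ⟨mkMor (O := O.over X) (fun Y =>
      { toFun := fun s => e Y s
        map_add' := fun s t => ?_
        map_smul' := fun r s => ?_ }) (fun {Y W} g s => ?_), fun i => ?_⟩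
    · refine ext_gen P hε Y.hom _ _ fun i => ?_
      rw [he]
      refine Eq.trans ?_ ((congrArg (sc ε Y.left) (tm_add_left _ _ _)).trans (map_add _ _ _)).symm
      rw [he, he]
      exact map_add (sc (z i) Y) s t
    · refine ext_gen P hε Y.hom _ _ fun i => ?_
      rw [he]
      refine Eq.trans ?_ ((congrArg (sc ε Y.left) (tm_smul_left _ _ _)).trans
        (sc_smul _ _ _ _)).symm
      rw [he]
      exact sc_smul (z i) Y r s
    · refine ext_gen P hε W.hom _ _ fun i => ?_
      refine (he W (rs Z g s) i).trans ?_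
      refine (sc_rs (z i) g s).trans ?_
      refine (congrArg (rs G g.left) (he Y s i).symm).trans ?_
      rw [← sc_rs, rs_tm, rs_comp, Over.w]
      rfl
    · apply hom_ext
      intro Y s
      exact he Y s i

end Pres

section Can

variable {F G E E' H : ModSite.Mod O} (ε : E ⊗ F ⟶ G) {ε' : E' ⊗ F ⟶ G ⊗ H} (hε' : IsHS ε')

/-- `(e ⊗ h) ⊗ f ↦ ε(e ⊗ f) ⊗ h`. -/
noncomputable def theta (H : ModSite.Mod O) : (E ⊗ H) ⊗ F ⟶ G ⊗ H :=
  (α_ E H F).hom ≫ E ◁ (β_ H F).hom ≫ (α_ E F H).inv ≫ ε ▷ H

theorem sc_theta {U : C} (e : ModSite.sect E U) (h : ModSite.sect H U) (f : ModSite.sect F U) :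
    sc (theta ε H) U (tm (tm e h) f) = tm (sc ε U (tm e f)) h := by
  rw [theta, sc_comp, sc_comp, sc_comp, sc_assoc, sc_whiskerLeft, sc_braiding, sc_assoc_inv,
    sc_whiskerRight]

include hε'

theorem exists_can : ∃ c : E ⊗ H ⟶ E', ∀ (U : C) (e : ModSite.sect E U) (h : ModSite.sect H U)
    (f : ModSite.sect F U), sc ε' U (tm (sc c U (tm e h)) f) = tm (sc ε U (tm e f)) h := by
  obtain ⟨c, hc⟩ := (hε' (E ⊗ H)).2 (theta ε H)
  refine ⟨c, fun U e h f => ?_⟩
  refine Eq.trans ?_ ((congrArg (fun k => sc k U (tm (tm e h) f)) hc).trans (sc_theta ε e h f))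
  exact (congrArg (sc ε' U) (sc_whiskerRight c F (tm e h) f)).symm

variable {ε} (hε : IsHS ε) (hH : ModSite.IsFlat H) {X : C} {n m : ℕ} (P : Pres F X n m)
  (c : E ⊗ H ⟶ E') (hc : ∀ (U : C) (e : ModSite.sect E U) (h : ModSite.sect H U)
    (f : ModSite.sect F U), sc ε' U (tm (sc c U (tm e h)) f) = tm (sc ε U (tm e f)) h)

include hε hH P hc

theorem isIso_restr : IsIso ((ModSite.restr O X).map c) := by
  have hHX : ModSite.IsFlat ((ModSite.restr O X).obj H) := K291.Shriek.isFlat_restr hH
  let T := (ModSite.tensorBi (O.over X)).flip.obj ((ModSite.restr O X).obj H)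
  have : PreservesFiniteLimits T := hHX.1
  have h1 := (univ P ε hε).map T
  have h2 := univ P ε' hε'
  let e : T.obj ((ModSite.restr O X).obj G) ⟶ (ModSite.restr O X).obj (G ⊗ H) := kap X G H
  have he : IsIso e := isIso_kap X G H
  let c' : T.obj ((ModSite.restr O X).obj E) ⟶ (ModSite.restr O X).obj E' :=
    kap X E H ≫ (ModSite.restr O X).map c
  have h3 : IsIso c' := by
    refine h1.isIso h2 e c' ?_ ?_
    · intro i
      apply hom_ext_tm
      intro Y e h
      refine (congrArg (fun z => sc (evG P ε' i) Y (sc ((ModSite.restr O X).map c) Y z))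
        (sc_kap X E H Y e h)).trans ?_
      refine Eq.trans ?_ (congrArg (fun z => sc (kap X G H) Y z) (sc_whiskerRight (evG P ε i) _
        (so Y e) (so Y h)).symm)
      refine Eq.trans ?_ (sc_kap X G H Y (sc ε Y.left (tm e (rs F Y.hom (P.f i)))) h).symm
      exact hc Y.left e h (rs F Y.hom (P.f i))
    · intro k i
      apply hom_ext_tm
      intro Y x h
      refine (congrArg (fun z => sc (kap X G H) Y z) (sc_whiskerRight (smG P G k i) _
        (so Y x) (so Y h))).trans ?_
      refine (sc_kap X G H Y (rr O Y.hom (P.r k i) • (show ModSite.sect G Y.left from x)) h).trans ?_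
      refine Eq.trans ?_ (congrArg (fun z => sc (smG P (G ⊗ H) k i) Y z) (sc_kap X G H Y x h)).symm
      exact tm_smul_left _ _ _
  exact @IsIso.of_isIso_comp_left _ _ _ _ _ (kap X E H) ((ModSite.restr O X).map c) _ h3

end Can

end K292.HomTensor
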