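import Groth.Agent.ModSite.K292.HomTensor
import Groth.Agent.Gaga.H976.TM3

/-!
# Local presentations of modules of finite presentation, elementwise; the main theorem on
`ℋom(F, G) ⊗ H → ℋom(F, G ⊗ H)`
-/

set_option autoImplicit false

open CategoryTheory MonoidalCategory Limits Opposite

universe u

namespace K292.HomTensor

open Groth.Agent.Dcoh K291.Mon K291.Colim K291.Flat K291.FreeOn K291.Restr K292.Tm K292.TmR
open K292.HomEl K292.UnivKer K292.SiteSec
open Groth.Agent.Gaga.H976.TM0 Groth.Agent.Gaga.H976.TM1 Groth.Agent.Gaga.H976.TM2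

variable {C : Type u} [SmallCategory C] {J : GrothendieckTopology C} {O : Sheaf J CommRingCat.{u}}

theorem ofSec_resSec (F : ModSite.Mod O) {X Y : C} (g : Y ⟶ X) (σ : (F.over X).sections) :
    SiteSec.ofSec F Y (resSec F g σ) = rs F g (SiteSec.ofSec F X σ) := by
  refine (sec_resSec F g σ _).trans ?_
  refine (sec_eq F X σ _).trans ?_
  change rs F (𝟙 Y ≫ g) (SiteSec.ofSec F X σ) = _
  rw [Category.id_comp]

/-- A morphism of restrictions on the restriction of a section. -/
theorem app_sec {F N : ModSite.Mod O} {Y : C}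
    (ψ : (ModSite.restr O Y).obj F ⟶ (ModSite.restr O Y).obj N) (σ : (F.over Y).sections)
    (Z : (Over Y)ᵒᵖ) : ψ.val.app Z (sec σ Z) =
      (show (N.over Y).val.obj Z from rs N Z.unop.hom
        (show ModSite.sect N Y from sc ψ (Over.mk (𝟙 Y)) (SiteSec.ofSec F Y σ))) := by
  rw [sec_eq]
  exact sc_rs ψ (Over.homMk Z.unop.hom : Z.unop ⟶ Over.mk (𝟙 Y)) (SiteSec.ofSec F Y σ)

/-- Elementwise presentations from presentations. -/
theorem exists_pres (F : ModSite.Mod O) (X : C) {I K : Type u} [Fintype I] [Fintype K]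
    (s : I → (F.over X).sections) (r : K → I → RSec ((ModSite.ringSh O).over X))
    (hs : Gen s) (hr : Rel s r) : ∃ n m : ℕ, Nonempty (Pres F X n m) := by
  classical
  let e : I ≃ Fin (Fintype.card I) := Fintype.equivFin I
  let e' : K ≃ Fin (Fintype.card K) := Fintype.equivFin K
  refine ⟨Fintype.card I, Fintype.card K, ⟨{
    f := fun i => SiteSec.ofSec F X (s (e.symm i))
    r := fun k i => (show (ModSite.ringSh O).obj.obj (op X) from
      rsec (r (e'.symm k) (e.symm i)) (op (Over.mk (𝟙 X))))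
    rel := fun k => ?_
    ext := fun N Y g ψ ψ' h => ?_
    desc := fun N Y g x hx => ?_ }⟩⟩
  · have h1 := hr.1 (e'.symm k) (op (Over.mk (𝟙 X)))
    rw [← Equiv.sum_comp e.symm] at h1
    exact h1
  · refine SiteSec.hom_ext (fun j => resSec F g (s j)) (gen_res F g s hs) ψ ψ' fun j Z => ?_
    refine (app_sec ψ _ Z).trans (Eq.trans ?_ (app_sec ψ' _ Z).symm)
    refine congrArg (rs N Z.unop.hom) ?_
    rw [ofSec_resSec]
    have h1 := h (e j)
    rw [Equiv.symm_apply_apply] at h1
    exact h1
  · have hrel : ∀ (k : K) (Z : (Over Y)ᵒᵖ),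
        ∑ j, rsec (resRSec g (r k j)) Z • sec (toSec N Y (x (e j))) Z = 0 := by
      intro k Z
      have h2 := congrArg (rs N Z.unop.hom) (hx (e' k))
      rw [map_zero, map_sum] at h2
      refine Eq.trans ?_ h2
      rw [← Equiv.sum_comp e.symm]
      refine Finset.sum_congr rfl fun i _ => ?_
      rw [rs_smul, Equiv.apply_symm_apply, Equiv.symm_apply_apply]
      have h3 : (show (ModSite.ringSh O).obj.obj (op Z.unop.left) from
          rsec (resRSec g (r k (e.symm i))) Z) = rr O Z.unop.hom (rr O g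
            (show (ModSite.ringSh O).obj.obj (op X) from
              rsec (r k (e.symm i)) (op (Over.mk (𝟙 X))))) := by
        rw [← rr_comp]
        exact rsec_eq X (r k (e.symm i)) (op ((Over.map g).obj Z.unop))
      exact congrArg (fun a : Rg O Z.unop.left => a • rs N Z.unop.hom (x i)) h3
    obtain ⟨ψ, hψ⟩ := SiteSec.exists_desc (M := F.over Y) (N := N.over Y) (fun j => resSec F g (s j))
      (fun k j => resRSec g (r k j)) (gen_res F g s hs) (rel_res F g s r hr)
      (fun j => toSec N Y (x (e j))) hrel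
    refine ⟨ψ, fun i => ?_⟩
    have h1 := hψ (e.symm i) (op (Over.mk (𝟙 Y)))
    rw [Equiv.apply_symm_apply] at h1
    refine Eq.trans ?_ (h1.trans ?_)
    · exact congrArg (sc (F := (ModSite.restr O Y).obj F) (G := (ModSite.restr O Y).obj N) ψ
        (Over.mk (𝟙 Y))) (ofSec_resSec F g (s (e.symm i))).symm
    · exact rs_id N (x i)

theorem isIso_can {F G H E E' : ModSite.Mod O} (hF : F.IsFinitePresentation)
    (hH : ModSite.IsFlat H) {ε : E ⊗ F ⟶ G} (hε : IsHS ε) {ε' : E' ⊗ F ⟶ G ⊗ H} (hε' : IsHS ε')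
    (c : E ⊗ H ⟶ E') (hc : ∀ (U : C) (e : ModSite.sect E U) (h : ModSite.sect H U)
      (f : ModSite.sect F U), sc ε' U (tm (sc c U (tm e h)) f) = tm (sc ε U (tm e f)) h) :
    IsIso c := by
  obtain ⟨σ, hσ⟩ := SheafOfModules.IsFinitePresentation.exists_quasicoherentData F
  have key : ∀ i : σ.I, IsIso ((ModSite.restr O (σ.X i)).map c) := by
    intro i
    have hP := hσ.isFinite_presentation i
    have hf1 : Finite (σ.presentation i).generators.I := hP.isFiniteType_generators.finite
    have hf2 : Finite (σ.presentation i).relations.I := hP.isFiniteType_relations.finite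
    let _ := Fintype.ofFinite (σ.presentation i).generators.I
    let _ := Fintype.ofFinite (σ.presentation i).relations.I
    obtain ⟨r, hr⟩ := exists_rel (σ.presentation i)
    obtain ⟨n, m, ⟨P⟩⟩ := exists_pres F (σ.X i) (σ.presentation i).generators.s r
      ((epi_iff_gen _).1 (σ.presentation i).generators.epi) hr
    exact isIso_restr hε' hε hH P c hc
  refine isIso_of_loc c fun U => ⟨_, σ.coversTop U, fun V f hf => ?_⟩
  obtain ⟨i, ⟨h⟩⟩ := (Sieve.mem_ofObjects_iff ..).mp hf
  have := key i
  exact bijective_of_isIso ((ModSite.restr O (σ.X i)).map c) (Over.mk h)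

/-- `ℋom(F, G) ⊗ H ≅ ℋom(F, G ⊗ H)` for `F` of finite presentation and `H` flat. -/
theorem main (F G H : ModSite.Mod O) (hF : F.IsFinitePresentation)
    [ModSite.HasSheafHom F] (hH : ModSite.IsFlat H) :
    Nonempty (((ModSite.sheafHom F).obj G) ⊗ H ≅ (ModSite.sheafHom F).obj (G ⊗ H)) := by
  obtain ⟨c, hc⟩ := exists_can (H := H)
    ((ModSite.sheafHomAdj F).counit.app G : (ModSite.sheafHom F).obj G ⊗ F ⟶ G)
    (isHS_counit F (G ⊗ H))
  have := isIso_can hF hH (isHS_counit F G) (isHS_counit F (G ⊗ H)) c hc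
  exact ⟨asIso c⟩

end K292.HomTensor
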