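import Groth.Agent.ModSite.K292.Germ

/-!
# Bases of sections of modules on a ringed space
-/

set_option autoImplicit false

universe u

open CategoryTheory CategoryTheory.Limits Opposite TopologicalSpace

namespace K292.LocFree

open Groth.Agent.Gaga.H976.TM1 Groth.Agent.Gaga.H976.TM3 K292.Sp K292.Germ

section

variable {X : TopCat.{u}} {R : Sheaf (Opens.grothendieckTopology X) RingCat.{u}}

/-- The sections `b i` over `U` form a basis of `F` over every smaller open. -/
def IsBas (F : SheafOfModules.{u} R) (U : Opens X) {r : ℕ} (b : Fin r → F.val.obj (op U)) : Prop :=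
  (∀ (V : Opens X) (hV : V ≤ U) (t : F.val.obj (op V)), ∃ c : Fin r → R.obj.obj (op V),
    t = ∑ j, c j • rs F hV (b j)) ∧
  ∀ (V : Opens X) (hV : V ≤ U) (c : Fin r → R.obj.obj (op V)),
    ∑ j, c j • rs F hV (b j) = 0 → c = 0

lemma IsBas.mono {F : SheafOfModules.{u} R} {U : Opens X} {r : ℕ} {b : Fin r → F.val.obj (op U)}
    (h : IsBas F U b) {V : Opens X} (hV : V ≤ U) : IsBas F V (fun j => rs F hV (b j)) := by
  refine ⟨fun V' hV' t => ?_, fun V' hV' c hc => ?_⟩
  · obtain ⟨c, hc⟩ := h.1 V' (hV'.trans hV) t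
    exact ⟨c, by simpa only [rs_rs] using hc⟩
  · exact h.2 V' (hV'.trans hV) c (by simpa only [rs_rs] using hc)

theorem exists_isBas {F : SheafOfModules.{u} R} {U : Opens X} {r : ℕ}
    (e : F.over U ≅ SheafOfModules.free (ULift.{u} (Fin r))) :
    ∃ b : Fin r → F.val.obj (op U), IsBas F U b := by
  classical
  let f := e.inv
  let σ : ULift.{u} (Fin r) → (F.over U).sections := (F.over U).freeHomEquiv f
  have key : ∀ (V : Opens X) (hV : V ≤ U) (c : ULift.{u} (Fin r) → R.obj.obj (op V)),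
      f.val.app (op (Over.mk (homOfLE hV)))
        (ofCo (R := R.over U) (X := op (Over.mk (homOfLE hV))) c) =
        ∑ j : Fin r, c ⟨j⟩ • rs F hV (ofSec F U (σ ⟨j⟩)) := by
    intro V hV c
    refine (map_ofCo f (op (Over.mk (homOfLE hV))) c).trans ?_
    rw [← Equiv.sum_comp Equiv.ulift.{u}.symm]
    refine Finset.sum_congr rfl fun j _ => ?_
    change (show (R.over U).obj.obj (op (Over.mk (homOfLE hV))) from c ⟨j⟩) •
      sec (σ ⟨j⟩) (op (Over.mk (homOfLE hV))) = _
    rw [sec_eq]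
    rfl
  refine ⟨fun j => ofSec F U (σ ⟨j⟩), fun V hV t => ?_, fun V hV c hc => ?_⟩
  · let t' : (SheafOfModules.free (R := R.over U) (ULift.{u} (Fin r))).val.obj
      (op (Over.mk (homOfLE hV))) := e.hom.val.app (op (Over.mk (homOfLE hV))) t
    have h1 : f.val.app (op (Over.mk (homOfLE hV))) t' = t := by
      have h2 : (e.hom ≫ f).val.app (op (Over.mk (homOfLE hV))) t = t := by
        rw [e.hom_inv_id]; rfl
      exact h2
    refine ⟨fun j => co (R := R.over U) (X := op (Over.mk (homOfLE hV))) t' ⟨j⟩, ?_⟩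
    rw [← key V hV (co (R := R.over U) (X := op (Over.mk (homOfLE hV))) t'), ofCo_co, h1]
  · have h1 := key V hV (fun j => c j.down)
    rw [hc] at h1
    have h2 : ofCo (R := R.over U) (X := op (Over.mk (homOfLE hV))) (fun j : ULift.{u} (Fin r) => c j.down) = 0 := by
      have h3 : (f ≫ e.hom).val.app (op (Over.mk (homOfLE hV)))
          (ofCo (R := R.over U) (X := op (Over.mk (homOfLE hV))) (fun j : ULift.{u} (Fin r) => c j.down)) =
          ofCo (R := R.over U) (X := op (Over.mk (homOfLE hV))) (fun j : ULift.{u} (Fin r) => c j.down) := by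
        rw [e.inv_hom_id]; rfl
      rw [← h3]
      refine (congrArg (fun z => e.hom.val.app (op (Over.mk (homOfLE hV))) z) h1).trans ?_
      exact map_zero (e.hom.val.app (op (Over.mk (homOfLE hV)))).hom
    funext j
    have h4 := co_ofCo (R := R.over U) (X := op (Over.mk (homOfLE hV))) (fun j : ULift.{u} (Fin r) => c j.down) ⟨j⟩
    rw [h2] at h4
    refine h4.symm.trans ?_
    exact map_zero ((coord (R.over U) (⟨j⟩ : ULift.{u} (Fin r))).val.app (op (Over.mk (homOfLE hV)))).hom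

end

section

variable {X : TopCat.{u}} {O : Sheaf (Opens.grothendieckTopology X) CommRingCat.{u}}

theorem mono_of_epi {r : ℕ} {F G : ModSite.Mod O}
    (hF : ∀ x : X, ∃ (U : Opens X) (_ : x ∈ U) (b : Fin r → F.val.obj (op U)), IsBas F U b)
    (hG : ∀ x : X, ∃ (U : Opens X) (_ : x ∈ U) (b : Fin r → G.val.obj (op U)), IsBas G U b)
    (φ : F ⟶ G) (hφ : Epi φ) : Mono φ := by
  classical
  refine (mono_iff_inj φ).2 fun U t ht => eq_zero_of_loc _ _ fun x hx => ?_
  obtain ⟨U₁, hx₁, b₁, hb₁⟩ := hF x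
  obtain ⟨U₂, hx₂, b₂, hb₂⟩ := hG x
  -- lift the basis of `G`
  have hep := (epi_iff_loc φ).1 hφ
  have key : ∀ i : Fin r, ∃ (V : Opens X) (h : V ≤ U₂) (_ : x ∈ V)
      (b : F.val.obj (Opposite.op V)), ap φ V b = rs G h (b₂ i) := by
    intro i
    obtain ⟨V, h, hxV, b, hb⟩ := hep U₂ (b₂ i) x hx₂
    exact ⟨V, h, hxV, b, hb⟩
  choose V hV hxV w hw using key
  obtain ⟨W', hxW', hW'⟩ := exists_common x V hxV
  let W : Opens X := (W' ⊓ U) ⊓ (U₁ ⊓ U₂)
  have hWW' : W ≤ W' := inf_le_left.trans inf_le_left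
  have hWU : W ≤ U := inf_le_left.trans inf_le_right
  have hW₁ : W ≤ U₁ := inf_le_right.trans inf_le_left
  have hW₂ : W ≤ U₂ := inf_le_right.trans inf_le_right
  refine ⟨W, hWU, ⟨⟨hxW', hx⟩, hx₁, hx₂⟩, ?_⟩
  let _ : CommRing ((ModSite.ringSh O).obj.obj (op W)) := inferInstanceAs (CommRing (O.obj.obj (op W)))
  let β : Fin r → F.val.obj (op W) := fun i => rs F hW₁ (b₁ i)
  let γ : Fin r → G.val.obj (op W) := fun i => rs G hW₂ (b₂ i)
  have hβ : IsBas F W β := hb₁.mono hW₁
  have hγ : IsBas G W γ := hb₂.mono hW₂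
  have hβ' : ∀ t : F.val.obj (op W), ∃ c : Fin r → (ModSite.ringSh O).obj.obj (op W),
      t = ∑ j, c j • β j := fun t => by
    obtain ⟨c, hc⟩ := hβ.1 W le_rfl t
    exact ⟨c, by simpa only [rs_self] using hc⟩
  have hγ' : ∀ t : G.val.obj (op W), ∃ c : Fin r → (ModSite.ringSh O).obj.obj (op W),
      t = ∑ j, c j • γ j := fun t => by
    obtain ⟨c, hc⟩ := hγ.1 W le_rfl t
    exact ⟨c, by simpa only [rs_self] using hc⟩
  have hγ0 : ∀ c : Fin r → (ModSite.ringSh O).obj.obj (op W), ∑ j, c j • γ j = 0 → c = 0 :=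
    fun c hc => hγ.2 W le_rfl c (by simpa only [rs_self] using hc)
  choose A hA using fun i => hγ' (ap φ W (β i))
  choose B hB using fun i => hβ' (rs F (hWW'.trans (hW' i)) (w i))
  have hBA : (Matrix.of B) * (Matrix.of A) = 1 := by
    ext i k
    have h1 : γ i = ∑ j, B i j • ∑ k, A j k • γ k := by
      have h2 : ap φ W (rs F (hWW'.trans (hW' i)) (w i)) = γ i := by
        rw [ap_rs, hw, rs_rs]
      rw [← h2, hB i, map_sum]
      exact Finset.sum_congr rfl fun j _ => by rw [map_smul, hA]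
    have h3 : ∑ k, ((∑ j, B i j * A j k) - (1 : Matrix (Fin r) (Fin r) ((ModSite.ringSh O).obj.obj (op W))) i k) • γ k = 0 := by
      simp only [sub_smul, Finset.sum_sub_distrib, Finset.sum_smul, Matrix.one_apply, ite_smul,
        one_smul, zero_smul, Finset.sum_ite_eq, Finset.mem_univ, if_true]
      rw [sub_eq_zero]
      refine Eq.trans ?_ h1.symm
      rw [Finset.sum_comm]
      simp only [Finset.smul_sum, mul_smul]
    have h4 := congrFun (hγ0 _ h3) k
    exact sub_eq_zero.1 h4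
  have hAB : (Matrix.of A) * (Matrix.of B) = 1 := mul_eq_one_comm.1 hBA
  obtain ⟨c, hc⟩ := hβ' (rs F hWU t)
  have h5 : ∑ k, (∑ j, c j * A j k) • γ k = 0 := by
    have h6 : ap φ W (rs F hWU t) = 0 := by rw [ap_rs, ht, map_zero]
    rw [hc, map_sum] at h6
    rw [← h6]
    simp only [Finset.sum_smul, map_smul]
    rw [Finset.sum_comm]
    refine Finset.sum_congr rfl fun j _ => ?_
    rw [hA j, Finset.smul_sum]
    simp only [mul_smul]
  have h7 : Matrix.vecMul c (Matrix.of A) = 0 := by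
    funext k
    exact congrFun (hγ0 _ h5) k
  have h8 : c = 0 := by
    have := congrArg (fun v => Matrix.vecMul v (Matrix.of B)) h7
    simpa only [Matrix.vecMul_vecMul, hAB, Matrix.vecMul_one, Matrix.zero_vecMul] using this
  rw [hc, h8]
  exact Finset.sum_eq_zero fun j _ => zero_smul _ _

theorem main {r : ℕ} {F G : ModSite.Mod O}
    (hF : ∀ x : X, ∃ U : Opens X, x ∈ U ∧
      Nonempty ((ModSite.restr O U).obj F ≅ SheafOfModules.free (ULift.{u} (Fin r))))
    (hG : ∀ x : X, ∃ U : Opens X, x ∈ U ∧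
      Nonempty ((ModSite.restr O U).obj G ≅ SheafOfModules.free (ULift.{u} (Fin r))))
    (φ : F ⟶ G) : IsIso φ ↔ Epi φ := by
  refine ⟨fun _ => inferInstance, fun h => ?_⟩
  have hm : Mono φ := by
    refine mono_of_epi (r := r) (fun x => ?_) (fun x => ?_) φ h
    · obtain ⟨U, hx, ⟨e⟩⟩ := hF x
      obtain ⟨b, hb⟩ := exists_isBas (F := F) (U := U) e
      exact ⟨U, hx, b, hb⟩
    · obtain ⟨U, hx, ⟨e⟩⟩ := hG x
      obtain ⟨b, hb⟩ := exists_isBas (F := G) (U := U) e
      exact ⟨U, hx, b, hb⟩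
  exact isIso_of_mono_of_epi φ

end

end K292.LocFree
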