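import Groth.Agent.ModSite.K292.Sky
import Mathlib.RingTheory.RingHom.Flat

/-!
# The stalk of the inverse image of a module

`f : RMor O_C O_D` a morphism of ringed sites, `p` a point of `C`, `q` a point of `D` with
`e : f.fn ⋙ p.fiber ≅ q.fiber` (that is, `q = f(p)`).  The canonical map `M_q → (f^* M)_p` is a base
change along `stR : O_{D,q} → O_{C,p}` (`isBaseChange_can`), naturally in `M`.
-/

set_option autoImplicit false

universe u

open CategoryTheory CategoryTheory.Limits Opposite

namespace K292.PullStalk

open K292.Sky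

variable {C : Type u} [SmallCategory C] {J : GrothendieckTopology C}
  {D : Type u} [SmallCategory D] {K : GrothendieckTopology D}
  {O_C : Sheaf J CommRingCat.{u}} {O_D : Sheaf K CommRingCat.{u}}
  (f : ModSite.RMor O_C O_D)
  {p : GrothendieckTopology.Point.{u} J} {q : GrothendieckTopology.Point.{u} K}
  (e : f.fn ⋙ p.fiber ≅ q.fiber)

/-- The comorphism on sections. -/
noncomputable def shp (V : D) : O_D.obj.obj (op V) →+* O_C.obj.obj (op (f.fn.obj V)) :=
  (f.sharp.hom.app (op V)).hom

theorem shp_res {V W : D} (g : W ⟶ V) (r : O_D.obj.obj (op V)) :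
    shp f W (O_D.obj.map g.op r) = O_C.obj.map (f.fn.map g).op (shp f V r) :=
  ConcreteCategory.congr_hom (f.sharp.hom.naturality g.op) r

/-- The point of `p` over `fn V` given by a point of `q` over `V`. -/
def pb {V : D} (v : q.fiber.obj V) : p.fiber.obj (f.fn.obj V) := e.inv.app V v

/-- The point of `q` over `V` given by a point of `p` over `fn V`. -/
def pf {V : D} (x : p.fiber.obj (f.fn.obj V)) : q.fiber.obj V := e.hom.app V x

theorem pb_pf {V : D} (x : p.fiber.obj (f.fn.obj V)) : pb f e (pf f e x) = x :=
  ConcreteCategory.congr_hom (e.hom_inv_id_app V) x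

theorem pf_pb {V : D} (v : q.fiber.obj V) : pf f e (pb f e v) = v :=
  ConcreteCategory.congr_hom (e.inv_hom_id_app V) v

theorem pb_map {V W : D} (g : W ⟶ V) (w : q.fiber.obj W) :
    p.fiber.map (f.fn.map g) (pb f e w) = pb f e (q.fiber.map g w) :=
  (ConcreteCategory.congr_hom (e.inv.naturality g) w).symm

theorem pf_map {V W : D} (g : W ⟶ V) (x : p.fiber.obj (f.fn.obj W)) :
    q.fiber.map g (pf f e x) = pf f e (p.fiber.map (f.fn.map g) x) :=
  (ConcreteCategory.congr_hom (e.hom.naturality g) x).symm

/-- The map on stalks of the structure sheaves. -/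
noncomputable def stR : ModSite.stalkRing q O_D →+* ModSite.stalkRing p O_C :=
  (q.presheafFiberDesc (A := CommRingCat.{u}) (P := O_D.obj)
    (T := ModSite.stalkRing p O_C)
    (fun V v => CommRingCat.ofHom ((gR p O_C (f.fn.obj V) (pb f e v)).comp (shp f V)))
    (fun W V g w => by
      ext r
      change gR p O_C (f.fn.obj W) (pb f e w) (shp f W (O_D.obj.map g.op r)) =
        gR p O_C (f.fn.obj V) (pb f e (q.fiber.map g w)) (shp f V r)
      rw [shp_res, ← pb_map]
      exact germR_res (O := O_C) (f.fn.map g) (pb f e w) (shp f V r))).hom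

theorem stR_gR (V : D) (v : q.fiber.obj V) (r : O_D.obj.obj (op V)) :
    stR f e (gR q O_D V v r) = gR p O_C (f.fn.obj V) (pb f e v) (shp f V r) :=
  ConcreteCategory.congr_hom (q.toPresheafFiber_presheafFiberDesc (A := CommRingCat.{u}) (P := O_D.obj)
    (T := ModSite.stalkRing p O_C)
    (fun V v => CommRingCat.ofHom ((gR p O_C (f.fn.obj V) (pb f e v)).comp (shp f V)))
    (fun W V g w => by
      ext r
      change gR p O_C (f.fn.obj W) (pb f e w) (shp f W (O_D.obj.map g.op r)) =
        gR p O_C (f.fn.obj V) (pb f e (q.fiber.map g w)) (shp f V r)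
      rw [shp_res, ← pb_map]
      exact germR_res (O := O_C) (f.fn.map g) (pb f e w) (shp f V r)) V v) r

/-- Sections of the direct image. -/
noncomputable def sP {N : ModSite.Mod O_C} {V : D} :
    ModSite.sect (f.push.obj N) V →+ ModSite.sect N (f.fn.obj V) :=
  AddMonoidHom.mk' (fun s => s) (fun _ _ => rfl)

/-- The unit on sections. -/
noncomputable def un (M : ModSite.Mod O_D) (V : D) :
    ModSite.sect M V →+ ModSite.sect (f.pull.obj M) (f.fn.obj V) :=
  (sP f).comp ((f.adj.unit.app M).val.app (op V)).hom.toAddMonoidHom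

theorem un_smul (M : ModSite.Mod O_D) (V : D) (r : O_D.obj.obj (op V)) (s : ModSite.sect M V) :
    un f M V (r • s) = shp f V r • un f M V s :=
  ((f.adj.unit.app M).val.app (op V)).hom.map_smul r s

theorem un_res (M : ModSite.Mod O_D) {V W : D} (g : W ⟶ V) (s : ModSite.sect M V) :
    un f M W ((M.val.map g.op).hom s) =
      ((f.pull.obj M).val.map (f.fn.map g).op).hom (un f M V s) :=
  PresheafOfModules.naturality_apply (f.adj.unit.app M).val g.op s

/-- The canonical additive map `M_q → (f^* M)_p`. -/
noncomputable def canAdd (M : ModSite.Mod O_D) :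
    ModSite.stalkAb q M →+ ModSite.stalkAb p (f.pull.obj M) :=
  stalkDesc M (fun V v => AddMonoidHom.mk'
      (fun s => ModSite.germ p (f.pull.obj M) (f.fn.obj V) (pb f e v) (un f M V s))
      (fun s t => by rw [map_add, germ_add]))
    (fun V W g w s => by
      change ModSite.germ p (f.pull.obj M) (f.fn.obj W) (pb f e w) (un f M W _) =
        ModSite.germ p (f.pull.obj M) (f.fn.obj V) (pb f e (q.fiber.map g w)) (un f M V s)
      rw [un_res, germ_res, pb_map])

theorem canAdd_germ (M : ModSite.Mod O_D) (V : D) (v : q.fiber.obj V) (s : ModSite.sect M V) :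
    canAdd f e M (ModSite.germ q M V v s) =
      ModSite.germ p (f.pull.obj M) (f.fn.obj V) (pb f e v) (un f M V s) :=
  stalkDesc_germ M _ _ V v s

theorem canAdd_smul (M : ModSite.Mod O_D) (r : ModSite.stalkRing q O_D) (t : ModSite.stalkAb q M) :
    canAdd f e M (r • t) = stR f e r • canAdd f e M t := by
  obtain ⟨V, v, r, s, rfl, rfl⟩ := exists_common M r t
  rw [← ModSite.germ_smul, canAdd_germ, canAdd_germ, un_smul, ModSite.germ_smul]
  congr 1
  exact (stR_gR f e V v r).symm

section Universal

variable {Q : Type u} [AddCommGroup Q] [Module (ModSite.stalkRing p O_C) Q]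

/-- The morphism `M ⟶ f_* sky` attached to a semilinear map out of the stalk of `M`. -/
noncomputable def toPushSky {M : ModSite.Mod O_D} (g : ModSite.stalkAb q M →+ Q)
    (hg : ∀ (r : ModSite.stalkRing q O_D) (t : ModSite.stalkAb q M), g (r • t) = stR f e r • g t) :
    M ⟶ f.push.obj (sky p O_C Q) where
  val :=
  { app := fun V => ModuleCat.ofHom
      (Y := (f.push.obj (sky p O_C Q)).val.obj V)
      { toFun := fun s => (fun x => g (ModSite.germ q M V.unop (pf f e x) s) :
          Sec p O_C Q (f.fn.obj V.unop))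
        map_add' := fun s t => by
          refine (funext fun x => ?_ : (_ : Sec p O_C Q (f.fn.obj V.unop)) = _)
          exact (congrArg g (germ_add M _ s t)).trans (g.map_add _ _)
        map_smul' := fun r s => by
          refine (funext fun x => ?_ : (_ : Sec p O_C Q (f.fn.obj V.unop)) = _)
          refine (congrArg g (ModSite.germ_smul q M V.unop _ r s)).trans ?_
          refine (hg _ _).trans ?_
          refine congrArg (fun a => a • g (ModSite.germ q M V.unop (pf f e x) s)) ?_
          refine (stR_gR f e V.unop (pf f e x) r).trans ?_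
          rw [pb_pf]
          rfl }
    naturality := fun {U V} i => by
      ext s
      refine (funext fun x => ?_ : (_ : Sec p O_C Q (f.fn.obj V.unop)) = _)
      refine congrArg g ?_
      refine (germ_res M i.unop (pf f e x) s).trans ?_
      rw [pf_map]
      rfl }

theorem toPushSky_app_apply {M : ModSite.Mod O_D} (g : ModSite.stalkAb q M →+ Q)
    (hg : ∀ (r : ModSite.stalkRing q O_D) (t : ModSite.stalkAb q M), g (r • t) = stR f e r • g t)
    (V : D) (s : ModSite.sect M V) (x : p.fiber.obj (f.fn.obj V)) :
    (((toPushSky f e g hg).val.app (op V)).hom s : Sec p O_C Q (f.fn.obj V)) x =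
      g (ModSite.germ q M V (pf f e x) s) := rfl

/-- The linear map out of the stalk of `f^* M` attached to a semilinear map out of the stalk
of `M`. -/
noncomputable def lift {M : ModSite.Mod O_D} (g : ModSite.stalkAb q M →+ Q)
    (hg : ∀ (r : ModSite.stalkRing q O_D) (t : ModSite.stalkAb q M), g (r • t) = stR f e r • g t) :
    ModSite.stalkAb p (f.pull.obj M) →ₗ[ModSite.stalkRing p O_C] Q :=
  ofSky ((f.adj.homEquiv M (sky p O_C Q)).symm (toPushSky f e g hg))

theorem lift_canAdd {M : ModSite.Mod O_D} (g : ModSite.stalkAb q M →+ Q)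
    (hg : ∀ (r : ModSite.stalkRing q O_D) (t : ModSite.stalkAb q M), g (r • t) = stR f e r • g t)
    (t : ModSite.stalkAb q M) : lift f e g hg (canAdd f e M t) = g t := by
  obtain ⟨V, v, s, rfl⟩ := exists_germ M t
  refine (congrArg (lift f e g hg) (canAdd_germ f e M V v s)).trans ?_
  refine (ofSky_germ _ (f.fn.obj V) (pb f e v) _).trans ?_
  have h : (f.adj.homEquiv M (sky p O_C Q)) ((f.adj.homEquiv M (sky p O_C Q)).symm
        (toPushSky f e g hg)) = toPushSky f e g hg := Equiv.apply_symm_apply _ _
  rw [Adjunction.homEquiv_unit] at h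
  have h2 := congrArg (fun k : M ⟶ f.push.obj (sky p O_C Q) =>
    ((k.val.app (op V)).hom s : Sec p O_C Q (f.fn.obj V)) (pb f e v)) h
  refine Eq.trans h2 ?_
  refine (toPushSky_app_apply f e g hg V s (pb f e v)).trans ?_
  rw [pf_pb]

theorem lift_unique {M : ModSite.Mod O_D}
    (g₁ g₂ : ModSite.stalkAb p (f.pull.obj M) →ₗ[ModSite.stalkRing p O_C] Q)
    (h : ∀ t, g₁ (canAdd f e M t) = g₂ (canAdd f e M t)) : g₁ = g₂ := by
  have key : toSky g₁ = toSky g₂ := by
    apply (f.adj.homEquiv M (sky p O_C Q)).injective
    rw [Adjunction.homEquiv_unit, Adjunction.homEquiv_unit]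
    refine SheafOfModules.hom_ext ?_
    ext V s
    refine (funext fun x => ?_ : (_ : Sec p O_C Q (f.fn.obj V.unop)) = _)
    have h1 := h (ModSite.germ q M V.unop (pf f e x) s)
    rw [canAdd_germ, pb_pf] at h1
    exact h1
  rw [← ofSky_toSky g₁, ← ofSky_toSky g₂, key]

end Universal

section BaseChange

open TensorProduct

/-- `O_{C,p}` as an algebra over `O_{D,q}` (to be used with `letI`). -/
noncomputable abbrev stAlg : Algebra (ModSite.stalkRing q O_D) (ModSite.stalkRing p O_C) :=
  (stR f e).toAlgebra

/-- The stalk of an `O_C`-module as a module over `O_{D,q}` (to be used with `letI`). -/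
noncomputable abbrev stMod (N : ModSite.Mod O_C) :
    Module (ModSite.stalkRing q O_D) (ModSite.stalkAb p N) :=
  Module.compHom (ModSite.stalkAb p N) (stR f e)

theorem isScalarTower (N : ModSite.Mod O_C) :
    letI := stAlg f e
    letI := stMod f e N
    IsScalarTower (ModSite.stalkRing q O_D) (ModSite.stalkRing p O_C) (ModSite.stalkAb p N) := by
  letI := stAlg f e
  letI := stMod f e N
  refine ⟨fun r a m => ?_⟩
  rw [Algebra.smul_def, mul_smul]
  rfl

/-- The canonical map `M_q → (f^* M)_p`, linear over `O_{D,q}`. -/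
noncomputable def can (M : ModSite.Mod O_D) :
    letI := stMod f e (f.pull.obj M)
    ModSite.stalkAb q M →ₗ[ModSite.stalkRing q O_D] ModSite.stalkAb p (f.pull.obj M) :=
  letI := stMod f e (f.pull.obj M)
  { toFun := canAdd f e M
    map_add' := map_add _
    map_smul' := canAdd_smul f e M }

/-- The stalk of `f^* M` at `p` is the base change of the stalk of `M` at `q`. -/
theorem isBaseChange_can (M : ModSite.Mod O_D) :
    letI := stAlg f e
    letI := stMod f e (f.pull.obj M)
    haveI := isScalarTower f e (f.pull.obj M)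
    IsBaseChange (ModSite.stalkRing p O_C) (can f e M) := by
  letI := stAlg f e
  letI := stMod f e (f.pull.obj M)
  haveI := isScalarTower f e (f.pull.obj M)
  apply IsBaseChange.of_lift_unique
  intro Q _ _ _ _ g
  letI : AddCommGroup Q := Module.addCommMonoidToAddCommGroup (ModSite.stalkRing p O_C)
  have hg : ∀ (r : ModSite.stalkRing q O_D) (t : ModSite.stalkAb q M),
      g (r • t) = stR f e r • g t := by
    intro r t
    rw [g.map_smul]
    exact (algebraMap_smul (ModSite.stalkRing p O_C) r (g t)).symm
  refine ⟨lift f e g.toAddMonoidHom hg, ?_, ?_⟩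
  · ext t
    exact lift_canAdd f e g.toAddMonoidHom hg t
  · intro g' hg'
    refine lift_unique f e _ _ fun t => ?_
    exact (LinearMap.congr_fun hg' t).trans (lift_canAdd f e g.toAddMonoidHom hg t).symm

/-- The stalk of the inverse image as a tensor product. -/
noncomputable def pullEquiv (M : ModSite.Mod O_D) :
    letI := stAlg f e
    (ModSite.stalkRing p O_C ⊗[ModSite.stalkRing q O_D] ModSite.stalkAb q M)
      ≃ₗ[ModSite.stalkRing p O_C] ModSite.stalkAb p (f.pull.obj M) :=
  letI := stAlg f e
  letI := stMod f e (f.pull.obj M)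
  haveI := isScalarTower f e (f.pull.obj M)
  (isBaseChange_can f e M).equiv

theorem pullEquiv_tmul (M : ModSite.Mod O_D) (a : ModSite.stalkRing p O_C)
    (m : ModSite.stalkAb q M) :
    letI := stAlg f e
    pullEquiv f e M (a ⊗ₜ[ModSite.stalkRing q O_D] m) = a • canAdd f e M m :=
  letI := stAlg f e
  letI := stMod f e (f.pull.obj M)
  haveI := isScalarTower f e (f.pull.obj M)
  (isBaseChange_can f e M).equiv_tmul a m

end BaseChange

section Nat

/-- The map on stalks, on germs. -/
theorem stalkMap_germ {M N : ModSite.Mod O_C} (φ : M ⟶ N) (X : C) (x : p.fiber.obj X)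
    (s : ModSite.sect M X) : (ModSite.stalkMap p φ).hom (ModSite.germ p M X x s) =
      ModSite.germ p N X x ((φ.val.app (op X)).hom s) :=
  p.toPresheafFiber_naturality_apply ((SheafOfModules.toSheaf (ModSite.ringSh O_C)).map φ).hom X x s

theorem un_nat {M N : ModSite.Mod O_D} (φ : M ⟶ N) (V : D) (s : ModSite.sect M V) :
    (((f.pull.map φ).val.app (op (f.fn.obj V))).hom (un f M V s) :
      ModSite.sect (f.pull.obj N) (f.fn.obj V)) = un f N V ((φ.val.app (op V)).hom s) := by
  have h := f.adj.unit.naturality φ
  exact (ConcreteCategory.congr_hom (congrArg (fun k : M ⟶ f.push.obj (f.pull.obj N) =>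
    k.val.app (op V)) h) s).symm

/-- Naturality of the canonical map. -/
theorem stalkMap_canAdd {M N : ModSite.Mod O_D} (φ : M ⟶ N) (t : ModSite.stalkAb q M) :
    (ModSite.stalkMap p (f.pull.map φ)).hom (canAdd f e M t) =
      canAdd f e N ((ModSite.stalkMap q φ).hom t) := by
  obtain ⟨V, v, s, rfl⟩ := exists_germ M t
  rw [canAdd_germ, stalkMap_germ, un_nat]
  exact (canAdd_germ f e N V v _).symm.trans
    (congrArg (canAdd f e N) (stalkMap_germ φ V v s).symm)

open TensorProduct in
theorem stalkMap_pullEquiv {M N : ModSite.Mod O_D} (φ : M ⟶ N) :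
    letI := stAlg f e
    ∀ (z : ModSite.stalkRing p O_C ⊗[ModSite.stalkRing q O_D] ModSite.stalkAb q M),
    (ModSite.stalkMap p (f.pull.map φ)).hom (pullEquiv f e M z) =
      pullEquiv f e N ((ModSite.stalkMap q φ).hom.lTensor (ModSite.stalkRing p O_C) z) := by
  letI := stAlg f e
  intro z
  induction z using TensorProduct.induction_on with
  | zero => rw [map_zero, map_zero, map_zero, map_zero]
  | add a b ha hb => rw [map_add, map_add, ha, hb, map_add, map_add]
  | tmul a m =>
    rw [pullEquiv_tmul, map_smul, stalkMap_canAdd]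
    exact (pullEquiv_tmul f e N a _).symm

/-- If `O_{D,q} → O_{C,p}` is flat and `φ` is injective at `q`, then `f^* φ` is injective at `p`. -/
theorem injective_pull (hf : (stR f e).Flat) {M N : ModSite.Mod O_D} (φ : M ⟶ N)
    (hφ : Function.Injective (ModSite.stalkMap q φ).hom) :
    Function.Injective (ModSite.stalkMap p (f.pull.map φ)).hom := by
  letI := stAlg f e
  haveI : Module.Flat (ModSite.stalkRing q O_D) (ModSite.stalkRing p O_C) := hf
  have h1 : Function.Injective
      ((ModSite.stalkMap q φ).hom.lTensor (ModSite.stalkRing p O_C)) :=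
    Module.Flat.lTensor_preserves_injective_linearMap _ hφ
  have h2 : ⇑(ModSite.stalkMap p (f.pull.map φ)).hom = ⇑(pullEquiv f e N) ∘
      ⇑((ModSite.stalkMap q φ).hom.lTensor (ModSite.stalkRing p O_C)) ∘ ⇑(pullEquiv f e M).symm := by
    funext x
    obtain ⟨z, rfl⟩ := (pullEquiv f e M).surjective x
    refine (stalkMap_pullEquiv f e φ z).trans ?_
    simp only [Function.comp_apply, LinearEquiv.symm_apply_apply]
  rw [h2]
  exact (pullEquiv f e N).injective.comp (h1.comp (pullEquiv f e M).symm.injective)

end Nat

end K292.PullStalk
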