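import Groth.Agent.S3089
import Groth.Agent.Sga4A.TotAcyc
import Groth.Agent.Cohder.RDAcyc
import Groth.Agent.ExtSupp.K787.QuotSect
import Groth.Agent.ExtSupp.K787.QuotZ
import Groth.Agent.ExtSupp.K787.Sections
import Groth.Agent.ExtSupp.K787.Support
import Groth.Agent.ExtSupp.K787.RestrAb
import Groth.Agent.ModSite.K291.TotAc
import Groth.Agent.ModSite.K292.HomEl
import Groth.Agent.ModSite.K295.FlatCrit
import Groth.Agent.CohtopA.ModExt
import Groth.Agent.ModSite.K296.FreeOn
import Groth.Agent.Topos.H580.HZReduce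

/-!
# Totally acyclic modules are acyclic for sections with support
-/

set_option autoImplicit false

universe u

open CategoryTheory CategoryTheory.Limits Opposite

namespace K292.SectAcyc

variable {C : Type u} [SmallCategory C] {J : GrothendieckTopology C}

/-- A compatible family of sections of a totally acyclic sheaf over a sieve extends. -/
theorem exists_extend (F : Sheaf J AddCommGrpCat.{u}) (hF : CohCx.IsTotallyAcyclic F) {V : C} (S : Sieve V)
    (x : ∀ (W : C) (g : W ⟶ V), S g → F.obj.obj (op W))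
    (hx : ∀ (W : C) (g : W ⟶ V) (hg : S g) (W' : C) (g' : W' ⟶ W),
      F.obj.map g'.op (x W g hg) = x W' (g' ≫ g) (S.downward_closed hg g')) :
    ∃ m : F.obj.obj (op V), ∀ (W : C) (g : W ⟶ V) (hg : S g), F.obj.map g.op m = x W g hg := by
  let K' : Sheaf J (Type u) := (presheafToSheaf J (Type u)).obj S.functor
  let K : Sheaf J (Type u) := (presheafToSheaf J (Type u)).obj (yoneda.obj V)
  let ι : K' ⟶ K := (presheafToSheaf J (Type u)).map S.functorInclusion
  have hι : Mono ι := inferInstanceAs (Mono ((presheafToSheaf J (Type u)).map S.functorInclusion))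
  let η : S.functor ⟶ F.obj ⋙ forget AddCommGrpCat.{u} :=
    { app := fun W => TypeCat.ofHom (fun s => x W.unop s.1 s.2)
      naturality := by
        intro W W' g
        ext s
        exact (hx W.unop s.1 s.2 W'.unop g.unop).symm }
  have hs : Presheaf.IsSheaf J (F.obj ⋙ forget AddCommGrpCat.{u}) :=
    ((sheafCompose J (forget AddCommGrpCat.{u})).obj F).property
  let ηs : sheafify J S.functor ⟶ F.obj ⋙ forget AddCommGrpCat.{u} := sheafifyLift J η hs
  obtain ⟨h, hh⟩ := K787.FreeAb.exists_hom K' F (fun W s => ηs.app (op W) s)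
    (fun W W' g s => NatTrans.naturality_apply ηs g.op s)
  obtain ⟨h', hh'⟩ := Groth.Agent.S3089.result F hF ι h
  have hh'' : (ToposFin.freeAb J).map ι ≫ h' = h := hh'
  refine ⟨h'.hom.app (op V) (K787.FreeAb.gen K ((toSheafify J (yoneda.obj V)).app (op V) (𝟙 V))), ?_⟩
  intro W g hg
  have e1 : (sheafify J (yoneda.obj V)).map g.op ((toSheafify J (yoneda.obj V)).app (op V) (𝟙 V)) =
      (toSheafify J (yoneda.obj V)).app (op W) g := by
    refine (NatTrans.naturality_apply (toSheafify J (yoneda.obj V)) g.op (𝟙 V)).symm.trans ?_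
    congr 1
    exact Category.comp_id g
  have e2 : ι.hom.app (op W) ((toSheafify J S.functor).app (op W) ⟨g, hg⟩) =
      (toSheafify J (yoneda.obj V)).app (op W) g := by
    have := toSheafify_naturality J S.functorInclusion
    exact (congrArg (fun t => t.app (op W) ⟨g, hg⟩) this).symm
  have e3 : ηs.app (op W) ((toSheafify J S.functor).app (op W) ⟨g, hg⟩) = x W g hg := by
    have := toSheafify_sheafifyLift J η hs
    exact congrArg (fun t => t.app (op W) ⟨g, hg⟩) this
  refine (NatTrans.naturality_apply h'.hom g.op _).symm.trans ?_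
  refine (congrArg (fun t => h'.hom.app (op W) t) (K787.FreeAb.res_gen K g _)).trans ?_
  refine (congrArg (fun t => h'.hom.app (op W) (K787.FreeAb.gen K t)) (e1.trans e2.symm)).trans ?_
  refine (congrArg (fun t => h'.hom.app (op W) t) (K787.FreeAb.map_gen ι _).symm).trans ?_
  refine (congrArg (fun (t : (ToposFin.freeAb J).obj K' ⟶ F) => t.hom.app (op W) (K787.FreeAb.gen K'
    ((toSheafify J S.functor).app (op W) ⟨g, hg⟩))) hh'').trans ?_
  exact (hh W _).trans e3

section Sect

open K787.Sections K291.FreeOn K292.HomEl K295.FlatCrit Groth.Agent.Dcoh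

variable {O : Sheaf J CommRingCat.{u}}

theorem ev_ofSec_zero {N : ModSite.Mod O} {V W : C} (s : ModSite.sect N V)
    (h : ∀ ⦃W' : C⦄ (_ : W' ⟶ W) (f : W' ⟶ V), K787.Sections.rs N f s = 0)
    (y : ModSite.sect (ModSite.freeOn O V) W) : ev (ofSec s) W y = 0 := by
  obtain ⟨R, hR, hy⟩ := (LS_iff (w O V)).1 (WO_LS _ (WO_w O V)) W y
  refine eq_zero_of_locally N _ R hR fun W' g hg => ?_
  obtain ⟨t, ht⟩ := hy g hg
  rw [← ev_rs]
  refine (congrArg (fun z => ev (ofSec s) W' z) ht.symm).trans ?_
  have key : ∀ f : W' ⟶ V, ev (ofSec s) W' (MonW.sec (w O V) (op W') (mk O V f)) = 0 := by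
    intro f
    refine (congrArg (fun z => ev (ofSec s) W' z) (w_mk O V f)).trans ?_
    refine (ev_rs (ofSec s) f (gen O V)).trans ?_
    refine (congrArg (fun z => K787.Sections.rs N f z) (sc_ofSec s)).trans ?_
    exact h g f
  change (W' ⟶ V) →₀ (O.obj.obj (op W')) at t
  clear ht
  induction t using Finsupp.induction_linear with
  | zero =>
    refine (congrArg (fun z => ev (ofSec s) W' z) (map_zero (MonW.sec (w O V) (op W')))).trans ?_
    exact map_zero _
  | add x y hx hy =>
    refine (congrArg (fun z => ev (ofSec s) W' z) (map_add (MonW.sec (w O V) (op W')) x y)).trans ?_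
    refine (map_add (ev (ofSec s) W') _ _).trans ?_
    exact (congrArg₂ (· + ·) hx hy).trans (add_zero _)
  | single f r =>
    have h1 : (Finsupp.single f r : (W' ⟶ V) →₀ (O.obj.obj (op W'))) = r • Finsupp.single f 1 := by
      rw [Finsupp.smul_single, smul_eq_mul, mul_one]
    refine (congrArg (fun z => ev (ofSec s) W' (MonW.sec (w O V) (op W') z)) h1).trans ?_
    refine (congrArg (fun z => ev (ofSec s) W' z) (map_smul (MonW.sec (w O V) (op W')) r _)).trans ?_
    refine (ev_smul (ofSec s) W' r _).trans ?_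
    exact (congrArg (r • ·) (key f)).trans (smul_zero _)

variable (U : C) [ModSite.HasPushOver O U]

/-- A section of `N` which vanishes on `U` comes from a section of `Γ_Z(N)`. -/
theorem exists_sectOn {N : ModSite.Mod O} {V : C} (s : ModSite.sect N V)
    (h : ∀ ⦃W : C⦄ (f : W ⟶ V) (_ : W ⟶ U), K787.Sections.rs N f s = 0) :
    ∃ t : ModSite.sect ((ModSite.sectOn O U).obj N) V, ev ((ModSite.sectOnι O U).app N) V t = s := by
  have h0 : (ModSite.extZeroAdj O U).counit.app (ModSite.freeOn O V) ≫ ofSec s = 0 := by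
    apply K787.Sections.hom_ext
    intro W y
    obtain ⟨R, hR, hy⟩ := K787.Support.locally_of_counit U (ModSite.freeOn O V) y
    refine eq_zero_of_locally N _ R hR fun W' g hg => ?_
    rw [ev_comp, ← ev_rs]
    rcases hy g hg with h1 | ⟨⟨r⟩⟩
    · exact (congrArg (ev (ofSec s) W') h1).trans (map_zero _)
    · exact ev_ofSec_zero s (fun W'' g' f => h f (g' ≫ r)) _
  have h1 : ofSec s ≫ (ModSite.restrPushOverAdj O U).unit.app N = 0 :=
    K787.QuotSect.comp_unit_eq_zero O U _ (K787.QuotSect.restr_map_eq_zero_of_counit O U _ h0)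
  refine ⟨ev (kernel.lift _ (ofSec s) h1) V (gen O V), ?_⟩
  have h2 := kernel.lift_ι _ (ofSec s) h1
  exact (congrArg (fun (t : ModSite.freeOn O V ⟶ N) => ev t V (gen O V)) h2).trans (sc_ofSec s)

theorem sectOn_zero {N : ModSite.Mod O} {V : C} (t : ModSite.sect ((ModSite.sectOn O U).obj N) V)
    {W : C} (f : W ⟶ V) (r : W ⟶ U) :
    K787.Sections.rs N f (ev ((ModSite.sectOnι O U).app N) V t) = 0 := by
  rw [← ev_rs, (isNullOn_iff U _).1 (K787.QuotSect.isNullOn_sectOn O U N) r
    (K787.Sections.rs _ f t), map_zero]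

/-- Sections of `Γ_Z` lift along epimorphisms with totally acyclic kernel. -/
theorem exists_lift {S : ShortComplex (ModSite.Mod O)} (hS : S.ShortExact)
    (h₁ : CohCx.IsTotallyAcyclic (ModSite.toAb S.X₁)) {V : C}
    (q : ModSite.sect ((ModSite.sectOn O U).obj S.X₃) V) :
    ∃ t : ModSite.sect ((ModSite.sectOn O U).obj S.X₂) V, ev ((ModSite.sectOn O U).map S.g) V t = q := by
  have hm := hS.mono_f
  let T : ShortComplex (Sheaf J AddCommGrpCat.{u}) := S.map (SheafOfModules.toSheaf _)
  have hT : T.ShortExact := by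
    have := Groth.Agent.CohtopA.ModExt.toSheaf_preservesFiniteColimits (ModSite.ringSh O)
    exact hS.map_of_exact _
  let q' := ev ((ModSite.sectOnι O U).app S.X₃) V q
  obtain ⟨t, ht'⟩ : ∃ t : ModSite.sect S.X₂ V, ev S.g V t = q' :=
    Groth.Agent.Sga4A.TotAcyc.surjective_app_of_isTotallyAcyclic hT h₁ V q'
  have hz : ∀ (W : C) (g : W ⟶ V), Nonempty (W ⟶ U) → ∃ m : ModSite.sect S.X₁ W,
      ev S.f W m = K787.Sections.rs S.X₂ g t := by
    rintro W g ⟨r⟩
    have h0 : ev S.g W (K787.Sections.rs S.X₂ g t) = 0 := by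
      rw [ev_rs, ht']
      exact sectOn_zero U q g r
    exact K296.FreeOn.exists_of_exact_mono S hS.exact W _ h0
  choose m hm' using hz
  have hinj : ∀ (W : C) (a b : ModSite.sect S.X₁ W), ev S.f W a = ev S.f W b → a = b := by
    intro W a b hab
    rw [← sub_eq_zero] at hab ⊢
    rw [← map_sub] at hab
    exact (K787.Sections.mono_iff S.f).1 hm W _ hab
  let R : Sieve V :=
    { arrows := fun W _ => Nonempty (W ⟶ U)
      downward_closed := by
        rintro W W' g ⟨r⟩ g'
        exact ⟨g' ≫ r⟩ }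
  obtain ⟨x, hx⟩ : ∃ x : ModSite.sect S.X₁ V, ∀ (W : C) (g : W ⟶ V) (hg : R g),
      K787.Sections.rs S.X₁ g x = m W g hg :=
    exists_extend (ModSite.toAb S.X₁) h₁ R (fun W g hg => m W g hg) (by
      intro W g hg W' g'
      refine hinj W' _ _ ?_
      refine (ev_rs S.f g' (m W g hg)).trans ?_
      rw [hm', hm', rs_rs])
  obtain ⟨y, hy⟩ := exists_sectOn U (N := S.X₂) (t - ev S.f V x) (by
    intro W f r
    rw [map_sub, ← ev_rs]
    have h3 : K787.Sections.rs S.X₁ f x = m W f ⟨r⟩ := hx W f ⟨r⟩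
    rw [h3, hm', sub_self])
  refine ⟨y, ?_⟩
  have hmono := K787.QuotSect.mono_sectOnι O U S.X₃
  rw [K787.Sections.mono_iff] at hmono
  rw [← sub_eq_zero]
  apply hmono V
  have h4 : ev ((ModSite.sectOnι O U).app S.X₃) V (ev ((ModSite.sectOn O U).map S.g) V y) =
      ev S.g V (ev ((ModSite.sectOnι O U).app S.X₂) V y) :=
    congrArg (fun (k : (ModSite.sectOn O U).obj S.X₂ ⟶ S.X₃) => ev k V y)
      ((ModSite.sectOnι O U).naturality S.g)
  have h5 : ev S.g V (ev S.f V x) = 0 :=
    congrArg (fun (k : S.X₁ ⟶ S.X₃) => ev k V x) S.zero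
  rw [map_sub, h4, hy, map_sub, ht', h5, sub_zero]
  exact sub_self _

theorem epi_map {S : ShortComplex (ModSite.Mod O)} (hS : S.ShortExact)
    (h₁ : CohCx.IsTotallyAcyclic (ModSite.toAb S.X₁)) : Epi ((ModSite.sectOn O U).map S.g) := by
  apply epi_of_exists
  intro V q
  obtain ⟨t, ht⟩ := exists_lift U hS h₁ q
  refine ⟨⊤, J.top_mem V, fun W g _ => ⟨K787.Sections.rs _ g t, ?_⟩⟩
  rw [ev_rs, ht]

omit U [ModSite.HasPushOver O U] in
theorem isTotallyAcyclic_X₃ {S : ShortComplex (ModSite.Mod O)} (hS : S.ShortExact)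
    (h₁ : CohCx.IsTotallyAcyclic (ModSite.toAb S.X₁)) (h₂ : CohCx.IsTotallyAcyclic (ModSite.toAb S.X₂)) :
    CohCx.IsTotallyAcyclic (ModSite.toAb S.X₃) := by
  let T : ShortComplex (Sheaf J AddCommGrpCat.{u}) := S.map (SheafOfModules.toSheaf _)
  have hT : T.ShortExact := by
    have := Groth.Agent.CohtopA.ModExt.toSheaf_preservesFiniteColimits (ModSite.ringSh O)
    exact hS.map_of_exact _
  intro K p
  have a : ∀ x : CohCx.HK K (ModSite.toAb S.X₃) (p + 1), x = 0 := by
    intro x
    obtain ⟨y, rfl⟩ := Abelian.Ext.covariant_sequence_exact₃ _ hT x (n₁ := p + 1 + 1) rfl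
      (Subsingleton.elim (h := h₁ K (p + 1)) _ _)
    have : y = 0 := Subsingleton.elim (h := h₂ K p) _ _
    rw [this, Abelian.Ext.zero_comp]
    rfl
  exact ⟨fun x y => (a x).trans (a y).symm⟩

omit U [ModSite.HasPushOver O U] in
theorem isTotallyAcyclic_injective (I : ModSite.Mod O) [Injective I] :
    CohCx.IsTotallyAcyclic (ModSite.toAb I) := by
  have := K787.RestrAb.hasEnoughInjectives O
  have : HasExt.{u} (ModSite.Mod O) := hasExt_of_enoughInjectives _
  exact K291.TotAc.isTotallyAcyclic _ (fun X n x _ => Abelian.Ext.eq_zero_of_injective x)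

/-- Totally acyclic modules are acyclic for sections with support. -/
theorem isZero_HZsh [HasInjectiveResolutions (ModSite.Mod O)] (q : ℕ) :
    ∀ (M : ModSite.Mod O), CohCx.IsTotallyAcyclic (ModSite.toAb M) →
      IsZero ((ModSite.HZsh O U (q + 1)).obj M) := by
  induction q with
  | zero =>
    intro M hM
    obtain ⟨S, hS, rfl, hI⟩ := Groth.Agent.Cohder.RDAcyc.exists_embedding M
    have hfl : PreservesFiniteLimits (ModSite.sectOn O U) := by
      have : PreservesLimits (ModSite.sectOn O U) := (K787.QuotSect.adj O U).rightAdjoint_preservesLimits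
      infer_instance
    obtain ⟨δ, hδ⟩ := (Groth.Agent.Cohder.RDLES.exists_les (ModSite.sectOn O U) hS).2.2
    obtain ⟨w₁, w₂, h, h'⟩ := hδ 0
    have he := epi_map U hS hM
    have he' : Epi (((ModSite.sectOn O U).rightDerived 0).map S.g) := by
      have := (ModSite.sectOn O U).rightDerivedZeroIsoSelf.hom.naturality S.g
      have h2 : Epi (((ModSite.sectOn O U).rightDerived 0).map S.g ≫
          (ModSite.sectOn O U).rightDerivedZeroIsoSelf.hom.app S.X₃) := by
        rw [this]; exact epi_comp _ _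
      have h3 : ((ModSite.sectOn O U).rightDerived 0).map S.g =
          (((ModSite.sectOn O U).rightDerived 0).map S.g ≫
            (ModSite.sectOn O U).rightDerivedZeroIsoSelf.hom.app S.X₃) ≫
            (ModSite.sectOn O U).rightDerivedZeroIsoSelf.inv.app S.X₃ := by
        rw [Category.assoc, ← NatTrans.comp_app, Iso.hom_inv_id, NatTrans.id_app, Category.comp_id]
      rw [h3]
      exact epi_comp _ _
    have hδ0 : δ 0 = 0 := by
      rw [← cancel_epi (((ModSite.sectOn O U).rightDerived 0).map S.g), w₁, comp_zero]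
    have hz := Groth.Agent.Cohder.RDAcyc.isAcyc_injective (ModSite.sectOn O U) S.X₂ 1 (by lia)
    have hmono := h'.mono_g hδ0
    exact IsZero.of_mono (((ModSite.sectOn O U).rightDerived (0 + 1)).map S.f) hz
  | succ q ih =>
    intro M hM
    obtain ⟨S, hS, rfl, hI⟩ := Groth.Agent.Cohder.RDAcyc.exists_embedding M
    exact Groth.Agent.Cohder.RDAcyc.isZero_X₁ _ hS _
      (ih _ (isTotallyAcyclic_X₃ hS hM (isTotallyAcyclic_injective S.X₂)))
      (Groth.Agent.Cohder.RDAcyc.isAcyc_injective (ModSite.sectOn O U) S.X₂ _ (by lia))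

end Sect

open Groth.Agent.Topos.H580.HZReduce in
/-- `H^q_Z` of a totally acyclic sheaf vanishes for `q > 0`, for an open. -/
theorem ext_quotZ_of_mono (I : ToposFin.Sh J) [Mono (terminal.from I)] (F : Sheaf J AddCommGrpCat.{u})
    (hF : CohCx.IsTotallyAcyclic F) (q : ℕ) :
    Subsingleton (Abelian.Ext (ToposFin.quotZ I) F (q + 1)) := by
  have hS := shortExact_sesZ I
  have a : ∀ x : Abelian.Ext (sesZ I).X₃ F (q + 1), x = 0 := by
    intro x
    have h2 : (Abelian.Ext.mk₀ (sesZ I).g).comp x (zero_add (q + 1)) = 0 :=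
      Subsingleton.elim (h := hF (⊤_ _) q) _ _
    obtain ⟨y, hy⟩ := Abelian.Ext.contravariant_sequence_exact₃ hS F x h2 (n₀ := q) (by lia)
    obtain ⟨z, hz⟩ : ∃ z : Abelian.Ext (sesZ I).X₂ F q, (Abelian.Ext.mk₀ (sesZ I).f).comp z (zero_add q) = y := by
      cases q with
      | zero =>
        obtain ⟨y', rfl⟩ := (Abelian.Ext.mk₀_bijective _ _).2 y
        obtain ⟨z, hz⟩ := Groth.Agent.S3089.result F hF (terminal.from I) y'
        refine ⟨Abelian.Ext.mk₀ z, ?_⟩
        rw [Abelian.Ext.mk₀_comp_mk₀]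
        exact congrArg _ hz
      | succ q => exact ⟨0, Subsingleton.elim (h := hF I q) _ _⟩
    rw [← hy, ← hz]
    rw [← Abelian.Ext.comp_assoc_of_second_deg_zero]
    rw [hS.extClass_comp, Abelian.Ext.zero_comp]
  exact ⟨fun x y => (a x).trans (a y).symm⟩

/-- `H^q_Z` of a totally acyclic sheaf vanishes for `q > 0`. -/
theorem ext_quotZ (K : ToposFin.Sh J) (F : Sheaf J AddCommGrpCat.{u})
    (hF : CohCx.IsTotallyAcyclic F) (q : ℕ) :
    Subsingleton (Abelian.Ext (ToposFin.quotZ K) F (q + 1)) := by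
  let t := terminal.from K
  let I := Sheaf.image t
  let p : K ⟶ I := Sheaf.toImage t
  have e1 : p ≫ terminal.from I = t := Subsingleton.elim _ _
  have hI : Mono (terminal.from I) := by
    have : terminal.from I = Sheaf.imageι t := Subsingleton.elim _ _
    rw [this]; infer_instance
  have hp : Epi p := inferInstance
  have hp' : Epi ((ToposFin.freeAb J).map p) := by
    have : (ToposFin.freeAb J).IsLeftAdjoint := (Sheaf.adjunction J AddCommGrpCat.adj).isLeftAdjoint
    infer_instance
  let e : ToposFin.quotZ K ≅ ToposFin.quotZ I :=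
    (cokernelIsoOfEq (by rw [← Functor.map_comp, e1])) ≪≫ cokernelEpiComp ((ToposFin.freeAb J).map p) ((ToposFin.freeAb J).map (terminal.from I))
  have h := ext_quotZ_of_mono I F hF q
  have a : ∀ x : Abelian.Ext (ToposFin.quotZ K) F (q + 1), x = 0 := by
    intro x
    have h1 : (Abelian.Ext.mk₀ e.inv).comp x (zero_add (q + 1)) = 0 := Subsingleton.elim _ _
    have h2 := congrArg (fun y => (Abelian.Ext.mk₀ e.hom).comp y (zero_add (q + 1))) h1
    simpa using h2
  exact ⟨fun x y => (a x).trans (a y).symm⟩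

end K292.SectAcyc
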