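import Groth.Agent.ModSite.K291.Shriek2

/-!
# Sections of the internal hom

* `sectHom O X M N : ℋom(M, N)(X) ≃+ Hom(M|_X, N|_X)`.
-/

set_option autoImplicit false

open CategoryTheory MonoidalCategory Limits Opposite

universe u

namespace K292.SectHom

open Groth.Agent.Dcoh K291.Mon K291.Colim K291.Flat K291.FreeOn K291.Restr K291.Shriek

variable {C : Type u} [SmallCategory C] {J : GrothendieckTopology C}
  {O : Sheaf J CommRingCat.{u}}

/-- Morphisms out of `A_U`, additively. -/
noncomputable def homFreeOnAdd (F : ModSite.Mod O) (U : C) :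
    (ModSite.freeOn O U ⟶ F) ≃+ ModSite.sect F U :=
  { homFreeOn F U with
    map_add' := fun a b => by
      change homFreeOn F U (a + b) = homFreeOn F U a + homFreeOn F U b
      rw [homFreeOn_apply, homFreeOn_apply, homFreeOn_apply]
      rfl }

/-- Precomposition with an isomorphism, additively. -/
def preIso {A : Type*} [Category A] [Preadditive A] {P Q : A} (e : P ≅ Q) (N : A) :
    (Q ⟶ N) ≃+ (P ⟶ N) where
  toFun f := e.hom ≫ f
  invFun f := e.inv ≫ f
  left_inv f := by simp
  right_inv f := by simp
  map_add' f g := Preadditive.comp_add _ _ _ _ _ _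

/-- Sections of the internal hom. -/
noncomputable def sectHom (M N : ModSite.Mod O) [ModSite.HasSheafHom M] (X : C) :
    ModSite.sect ((ModSite.sheafHom M).obj N) X ≃+
      ((ModSite.restr O X).obj M ⟶ (ModSite.restr O X).obj N) :=
  ((homFreeOnAdd ((ModSite.sheafHom M).obj N) X).symm.trans
    ((ModSite.sheafHomAdj M).homAddEquiv (ModSite.freeOn O X) N).symm).trans
    ((preIso (freeOnTensorIso O X M).symm N).trans
      ((ModSite.extZeroAdj O X).homAddEquiv ((ModSite.restr O X).obj M) N))

end K292.SectHom
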