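import Groth.Agent.ModSite.K292.SectAcyc
import Groth.Agent.ModSite.K292.DeltaExact
import Groth.Agent.ModSite.K291.ResSc

/-!
# Sections with support and restriction of scalars
-/

set_option autoImplicit false

universe u

open CategoryTheory CategoryTheory.Limits Opposite

namespace K292.SectRes

open K787.Sections K292.SectAcyc K291.ResSc

variable {C : Type u} [SmallCategory C] {J : GrothendieckTopology C}
  {O O' : Sheaf J CommRingCat.{u}} (φ : O ⟶ O') (U : C)

/-- Restriction of scalars. -/
noncomputable abbrev rho : ModSite.Mod O' ⥤ ModSite.Mod O :=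
  SheafOfModules.restrictScalars ((sheafCompose J (forget₂ CommRingCat.{u} RingCat.{u})).map φ)

theorem isNullOn_rho (N : ModSite.Mod O') (h : ModSite.IsNullOn O' U N) :
    ModSite.IsNullOn O U ((rho φ).obj N) := by
  rw [isNullOn_iff] at h ⊢
  exact h

variable [ModSite.HasPushOver O U] [ModSite.HasPushOver O' U]

theorem comp_zero' (N : ModSite.Mod O') :
    (rho φ).map ((ModSite.sectOnι O' U).app N) ≫ (ModSite.restrPushOverAdj O U).unit.app ((rho φ).obj N) = 0 :=
  K787.QuotSect.comp_unit_eq_zero O U _ (K787.QuotSect.restr_map_eq_zero_of_null_left _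
    (isNullOn_rho φ U _ (K787.QuotSect.isNullOn_sectOn O' U N)))

/-- `Γ_Z(N)` viewed over `O` maps to `Γ_Z` of `N` viewed over `O`. -/
noncomputable def hom (N : ModSite.Mod O') :
    (rho φ).obj ((ModSite.sectOn O' U).obj N) ⟶ (ModSite.sectOn O U).obj ((rho φ).obj N) :=
  kernel.lift _ ((rho φ).map ((ModSite.sectOnι O' U).app N)) (comp_zero' φ U N)

theorem hom_ι (N : ModSite.Mod O') : hom φ U N ≫ (ModSite.sectOnι O U).app ((rho φ).obj N) =
    (rho φ).map ((ModSite.sectOnι O' U).app N) := kernel.lift_ι _ _ _

theorem isIso_hom (N : ModSite.Mod O') : IsIso (hom φ U N) := by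
  have h1 : Mono (hom φ U N) := by
    have h2 : Mono ((rho φ).map ((ModSite.sectOnι O' U).app N)) := by
      have := K787.QuotSect.mono_sectOnι O' U N
      infer_instance
    have h3 : Mono (hom φ U N ≫ (ModSite.sectOnι O U).app ((rho φ).obj N)) := by
      rw [hom_ι]; exact h2
    exact mono_of_mono _ ((ModSite.sectOnι O U).app ((rho φ).obj N))
  have h4 : Epi (hom φ U N) := by
    apply epi_of_exists
    intro V q
    obtain ⟨t, ht⟩ : ∃ t : ModSite.sect ((ModSite.sectOn O' U).obj N) V,
        ev ((ModSite.sectOnι O' U).app N) V t = ev ((ModSite.sectOnι O U).app ((rho φ).obj N)) V q :=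
      exists_sectOn U (N := N) (ev ((ModSite.sectOnι O U).app ((rho φ).obj N)) V q)
        (fun W f r => sectOn_zero U q f r)
    have h5 : ev (hom φ U N) V t = q := by
      have hm := K787.QuotSect.mono_sectOnι O U ((rho φ).obj N)
      rw [K787.Sections.mono_iff] at hm
      rw [← sub_eq_zero]
      apply hm V
      rw [map_sub, sub_eq_zero]
      exact (congrArg (fun (k : (rho φ).obj ((ModSite.sectOn O' U).obj N) ⟶ (rho φ).obj N) => ev k V t)
        (hom_ι φ U N)).trans ht
    refine ⟨⊤, J.top_mem V, fun W g _ => ⟨K787.Sections.rs _ g t, ?_⟩⟩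
    rw [ev_rs]
    exact congrArg _ h5
  exact isIso_of_mono_of_epi _

/-- Sections with support commute with restriction of scalars. -/
noncomputable def iso : ModSite.sectOn O' U ⋙ rho φ ≅ rho φ ⋙ ModSite.sectOn O U :=
  NatIso.ofComponents (fun N => @asIso _ _ _ _ (hom φ U N) (isIso_hom φ U N)) (by
    intro N N' f
    have hm := K787.QuotSect.mono_sectOnι O U ((rho φ).obj N')
    rw [← cancel_mono ((ModSite.sectOnι O U).app ((rho φ).obj N'))]
    have e1 := (ModSite.sectOnι O U).naturality ((rho φ).map f)
    have e2 := (ModSite.sectOnι O' U).naturality f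
    dsimp at e1 e2 ⊢
    rw [Category.assoc, Category.assoc, hom_ι, e1, ← Functor.map_comp, e2, Functor.map_comp, ← Category.assoc, hom_ι])

theorem main [HasInjectiveResolutions (ModSite.Mod O)] [HasInjectiveResolutions (ModSite.Mod O')] (q : ℕ) :
    Nonempty (ModSite.HZsh O' U q ⋙ rho φ ≅ rho φ ⋙ ModSite.HZsh O U q) := by
  have : PreservesFiniteLimits (ModSite.sectOn O U) := by
    have : PreservesLimits (ModSite.sectOn O U) := (K787.QuotSect.adj O U).rightAdjoint_preservesLimits
    infer_instance
  have : PreservesFiniteLimits (ModSite.sectOn O' U) := by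
    have : PreservesLimits (ModSite.sectOn O' U) := (K787.QuotSect.adj O' U).rightAdjoint_preservesLimits
    infer_instance
  have : (rho φ).Additive := inferInstance
  exact K292.DeltaExact.exists_iso (ModSite.sectOn O' U) (ModSite.sectOn O U) (rho φ) (rho φ) (iso φ U)
    (fun I _ n => isZero_HZsh U n _ (isTotallyAcyclic_injective I)) q

end K292.SectRes
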