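import Groth.Prelude.Def_ModSite2
import Mathlib.RingTheory.IsTensorProduct

/-!
# Skyscraper modules at a point of a ringed site

For a point `p` of a small ringed site and a module `Q` over the stalk `O_p`, the module
`sky p Q : Mod O` with sections `U ↦ (p.fiber U → Q)`, and the bijection
`(M ⟶ sky p Q) ≃ (M_p →ₗ[O_p] Q)` (`skyEquiv`).
-/

set_option autoImplicit false

universe u

open CategoryTheory CategoryTheory.Limits Opposite

namespace K292.Sky

variable {C : Type u} [SmallCategory C] {J : GrothendieckTopology C}
  (p : GrothendieckTopology.Point.{u} J) {O : Sheaf J CommRingCat.{u}}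

section Germs

variable {p} (F : ModSite.Mod O)

theorem exists_germ (a : ModSite.stalkAb p F) : ∃ (X : C) (x : p.fiber.obj X) (s : ModSite.sect F X),
    ModSite.germ p F X x s = a :=
  p.toPresheafFiber_jointly_surjective (P := (ModSite.toAb F).obj) a

theorem exists_germR (a : ModSite.stalkRing p O) : ∃ (X : C) (x : p.fiber.obj X)
    (s : O.obj.obj (op X)), ModSite.germRing (O := O) p X x s = a :=
  p.toPresheafFiber_jointly_surjective (P := O.obj) a

/-- The germ map on functions as a ring homomorphism. -/
noncomputable def gR (p : GrothendieckTopology.Point.{u} J) (O : Sheaf J CommRingCat.{u}) (X : C)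
    (x : p.fiber.obj X) : O.obj.obj (op X) →+* ModSite.stalkRing p O :=
  (p.toPresheafFiber X x O.obj).hom

theorem gR_apply (X : C) (x : p.fiber.obj X) (r : O.obj.obj (op X)) :
    ModSite.germRing (O := O) p X x r = gR p O X x r := rfl

theorem germ_res {X Y : C} (g : Y ⟶ X) (y : p.fiber.obj Y) (s : ModSite.sect F X) :
    ModSite.germ p F Y y ((F.val.map g.op).hom s) = ModSite.germ p F X (p.fiber.map g y) s :=
  p.toPresheafFiber_w_apply g y (ModSite.toAb F).obj s

theorem germR_res {X Y : C} (g : Y ⟶ X) (y : p.fiber.obj Y) (s : O.obj.obj (op X)) :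
    ModSite.germRing (O := O) p Y y (O.obj.map g.op s) =
      ModSite.germRing (O := O) p X (p.fiber.map g y) s :=
  p.toPresheafFiber_w_apply g y O.obj s

theorem germ_add {X : C} (x : p.fiber.obj X) (s t : ModSite.sect F X) :
    ModSite.germ p F X x (s + t) = ModSite.germ p F X x s + ModSite.germ p F X x t :=
  map_add (p.toPresheafFiber X x (ModSite.toAb F).obj).hom s t

/-- A pair (function, section) of germs comes from a common neighbourhood. -/
theorem exists_common (r : ModSite.stalkRing p O) (a : ModSite.stalkAb p F) :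
    ∃ (X : C) (x : p.fiber.obj X) (r' : O.obj.obj (op X)) (s : ModSite.sect F X),
      ModSite.germRing (O := O) p X x r' = r ∧ ModSite.germ p F X x s = a := by
  obtain ⟨X, x, r, rfl⟩ := exists_germR r
  obtain ⟨Y, y, s, rfl⟩ := exists_germ F a
  let W := IsCofiltered.min (Functor.elementsMk p.fiber X x) (Functor.elementsMk p.fiber Y y)
  let gX := IsCofiltered.minToLeft (Functor.elementsMk p.fiber X x) (Functor.elementsMk p.fiber Y y)
  let gY := IsCofiltered.minToRight (Functor.elementsMk p.fiber X x) (Functor.elementsMk p.fiber Y y)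
  refine ⟨W.1, W.2, O.obj.map gX.1.op r, (F.val.map gY.1.op).hom s, ?_, ?_⟩
  · rw [germR_res]
    exact congrArg (fun t => ModSite.germRing (O := O) p X t r) gX.2
  · rw [germ_res]
    exact congrArg (fun t => ModSite.germ p F Y t s) gY.2

end Germs

section Sky

variable (O) (Q : Type u) [AddCommGroup Q] [Module (ModSite.stalkRing p O) Q]

/-- Sections over `U` of the skyscraper module. -/
def Sec (_ : Sheaf J CommRingCat.{u}) (Q : Type u) (U : C) : Type u := p.fiber.obj U → Q

noncomputable instance (U : C) : AddCommGroup (Sec p O Q U) :=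
  inferInstanceAs (AddCommGroup (p.fiber.obj U → Q))

noncomputable instance (U : C) : Module (O.obj.obj (op U)) (Sec p O Q U) where
  smul r s := fun x => gR p O U x r • s x
  one_smul s := by
    funext h
    change gR p O U h 1 • s h = s h
    rw [map_one, one_smul]
  mul_smul r r' s := by
    funext h
    change gR p O U h (r * r') • s h = gR p O U h r • gR p O U h r' • s h
    rw [map_mul, mul_smul]
  smul_zero r := by
    funext h
    change gR p O U h r • (0 : Q) = 0
    rw [smul_zero]
  smul_add r s t := by
    funext h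
    change gR p O U h r • (s h + t h) = gR p O U h r • s h + gR p O U h r • t h
    rw [smul_add]
  add_smul r r' s := by
    funext h
    change gR p O U h (r + r') • s h = gR p O U h r • s h + gR p O U h r' • s h
    rw [map_add, add_smul]
  zero_smul s := by
    funext h
    change gR p O U h 0 • s h = 0
    rw [map_zero, zero_smul]

/-- The abelian presheaf underlying the skyscraper module. -/
noncomputable def skyAb : Cᵒᵖ ⥤ Ab.{u} where
  obj U := AddCommGrpCat.of (Sec p O Q U.unop)
  map {U V} i := AddCommGrpCat.ofHom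
    { toFun := fun s h => s (p.fiber.map i.unop h)
      map_zero' := rfl
      map_add' := fun _ _ => rfl }
  map_id U := by
    ext s
    refine (funext fun h => ?_ : (_ : Sec p O Q U.unop) = _)
    exact congrArg s (by simp : p.fiber.map (𝟙 U.unop) h = h)
  map_comp {U V W} f g := by
    ext s
    refine (funext fun h => ?_ : (_ : Sec p O Q W.unop) = _)
    exact congrArg s (by simp : p.fiber.map (g.unop ≫ f.unop) h = p.fiber.map f.unop (p.fiber.map g.unop h))

noncomputable instance (U : Cᵒᵖ) :
    Module ((ModSite.ringSh O).obj.obj U) ((skyAb p O Q).obj U) :=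
  inferInstanceAs (Module (O.obj.obj (op U.unop)) (Sec p O Q U.unop))

/-- The presheaf of modules. -/
noncomputable def skyPre : PresheafOfModules.{u} (ModSite.ringSh O).obj :=
  PresheafOfModules.ofPresheaf (skyAb p O Q) (by
    intro U V f r m
    funext h
    change ModSite.germRing (O := O) p U.unop (p.fiber.map f.unop h) r •
        (m : Sec p O Q U.unop) (p.fiber.map f.unop h) =
      ModSite.germRing (O := O) p V.unop h (O.obj.map f r) •
        (m : Sec p O Q U.unop) (p.fiber.map f.unop h)
    congr 1
    exact (germR_res f.unop h r).symm)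

omit [Module (ModSite.stalkRing p O) Q] in
theorem skyAb_isSheaf : Presheaf.IsSheaf J (skyAb p O Q) := by
  rw [Presheaf.isSheaf_iff_isSheaf_forget _ _ (forget AddCommGrpCat.{u}), isSheaf_iff_isSheaf_of_type]
  intro U S hS s hs
  -- well-definedness
  have key : ∀ {V V' : C} (g : V ⟶ U) (g' : V' ⟶ U) (hg : S g) (hg' : S g') (v : p.fiber.obj V)
      (v' : p.fiber.obj V'), p.fiber.map g v = p.fiber.map g' v' →
      (s g hg : Sec p O Q V) v = (s g' hg' : Sec p O Q V') v' := by
    intro V V' g g' hg hg' v v' e
    let a : p.fiber.elementsMk V v ⟶ p.fiber.elementsMk U (p.fiber.map g v) := ⟨g, rfl⟩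
    let b : p.fiber.elementsMk V' v' ⟶ p.fiber.elementsMk U (p.fiber.map g v) := ⟨g', e.symm⟩
    obtain ⟨W, h, h', e'⟩ := IsCofiltered.cospan a b
    have e1 : h.1 ≫ g = h'.1 ≫ g' := congrArg Subtype.val e'
    have e2 := hs h.1 h'.1 hg hg' e1
    have e3 := congrFun (e2 : (_ : Sec p O Q W.1) = _) W.2
    have e4 : p.fiber.map h.1 W.2 = v := h.2
    have e5 : p.fiber.map h'.1 W.2 = v' := h'.2
    rw [← e4, ← e5]
    exact e3
  choose V g hg v hv using fun x : p.fiber.obj U => p.jointly_surjective S hS x
  refine ⟨(fun x => (s (g x) (hg x) : Sec p O Q (V x)) (v x) : Sec p O Q U), ?_, ?_⟩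
  · intro V' g' hg'
    refine (funext fun x => ?_ : (_ : Sec p O Q V') = _)
    exact key _ _ _ _ _ _ (hv _)
  · intro t ht
    refine (funext fun x => ?_ : (_ : Sec p O Q U) = _)
    have e := congrFun (ht (g x) (hg x) : (_ : Sec p O Q _) = _) (v x)
    rw [← e]
    exact congrArg (t : Sec p O Q U) (hv x).symm

/-- The skyscraper module. -/
noncomputable def sky : ModSite.Mod O := ⟨skyPre p O Q, skyAb_isSheaf p O Q⟩

end Sky

section HomEquiv

variable {p} {Q : Type u} [AddCommGroup Q]

/-- Additive maps out of a stalk. -/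
noncomputable def stalkDesc (M : ModSite.Mod O)
    (φ : ∀ (U : C) (_ : p.fiber.obj U), ModSite.sect M U →+ Q)
    (hφ : ∀ (U V : C) (g : V ⟶ U) (y : p.fiber.obj V) (s : ModSite.sect M U),
      φ V y ((M.val.map g.op).hom s) = φ U (p.fiber.map g y) s) : ModSite.stalkAb p M →+ Q :=
  (p.presheafFiberDesc (A := AddCommGrpCat.{u}) (P := (ModSite.toAb M).obj)
    (T := AddCommGrpCat.of Q) (fun U x => AddCommGrpCat.ofHom (φ U x)) (fun V U g y => by
      ext s
      exact hφ U V g y s)).hom

theorem stalkDesc_germ (M : ModSite.Mod O)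
    (φ : ∀ (U : C) (_ : p.fiber.obj U), ModSite.sect M U →+ Q)
    (hφ : ∀ (U V : C) (g : V ⟶ U) (y : p.fiber.obj V) (s : ModSite.sect M U),
      φ V y ((M.val.map g.op).hom s) = φ U (p.fiber.map g y) s) (U : C) (x : p.fiber.obj U)
    (s : ModSite.sect M U) : stalkDesc M φ hφ (ModSite.germ p M U x s) = φ U x s :=
  ConcreteCategory.congr_hom (p.toPresheafFiber_presheafFiberDesc (A := AddCommGrpCat.{u})
    (P := (ModSite.toAb M).obj)
    (T := AddCommGrpCat.of Q) (fun U x => AddCommGrpCat.ofHom (φ U x)) (fun V U g y => by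
      ext s
      exact hφ U V g y s) U x) s

variable [Module (ModSite.stalkRing p O) Q]

theorem sky_smul_apply (U : C) (r : O.obj.obj (op U)) (s : Sec p O Q U) (x : p.fiber.obj U) :
    (r • s) x = gR p O U x r • s x := rfl

/-- The linear map out of the stalk given by a morphism to the skyscraper. -/
noncomputable def ofSky {M : ModSite.Mod O} (g : M ⟶ sky p O Q) :
    ModSite.stalkAb p M →ₗ[ModSite.stalkRing p O] Q where
  toFun := stalkDesc M (fun U x => (Pi.evalAddMonoidHom (fun _ : p.fiber.obj U => Q) x).comp
      ((g.val.app (op U)).hom.toAddMonoidHom : ModSite.sect M U →+ Sec p O Q U))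
    (fun U V i y s => congrFun
      (PresheafOfModules.naturality_apply g.val i.op s : (_ : Sec p O Q V) = _) y)
  map_add' := map_add _
  map_smul' r a := by
    obtain ⟨U, x, r, s, rfl, rfl⟩ := exists_common M r a
    rw [← ModSite.germ_smul]
    refine (stalkDesc_germ M _ _ U x _).trans ?_
    refine Eq.trans ?_ (congrArg (fun z => ModSite.germRing (O := O) p U x r • z)
      (stalkDesc_germ M _ _ U x s).symm)
    exact congrFun ((g.val.app (op U)).hom.map_smul r s : (_ : Sec p O Q U) = _) x

theorem ofSky_germ {M : ModSite.Mod O} (g : M ⟶ sky p O Q) (U : C) (x : p.fiber.obj U)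
    (s : ModSite.sect M U) :
    ofSky g (ModSite.germ p M U x s) = ((g.val.app (op U)).hom s : Sec p O Q U) x :=
  stalkDesc_germ M _ _ U x s

/-- The morphism to the skyscraper given by a linear map out of the stalk. -/
noncomputable def toSky {M : ModSite.Mod O}
    (g : ModSite.stalkAb p M →ₗ[ModSite.stalkRing p O] Q) : M ⟶ sky p O Q where
  val :=
  { app := fun U => ModuleCat.ofHom
      { toFun := fun s => (fun x => g (ModSite.germ p M U.unop x s) : Sec p O Q U.unop)
        map_add' := fun s t => by
          refine (funext fun x => ?_ : (_ : Sec p O Q U.unop) = _)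
          exact (congrArg g (germ_add M x s t)).trans (g.map_add _ _)
        map_smul' := fun r s => by
          refine (funext fun x => ?_ : (_ : Sec p O Q U.unop) = _)
          exact (congrArg g (ModSite.germ_smul p M U.unop x r s)).trans (g.map_smul _ _) }
    naturality := fun {U V} f => by
      ext s
      refine (funext fun x => ?_ : (_ : Sec p O Q V.unop) = _)
      exact congrArg g (germ_res M f.unop x s) }

theorem toSky_app_apply {M : ModSite.Mod O}
    (g : ModSite.stalkAb p M →ₗ[ModSite.stalkRing p O] Q) (U : C) (s : ModSite.sect M U)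
    (x : p.fiber.obj U) :
    (((toSky g).val.app (op U)).hom s : Sec p O Q U) x = g (ModSite.germ p M U x s) := rfl

theorem ofSky_toSky {M : ModSite.Mod O}
    (g : ModSite.stalkAb p M →ₗ[ModSite.stalkRing p O] Q) : ofSky (toSky g) = g := by
  refine LinearMap.ext fun t => ?_
  obtain ⟨U, x, s, rfl⟩ := exists_germ M t
  rw [ofSky_germ, toSky_app_apply]

theorem toSky_ofSky {M : ModSite.Mod O} (g : M ⟶ sky p O Q) : toSky (ofSky g) = g := by
  refine SheafOfModules.hom_ext ?_
  ext U s
  refine (funext fun x => ?_ : (_ : Sec p O Q U.unop) = _)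
  exact ofSky_germ g U.unop x s

/-- Morphisms to the skyscraper module are the linear maps out of the stalk. -/
noncomputable def skyEquiv (M : ModSite.Mod O) :
    (M ⟶ sky p O Q) ≃ (ModSite.stalkAb p M →ₗ[ModSite.stalkRing p O] Q) where
  toFun := ofSky
  invFun := toSky
  left_inv := toSky_ofSky
  right_inv := ofSky_toSky

end HomEquiv

end K292.Sky
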