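import Groth.Agent.ModSite.K292.Tm
import Groth.Agent.ModSite.K292.Sky
import Groth.Agent.ModSite.K295.Stalks

/-!
# The stalk of a tensor product of modules on a ringed site

`tS p a b : (M ⊗ N)_p`, `equivT p M N : M_p ⊗ N_p ≃ (M ⊗ N)_p`, naturality.
-/

set_option autoImplicit false

universe u

open CategoryTheory MonoidalCategory CategoryTheory.Limits Opposite

namespace K292.TensorStalk

open Groth.Agent.Dcoh K291.Mon K291.FreeOn K292.Tm K292.Sky

variable {C : Type u} [SmallCategory C] {J : GrothendieckTopology C}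
  (p : GrothendieckTopology.Point.{u} J) {O : Sheaf J CommRingCat.{u}}

section Basic

variable (F : ModSite.Mod O)

theorem germ_rs {X Y : C} (g : Y ⟶ X) (y : p.fiber.obj Y) (s : ModSite.sect F X) :
    ModSite.germ p F Y y (rs F g s) = ModSite.germ p F X (p.fiber.map g y) s :=
  p.toPresheafFiber_w_apply g y (ModSite.toAb F).obj s

theorem germ_rs' {X Y : C} (g : Y ⟶ X) (y : p.fiber.obj Y) (x : p.fiber.obj X)
    (h : p.fiber.map g y = x) (s : ModSite.sect F X) :
    ModSite.germ p F Y y (rs F g s) = ModSite.germ p F X x s := by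
  subst h
  exact germ_rs p F g y s

theorem germ_eq {X : C} {x : p.fiber.obj X} {r s : ModSite.sect F X}
    (h : ModSite.germ p F X x r = ModSite.germ p F X x s) :
    ∃ (Y : C) (g : Y ⟶ X) (y : p.fiber.obj Y), p.fiber.map g y = x ∧ rs F g r = rs F g s :=
  (p.toPresheafFiber_eq_iff' (P := (ModSite.toAb F).obj) X x r s).1 h

end Basic

variable {M N : ModSite.Mod O}

/-- Finitely many germs of sections of `M` and of `N` live on a common neighbourhood. -/
theorem exists_pair {n m : ℕ} (a : Fin n → ModSite.stalkAb p M) (b : Fin m → ModSite.stalkAb p N) :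
    ∃ (U : C) (x : p.fiber.obj U) (s : Fin n → ModSite.sect M U) (t : Fin m → ModSite.sect N U),
      (∀ i, ModSite.germ p M U x (s i) = a i) ∧ ∀ j, ModSite.germ p N U x (t j) = b j := by
  choose X x s hs using fun i => Sky.exists_germ M (a i)
  choose Y y t ht using fun i => Sky.exists_germ N (b i)
  obtain ⟨W, w, g, hg⟩ := K295.Stalks.common p (ι := Fin n ⊕ Fin m) (Sum.elim X Y)
    (fun i => match i with
      | Sum.inl i => x i
      | Sum.inr k => y k)
  refine ⟨W, w, fun i => rs M (g (Sum.inl i)) (s i), fun k => rs N (g (Sum.inr k)) (t k),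
    fun i => ?_, fun k => ?_⟩
  · rw [← hs i]
    exact germ_rs' p M _ w _ (hg (Sum.inl i)) _
  · rw [← ht k]
    exact germ_rs' p N _ w _ (hg (Sum.inr k)) _

theorem unique_aux {U : C} {x : p.fiber.obj U} {m m' : ModSite.sect M U}
    {n n' : ModSite.sect N U} (h : ModSite.germ p M U x m = ModSite.germ p M U x m')
    (h' : ModSite.germ p N U x n = ModSite.germ p N U x n') :
    ModSite.germ p (M ⊗ N) U x (tm m n) = ModSite.germ p (M ⊗ N) U x (tm m' n') := by
  obtain ⟨Y, g, y, hy, e⟩ := germ_eq p M h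
  obtain ⟨Y', g', y', hy', e'⟩ := germ_eq p N h'
  let a : p.fiber.elementsMk Y y ⟶ p.fiber.elementsMk U x := ⟨g, hy⟩
  let b : p.fiber.elementsMk Y' y' ⟶ p.fiber.elementsMk U x := ⟨g', hy'⟩
  obtain ⟨W, k, k', ek⟩ := IsCofiltered.cospan a b
  have e1 : k.1 ≫ g = k'.1 ≫ g' := congrArg Subtype.val ek
  have e2 : p.fiber.map (k.1 ≫ g) W.2 = x := (k ≫ a).2
  rw [← germ_rs' p (M ⊗ N) (k.1 ≫ g) W.2 x e2, ← germ_rs' p (M ⊗ N) (k.1 ≫ g) W.2 x e2, rs_tm,
    rs_tm]
  congr 2
  · rw [← rs_comp, ← rs_comp, e]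
  · rw [e1, ← rs_comp, ← rs_comp, e']

theorem unique_aux' {U U' : C} {x : p.fiber.obj U} {x' : p.fiber.obj U'} {m : ModSite.sect M U}
    {m' : ModSite.sect M U'} {n : ModSite.sect N U} {n' : ModSite.sect N U'}
    (h : ModSite.germ p M U x m = ModSite.germ p M U' x' m')
    (h' : ModSite.germ p N U x n = ModSite.germ p N U' x' n') :
    ModSite.germ p (M ⊗ N) U x (tm m n) = ModSite.germ p (M ⊗ N) U' x' (tm m' n') := by
  obtain ⟨W, w, g, g', h1, h2⟩ : ∃ (W : C) (w : p.fiber.obj W) (g : W ⟶ U) (g' : W ⟶ U'),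
      p.fiber.map g w = x ∧ p.fiber.map g' w = x' :=
    let W := IsCofiltered.min (Functor.elementsMk p.fiber U x) (Functor.elementsMk p.fiber U' x')
    let gX := IsCofiltered.minToLeft (Functor.elementsMk p.fiber U x)
      (Functor.elementsMk p.fiber U' x')
    let gY := IsCofiltered.minToRight (Functor.elementsMk p.fiber U x)
      (Functor.elementsMk p.fiber U' x')
    ⟨W.1, W.2, gX.1, gY.1, gX.2, gY.2⟩
  rw [← germ_rs' p (M ⊗ N) g w x h1, ← germ_rs' p (M ⊗ N) g' w x' h2, rs_tm, rs_tm]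
  apply unique_aux
  · rw [germ_rs' p M g w x h1, germ_rs' p M g' w x' h2, h]
  · rw [germ_rs' p N g w x h1, germ_rs' p N g' w x' h2, h']

theorem exists_tS (a : ModSite.stalkAb p M) (b : ModSite.stalkAb p N) :
    ∃ c : ModSite.stalkAb p (M ⊗ N), ∀ (U : C) (x : p.fiber.obj U) (m : ModSite.sect M U)
      (n : ModSite.sect N U), ModSite.germ p M U x m = a → ModSite.germ p N U x n = b →
        ModSite.germ p (M ⊗ N) U x (tm m n) = c := by
  obtain ⟨U, x, s, t, hs, ht⟩ := exists_pair p (M := M) (N := N) (fun _ : Fin 1 => a)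
    (fun _ : Fin 1 => b)
  refine ⟨ModSite.germ p (M ⊗ N) U x (tm (s 0) (t 0)), fun U' x' m n hm hn => ?_⟩
  exact unique_aux' p (hm.trans (hs 0).symm) (hn.trans (ht 0).symm)

/-- The tensor product of germs. -/
noncomputable def tS (a : ModSite.stalkAb p M) (b : ModSite.stalkAb p N) :
    ModSite.stalkAb p (M ⊗ N) := Classical.choose (exists_tS p a b)

theorem tS_germ {U : C} (x : p.fiber.obj U) (m : ModSite.sect M U) (n : ModSite.sect N U) :
    tS p (ModSite.germ p M U x m) (ModSite.germ p N U x n) =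
      ModSite.germ p (M ⊗ N) U x (tm m n) :=
  (Classical.choose_spec (exists_tS p (ModSite.germ p M U x m) (ModSite.germ p N U x n)) U x m n
    rfl rfl).symm

theorem tS_add_left (a a' : ModSite.stalkAb p M) (b : ModSite.stalkAb p N) :
    tS p (a + a') b = tS p a b + tS p a' b := by
  obtain ⟨U, x, s, t, hs, ht⟩ := exists_pair p (M := M) (N := N) ![a, a'] (fun _ : Fin 1 => b)
  have h0 : ModSite.germ p M U x (s 0) = a := hs 0
  have h1 : ModSite.germ p M U x (s 1) = a' := hs 1
  rw [← h0, ← h1, ← ht 0, ← Sky.germ_add, tS_germ, tS_germ, tS_germ, tm_add_left, Sky.germ_add]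

theorem tS_add_right (a : ModSite.stalkAb p M) (b b' : ModSite.stalkAb p N) :
    tS p a (b + b') = tS p a b + tS p a b' := by
  obtain ⟨U, x, s, t, hs, ht⟩ := exists_pair p (M := M) (N := N) (fun _ : Fin 1 => a) ![b, b']
  have h0 : ModSite.germ p N U x (t 0) = b := ht 0
  have h1 : ModSite.germ p N U x (t 1) = b' := ht 1
  rw [← h0, ← h1, ← hs 0, ← Sky.germ_add, tS_germ, tS_germ, tS_germ, tm_add_right, Sky.germ_add]

theorem exists_triple (r : ModSite.stalkRing p O) (a : ModSite.stalkAb p M)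
    (b : ModSite.stalkAb p N) : ∃ (U : C) (x : p.fiber.obj U) (r' : O.obj.obj (op U))
      (s : ModSite.sect M U) (t : ModSite.sect N U), ModSite.germRing (O := O) p U x r' = r ∧
        ModSite.germ p M U x s = a ∧ ModSite.germ p N U x t = b := by
  obtain ⟨U, x, s, t, hs, ht⟩ := exists_pair p (M := M) (N := N) (fun _ : Fin 1 => a)
    (fun _ : Fin 1 => b)
  obtain ⟨V, v, r', rfl⟩ := Sky.exists_germR r
  let W := IsCofiltered.min (Functor.elementsMk p.fiber U x) (Functor.elementsMk p.fiber V v)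
  let gX := IsCofiltered.minToLeft (Functor.elementsMk p.fiber U x) (Functor.elementsMk p.fiber V v)
  let gY := IsCofiltered.minToRight (Functor.elementsMk p.fiber U x) (Functor.elementsMk p.fiber V v)
  refine ⟨W.1, W.2, O.obj.map gY.1.op r', rs M gX.1 (s 0), rs N gX.1 (t 0), ?_, ?_, ?_⟩
  · rw [germR_res]
    exact congrArg (fun t => ModSite.germRing (O := O) p V t r') gY.2
  · rw [← hs 0]
    exact germ_rs' p M _ _ _ gX.2 _
  · rw [← ht 0]
    exact germ_rs' p N _ _ _ gX.2 _

theorem tS_smul_left (r : ModSite.stalkRing p O) (a : ModSite.stalkAb p M)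
    (b : ModSite.stalkAb p N) : tS p (r • a) b = r • tS p a b := by
  obtain ⟨U, x, r, s, t, rfl, rfl, rfl⟩ := exists_triple p r a b
  rw [← ModSite.germ_smul, tS_germ, tS_germ, ← ModSite.germ_smul]
  exact congrArg (ModSite.germ p (M ⊗ N) U x) (tm_smul_left _ _ _)

theorem tS_smul_right (r : ModSite.stalkRing p O) (a : ModSite.stalkAb p M)
    (b : ModSite.stalkAb p N) : tS p a (r • b) = r • tS p a b := by
  obtain ⟨U, x, r, s, t, rfl, rfl, rfl⟩ := exists_triple p r a b
  rw [← ModSite.germ_smul, tS_germ, tS_germ, ← ModSite.germ_smul]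
  exact congrArg (ModSite.germ p (M ⊗ N) U x) (tm_smul_right _ _ _)

open TensorProduct

variable (M N)

/-- The map `M_p ⊗ N_p → (M ⊗ N)_p`. -/
noncomputable def mapT : (ModSite.stalkAb p M ⊗[ModSite.stalkRing p O] ModSite.stalkAb p N)
    →ₗ[ModSite.stalkRing p O] ModSite.stalkAb p (M ⊗ N) :=
  TensorProduct.lift (LinearMap.mk₂ (ModSite.stalkRing p O) (tS p) (tS_add_left p) (tS_smul_left p)
    (tS_add_right p) (tS_smul_right p))

theorem mapT_tmul (a : ModSite.stalkAb p M) (b : ModSite.stalkAb p N) :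
    mapT p M N (a ⊗ₜ b) = tS p a b := rfl

/-- The bilinear family into the skyscraper module on `M_p ⊗ N_p`. -/
noncomputable def bilT : Bil M N
    (sky p O (ModSite.stalkAb p M ⊗[ModSite.stalkRing p O] ModSite.stalkAb p N)) where
  β U m n := (fun x => ModSite.germ p M U x m ⊗ₜ ModSite.germ p N U x n :
    Sec p O (ModSite.stalkAb p M ⊗[ModSite.stalkRing p O] ModSite.stalkAb p N) U)
  add_left U m m' n := by
    refine (funext fun x => ?_ : (_ : Sec p O _ U) = _)
    exact (congrArg (fun z => z ⊗ₜ[ModSite.stalkRing p O] ModSite.germ p N U x n)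
      (Sky.germ_add M x m m')).trans (TensorProduct.add_tmul _ _ _)
  add_right U m n n' := by
    refine (funext fun x => ?_ : (_ : Sec p O _ U) = _)
    exact (congrArg (fun z => ModSite.germ p M U x m ⊗ₜ[ModSite.stalkRing p O] z)
      (Sky.germ_add N x n n')).trans (TensorProduct.tmul_add _ _ _)
  smul_left U r m n := by
    refine (funext fun x => ?_ : (_ : Sec p O _ U) = _)
    exact (congrArg (fun z => z ⊗ₜ[ModSite.stalkRing p O] ModSite.germ p N U x n)
      (ModSite.germ_smul p M U x r m)).trans (TensorProduct.smul_tmul' _ _ _).symm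
  smul_right U r m n := by
    refine (funext fun x => ?_ : (_ : Sec p O _ U) = _)
    exact (congrArg (fun z => ModSite.germ p M U x m ⊗ₜ[ModSite.stalkRing p O] z)
      (ModSite.germ_smul p N U x r n)).trans (TensorProduct.tmul_smul _ _ _)
  res {U V} g m n := by
    refine (funext fun x => ?_ : (_ : Sec p O _ V) = _)
    exact (congrArg₂ (fun z w => z ⊗ₜ[ModSite.stalkRing p O] w) (germ_rs p M g x m)
      (germ_rs p N g x n)).symm

/-- The inverse map `(M ⊗ N)_p → M_p ⊗ N_p`. -/
noncomputable def invT : ModSite.stalkAb p (M ⊗ N) →ₗ[ModSite.stalkRing p O]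
    (ModSite.stalkAb p M ⊗[ModSite.stalkRing p O] ModSite.stalkAb p N) :=
  ofSky (bilT p M N).hom

theorem invT_germ {U : C} (x : p.fiber.obj U) (m : ModSite.sect M U) (n : ModSite.sect N U) :
    invT p M N (ModSite.germ p (M ⊗ N) U x (tm m n)) =
      ModSite.germ p M U x m ⊗ₜ ModSite.germ p N U x n := by
  refine (ofSky_germ _ U x _).trans ?_
  exact congrFun ((bilT p M N).hom_tm m n : (_ : Sec p O _ U) = _) x

theorem invT_mapT (z : ModSite.stalkAb p M ⊗[ModSite.stalkRing p O] ModSite.stalkAb p N) :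
    invT p M N (mapT p M N z) = z := by
  induction z using TensorProduct.induction_on with
  | zero => rw [map_zero, map_zero]
  | add a b ha hb => rw [map_add, map_add, ha, hb]
  | tmul a b =>
    obtain ⟨U, x, s, t, hs, ht⟩ := exists_pair p (M := M) (N := N) (fun _ : Fin 1 => a)
      (fun _ : Fin 1 => b)
    rw [mapT_tmul, ← hs 0, ← ht 0, tS_germ, invT_germ]

theorem hom_ext_stalk {Q : Type u} [AddCommGroup Q] [Module (ModSite.stalkRing p O) Q]
    (g g' : ModSite.stalkAb p (M ⊗ N) →ₗ[ModSite.stalkRing p O] Q)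
    (h : ∀ (U : C) (x : p.fiber.obj U) (m : ModSite.sect M U) (n : ModSite.sect N U),
      g (ModSite.germ p (M ⊗ N) U x (tm m n)) = g' (ModSite.germ p (M ⊗ N) U x (tm m n))) :
    g = g' := by
  have key : toSky g = toSky g' := by
    apply hom_ext_tm
    intro U m n
    refine (funext fun x => ?_ : (_ : Sec p O Q U) = _)
    exact h U x m n
  rw [← ofSky_toSky g, ← ofSky_toSky g', key]

theorem mapT_invT (z : ModSite.stalkAb p (M ⊗ N)) : mapT p M N (invT p M N z) = z := by
  have h : (mapT p M N).comp (invT p M N) = LinearMap.id := by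
    apply hom_ext_stalk
    intro U x m n
    rw [LinearMap.comp_apply, invT_germ, mapT_tmul, tS_germ, LinearMap.id_apply]
  exact LinearMap.congr_fun h z

/-- The stalk of a tensor product. -/
noncomputable def equivT : (ModSite.stalkAb p M ⊗[ModSite.stalkRing p O] ModSite.stalkAb p N)
    ≃ₗ[ModSite.stalkRing p O] ModSite.stalkAb p (M ⊗ N) :=
  { mapT p M N with
    invFun := invT p M N
    left_inv := invT_mapT p M N
    right_inv := mapT_invT p M N }

theorem equivT_tmul (a : ModSite.stalkAb p M) (b : ModSite.stalkAb p N) :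
    equivT p M N (a ⊗ₜ b) = tS p a b := rfl

variable {M N}

theorem stalkMap_germ' {F G : ModSite.Mod O} (φ : F ⟶ G) (U : C) (x : p.fiber.obj U)
    (s : ModSite.sect F U) : (ModSite.stalkMap p φ).hom (ModSite.germ p F U x s) =
      ModSite.germ p G U x (sc φ U s) :=
  p.toPresheafFiber_naturality_apply ((SheafOfModules.toSheaf (ModSite.ringSh O)).map φ).hom U x s

theorem stalkMap_tS {M' N' : ModSite.Mod O} (φ : M ⟶ M') (ψ : N ⟶ N')
    (a : ModSite.stalkAb p M) (b : ModSite.stalkAb p N) :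
    (ModSite.stalkMap p (φ ⊗ₘ ψ)).hom (tS p a b) =
      tS p ((ModSite.stalkMap p φ).hom a) ((ModSite.stalkMap p ψ).hom b) := by
  obtain ⟨U, x, s, t, hs, ht⟩ := exists_pair p (M := M) (N := N) (fun _ : Fin 1 => a)
      (fun _ : Fin 1 => b)
  rw [← hs 0, ← ht 0, tS_germ, stalkMap_germ', stalkMap_germ', stalkMap_germ', sc_tensorHom]
  exact (tS_germ p x _ _).symm

theorem stalkMap_equivT {M' N' : ModSite.Mod O} (φ : M ⟶ M') (ψ : N ⟶ N')
    (z : ModSite.stalkAb p M ⊗[ModSite.stalkRing p O] ModSite.stalkAb p N) :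
    (ModSite.stalkMap p (φ ⊗ₘ ψ)).hom (equivT p M N z) =
      equivT p M' N' (TensorProduct.map (ModSite.stalkMap p φ).hom (ModSite.stalkMap p ψ).hom z) := by
  induction z using TensorProduct.induction_on with
  | zero => rw [map_zero, map_zero, map_zero, map_zero]
  | add a b ha hb => rw [map_add, map_add, ha, hb, map_add, map_add]
  | tmul a b => exact stalkMap_tS p φ ψ a b

end K292.TensorStalk
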