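import Groth.Agent.ModSite.K291.Restr

/-!
# Pure tensors of sections of modules on a ringed site

`tm m n : (M ⊗ N)(U)` for `m ∈ M(U)`, `n ∈ N(U)`; morphisms out of `M ⊗ N` are determined by their
values on pure tensors (`hom_ext_tm`) and are given by natural families of bilinear maps (`mkHom`);
the behaviour of pure tensors under restriction, morphisms, symmetry, localisation.
-/

set_option autoImplicit false

open CategoryTheory MonoidalCategory Limits Opposite

universe u

namespace K292.Tm

open Groth.Agent.Dcoh K291.Mon K291.Colim K291.Flat K291.FreeOn K291.Restr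

variable {C : Type u} [SmallCategory C] {J : GrothendieckTopology C} {O : Sheaf J CommRingCat.{u}}

section Pre

/-- Pure tensors of presheaves of modules. -/
noncomputable def tp (A B : PM O) (U : C) (m : A.obj (op U)) (n : B.obj (op U)) :
    (A ⊗ B).obj (op U) :=
  TensorProduct.tmul (O.obj.obj (op U)) m n

theorem tp_res (A B : PM O) {U V : C} (f : V ⟶ U) (m : A.obj (op U)) (n : B.obj (op U)) :
    MonW.res (A ⊗ B) f.op (tp A B U m n) = tp A B V (MonW.res A f.op m) (MonW.res B f.op n) := rfl

theorem tp_map {A A' B B' : PM O} (f : A ⟶ A') (g : B ⟶ B') (U : C) (m : A.obj (op U))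
    (n : B.obj (op U)) : MonW.sec (f ⊗ₘ g) (op U) (tp A B U m n) =
      tp A' B' U (MonW.sec f (op U) m) (MonW.sec g (op U) n) := rfl

/-- A morphism out of a tensor product of presheaves is determined by its values on pure tensors. -/
theorem tp_ext {A B P : PM O} {a b : A ⊗ B ⟶ P}
    (h : ∀ (U : C) (m : A.obj (op U)) (n : B.obj (op U)),
      MonW.sec a (op U) (tp A B U m n) = MonW.sec b (op U) (tp A B U m n)) : a = b := by
  ext U x
  change MonW.sec a U x = MonW.sec b U x
  change TensorProduct (O.obj.obj U) (A.obj U) (B.obj U) at x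
  induction x using TensorProduct.induction_on with
  | zero => exact (map_zero (MonW.sec a U)).trans (map_zero (MonW.sec b U)).symm
  | tmul m n => exact h U.unop m n
  | add x y hx hy =>
    exact (map_add (MonW.sec a U) x y).trans ((congrArg₂ (· + ·) hx hy).trans
      (map_add (MonW.sec b U) x y).symm)

end Pre

/-- The pure tensor of two sections. -/
noncomputable def tm {M N : ModSite.Mod O} {U : C} (m : ModSite.sect M U) (n : ModSite.sect N U) :
    ModSite.sect (M ⊗ N) U :=
  MonW.sec ((shAdj O).unit.app ((toP O).obj M ⊗ (toP O).obj N)) (op U)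
    (tp ((toP O).obj M) ((toP O).obj N) U m n)

section

variable {M N P M' N' : ModSite.Mod O} {U V : C}

theorem tm_add_left (m m' : ModSite.sect M U) (n : ModSite.sect N U) :
    tm (m + m') n = tm m n + tm m' n :=
  (congrArg (MonW.sec ((shAdj O).unit.app ((toP O).obj M ⊗ (toP O).obj N)) (op U))
    (TensorProduct.add_tmul (R := O.obj.obj (op U)) (M := ((toP O).obj M).obj (op U))
      (N := ((toP O).obj N).obj (op U)) m m' n)).trans (map_add _ _ _)

theorem tm_add_right (m : ModSite.sect M U) (n n' : ModSite.sect N U) :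
    tm m (n + n') = tm m n + tm m n' :=
  (congrArg (MonW.sec ((shAdj O).unit.app ((toP O).obj M ⊗ (toP O).obj N)) (op U))
    (TensorProduct.tmul_add (R := O.obj.obj (op U)) (M := ((toP O).obj M).obj (op U))
      (N := ((toP O).obj N).obj (op U)) m n n')).trans (map_add _ _ _)

theorem tm_smul_left (r : Rg O U) (m : ModSite.sect M U) (n : ModSite.sect N U) :
    tm (r • m) n = r • tm m n :=
  (congrArg (MonW.sec ((shAdj O).unit.app ((toP O).obj M ⊗ (toP O).obj N)) (op U))
    (TensorProduct.smul_tmul' (R := O.obj.obj (op U)) (M := ((toP O).obj M).obj (op U))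
      (N := ((toP O).obj N).obj (op U)) (show O.obj.obj (op U) from r) m n).symm).trans
    (map_smul (MonW.sec ((shAdj O).unit.app ((toP O).obj M ⊗ (toP O).obj N)) (op U)) _ _)

theorem tm_smul_right (r : Rg O U) (m : ModSite.sect M U) (n : ModSite.sect N U) :
    tm m (r • n) = r • tm m n :=
  (congrArg (MonW.sec ((shAdj O).unit.app ((toP O).obj M ⊗ (toP O).obj N)) (op U))
    (TensorProduct.tmul_smul (R := O.obj.obj (op U)) (M := ((toP O).obj M).obj (op U))
      (N := ((toP O).obj N).obj (op U)) (show O.obj.obj (op U) from r) m n)).trans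
    (map_smul (MonW.sec ((shAdj O).unit.app ((toP O).obj M ⊗ (toP O).obj N)) (op U)) _ _)

/-- Pure tensors, additively in the first variable. -/
noncomputable def tmL (M : ModSite.Mod O) {N : ModSite.Mod O} (n : ModSite.sect N U) :
    ModSite.sect M U →+ ModSite.sect (M ⊗ N) U :=
  AddMonoidHom.mk' (fun m => tm m n) (fun m m' => tm_add_left m m' n)

/-- Pure tensors, additively in the second variable. -/
noncomputable def tmR {M : ModSite.Mod O} (N : ModSite.Mod O) (m : ModSite.sect M U) :
    ModSite.sect N U →+ ModSite.sect (M ⊗ N) U :=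
  AddMonoidHom.mk' (fun n => tm m n) (fun n n' => tm_add_right m n n')

theorem tm_sum_left {ι : Type*} (S : Finset ι) (m : ι → ModSite.sect M U) (n : ModSite.sect N U) :
    tm (∑ i ∈ S, m i) n = ∑ i ∈ S, tm (m i) n := map_sum (tmL M n) m S

theorem tm_sum_right {ι : Type*} (S : Finset ι) (m : ModSite.sect M U) (n : ι → ModSite.sect N U) :
    tm m (∑ i ∈ S, n i) = ∑ i ∈ S, tm m (n i) := map_sum (tmR N m) n S

theorem rs_tm (f : V ⟶ U) (m : ModSite.sect M U) (n : ModSite.sect N U) :
    rs (M ⊗ N) f (tm m n) = tm (rs M f m) (rs N f n) :=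
  (MonW.sec_res ((shAdj O).unit.app ((toP O).obj M ⊗ (toP O).obj N)) f.op
    (tp ((toP O).obj M) ((toP O).obj N) U m n)).symm

theorem sc_tensorHom (f : M ⟶ M') (g : N ⟶ N') (m : ModSite.sect M U) (n : ModSite.sect N U) :
    sc (f ⊗ₘ g) U (tm m n) = tm (sc f U m) (sc g U n) := by
  have h := (shAdj O).unit.naturality ((toP O).map f ⊗ₘ (toP O).map g)
  have h2 := congrArg (fun k => MonW.sec k (op U) (tp ((toP O).obj M) ((toP O).obj N) U m n)) h
  have h3 : f ⊗ₘ g = (shP O).map ((toP O).map f ⊗ₘ (toP O).map g) := by
    rw [MonoidalCategory.tensorHom_def, MonoidalCategory.tensorHom_def, Functor.map_comp]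
    rfl
  rw [h3]
  exact h2.symm

theorem sc_whiskerRight (f : M ⟶ M') (N : ModSite.Mod O) (m : ModSite.sect M U)
    (n : ModSite.sect N U) : sc (f ▷ N) U (tm m n) = tm (sc f U m) n := by
  rw [← MonoidalCategory.tensorHom_id, sc_tensorHom]
  rfl

theorem sc_whiskerLeft (M : ModSite.Mod O) (g : N ⟶ N') (m : ModSite.sect M U)
    (n : ModSite.sect N U) : sc (M ◁ g) U (tm m n) = tm m (sc g U n) := by
  rw [← MonoidalCategory.id_tensorHom, sc_tensorHom]
  rfl

/-- Morphisms out of a tensor product are determined by their values on pure tensors. -/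
theorem hom_ext_tm {a b : M ⊗ N ⟶ P}
    (h : ∀ (U : C) (m : ModSite.sect M U) (n : ModSite.sect N U),
      sc a U (tm m n) = sc b U (tm m n)) : a = b := by
  apply ((shAdj O).homEquiv ((toP O).obj M ⊗ (toP O).obj N) P).injective
  apply tp_ext
  intro U m n
  rw [Adjunction.homEquiv_unit, Adjunction.homEquiv_unit]
  exact h U m n

/-- A natural family of bilinear maps. -/
structure Bil (M N P : ModSite.Mod O) where
  /-- the maps -/
  β : ∀ U : C, ModSite.sect M U → ModSite.sect N U → ModSite.sect P U
  add_left : ∀ (U : C) (m m' : ModSite.sect M U) (n : ModSite.sect N U),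
    β U (m + m') n = β U m n + β U m' n
  add_right : ∀ (U : C) (m : ModSite.sect M U) (n n' : ModSite.sect N U),
    β U m (n + n') = β U m n + β U m n'
  smul_left : ∀ (U : C) (r : Rg O U) (m : ModSite.sect M U) (n : ModSite.sect N U),
    β U (r • m) n = r • β U m n
  smul_right : ∀ (U : C) (r : Rg O U) (m : ModSite.sect M U) (n : ModSite.sect N U),
    β U m (r • n) = r • β U m n
  res : ∀ {U V : C} (f : V ⟶ U) (m : ModSite.sect M U) (n : ModSite.sect N U),
    rs P f (β U m n) = β V (rs M f m) (rs N f n)

/-- The linear maps given by a natural family of bilinear maps. -/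
noncomputable def Bil.lin (B : Bil M N P) (U : Cᵒᵖ) :
    TensorProduct (O.obj.obj U) (((toP O).obj M).obj U) (((toP O).obj N).obj U) →ₗ[O.obj.obj U]
      (((toP O).obj P).obj U) :=
  TensorProduct.lift
    (LinearMap.mk₂ (O.obj.obj U) (fun m n => B.β U.unop m n)
      (fun m m' n => B.add_left U.unop m m' n) (fun r m n => B.smul_left U.unop r m n)
      (fun m n n' => B.add_right U.unop m n n') (fun r m n => B.smul_right U.unop r m n))

/-- The presheaf morphism given by a natural family of bilinear maps. -/
noncomputable def Bil.pre (B : Bil M N P) : (toP O).obj M ⊗ (toP O).obj N ⟶ (toP O).obj P where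
  app := fun U => ModuleCat.ofHom (R := O.obj.obj U)
    (X := ((toP O).obj M ⊗ (toP O).obj N).obj U) (Y := ((toP O).obj P).obj U) (B.lin U)
  naturality := fun {U V} f => by
    ext x
    change TensorProduct (O.obj.obj U) (((toP O).obj M).obj U) (((toP O).obj N).obj U) at x
    induction x using TensorProduct.induction_on with
    | zero => exact (map_zero _).trans (map_zero _).symm
    | tmul m n =>
      exact (B.res f.unop m n).symm
    | add x y hx hy =>
      exact (map_add _ x y).trans ((congrArg₂ (· + ·) hx hy).trans (map_add _ x y).symm)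

theorem Bil.pre_tp (B : Bil M N P) (m : ModSite.sect M U) (n : ModSite.sect N U) :
    MonW.sec B.pre (op U) (tp ((toP O).obj M) ((toP O).obj N) U m n) = B.β U m n := rfl

/-- The morphism out of a tensor product given by a natural family of bilinear maps. -/
noncomputable def Bil.hom (B : Bil M N P) : M ⊗ N ⟶ P :=
  ((shAdj O).homEquiv ((toP O).obj M ⊗ (toP O).obj N) P).symm B.pre

theorem Bil.hom_tm (B : Bil M N P) (m : ModSite.sect M U) (n : ModSite.sect N U) :
    sc B.hom U (tm m n) = B.β U m n := by
  have h : (shAdj O).homEquiv ((toP O).obj M ⊗ (toP O).obj N) P B.hom = B.pre :=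
    Equiv.apply_symm_apply _ _
  rw [Adjunction.homEquiv_unit] at h
  exact congrArg (fun k : (toP O).obj M ⊗ (toP O).obj N ⟶ (toP O).obj P =>
    MonW.sec k (op U) (tp ((toP O).obj M) ((toP O).obj N) U m n)) h

/-- The natural family of bilinear maps given by a morphism out of a tensor product. -/
noncomputable def bilOf (a : M ⊗ N ⟶ P) : Bil M N P where
  β U m n := sc a U (tm m n)
  add_left U m m' n := by rw [tm_add_left, map_add]
  add_right U m n n' := by rw [tm_add_right, map_add]
  smul_left U r m n := by rw [tm_smul_left, sc_smul]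
  smul_right U r m n := by rw [tm_smul_right, sc_smul]
  res f m n := by rw [← sc_rs, rs_tm]

end

end K292.Tm
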