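import Groth.Agent.ModSite.K292.Tm
import Groth.Agent.ModSite.K291.Shriek

set_option autoImplicit false

open CategoryTheory MonoidalCategory Limits Opposite

universe u

namespace K292.TmR

open Groth.Agent.Dcoh K291.Mon K291.Colim K291.Flat K291.FreeOn K291.Restr K292.Tm

variable {C : Type u} [SmallCategory C] {J : GrothendieckTopology C} {O : Sheaf J CommRingCat.{u}}

section Braid

variable {M N : ModSite.Mod O} {U : C}

theorem sc_braiding (m : ModSite.sect M U) (n : ModSite.sect N U) :
    sc (β_ M N).hom U (tm m n) = tm n m := by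
  have h := (shAdj O).unit.naturality (β_ ((toP O).obj M) ((toP O).obj N)).hom
  have h2 := congrArg (fun k => MonW.sec k (op U) (tp ((toP O).obj M) ((toP O).obj N) U m n)) h
  exact h2.symm

end Braid

section Assoc

open Functor.OplaxMonoidal

/-- The section of the sheafification given by a section of a presheaf of modules. -/
noncomputable def et (P : PM O) (U : C) (x : P.obj (op U)) : ModSite.sect ((shP O).obj P) U :=
  MonW.sec ((shAdj O).unit.app P) (op U) x

theorem sc_shP_map {P Q : PM O} (f : P ⟶ Q) (U : C) (x : P.obj (op U)) :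
    sc ((shP O).map f) U (et P U x) = et Q U (MonW.sec f (op U) x) := by
  have h := (shAdj O).unit.naturality f
  exact (congrArg (fun k => MonW.sec k (op U) x) h).symm

/-- The counit. -/
noncomputable def cou (M : ModSite.Mod O) : (shP O).obj ((toP O).obj M) ⟶ M :=
  (shAdj O).counit.app M

/-- A section as a section of the sheafification. -/
noncomputable def es {M : ModSite.Mod O} {U : C} (m : ModSite.sect M U) :
    ModSite.sect ((shP O).obj ((toP O).obj M)) U := et ((toP O).obj M) U m

theorem sc_counit (M : ModSite.Mod O) {U : C} (m : ModSite.sect M U) :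
    sc (cou M) U (es m) = m := by
  have h := (shAdj O).right_triangle_components M
  exact congrArg (fun k => MonW.sec k (op U) m) h

theorem tm_eq {M N : ModSite.Mod O} {U : C} (m : ModSite.sect M U) (n : ModSite.sect N U) :
    tm m n = et _ U (tp ((toP O).obj M) ((toP O).obj N) U m n) := rfl

theorem sc_δ (P Q : PM O) (U : C) (x : P.obj (op U)) (y : Q.obj (op U)) :
    sc (δ (shP O) P Q) U (et (P ⊗ Q) U (tp P Q U x y)) = tm (et P U x) (et Q U y) :=
  sc_shP_map ((shAdj O).unit.app P ⊗ₘ (shAdj O).unit.app Q) U (tp P Q U x y)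

theorem sc_assoc' (P Q S : PM O) (U : C) (x : P.obj (op U)) (y : Q.obj (op U))
    (z : S.obj (op U)) :
    sc (α_ ((shP O).obj P) ((shP O).obj Q) ((shP O).obj S)).hom U
      (tm (tm (et P U x) (et Q U y)) (et S U z)) =
      tm (et P U x) (tm (et Q U y) (et S U z)) := by
  have h := congrArg (fun k => sc k U (et ((P ⊗ Q) ⊗ S) U (tp (P ⊗ Q) S U (tp P Q U x y) z)))
    (Functor.OplaxMonoidal.associativity (F := shP O) P Q S)
  simp only [sc_comp] at h
  rw [sc_δ, sc_whiskerRight, sc_δ, sc_shP_map] at h
  refine h.trans ?_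
  refine (congrArg (fun t => sc ((shP O).obj P ◁ δ (shP O) Q S) U t)
    (sc_δ P (Q ⊗ S) U x (tp Q S U y z))).trans ?_
  rw [sc_whiskerLeft, sc_δ]

/-- The associator on pure tensors. -/
theorem sc_assoc {M N P : ModSite.Mod O} {U : C} (m : ModSite.sect M U) (n : ModSite.sect N U)
    (p : ModSite.sect P U) : sc (α_ M N P).hom U (tm (tm m n) p) = tm m (tm n p) := by
  have h := congrArg (fun k => sc k U (tm (tm (es m) (es n)) (es p)))
    (MonoidalCategory.associator_naturality (cou M) (cou N) (cou P))
  simp only [sc_comp] at h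
  rw [sc_tensorHom, sc_tensorHom, sc_counit, sc_counit, sc_counit] at h
  refine h.trans ((congrArg (sc (cou M ⊗ₘ cou N ⊗ₘ cou P) U) (sc_assoc' _ _ _ U m n p)).trans ?_)
  refine (sc_tensorHom (cou M) (cou N ⊗ₘ cou P) (es m) (tm (es n) (es p))).trans ?_
  rw [sc_tensorHom, sc_counit, sc_counit, sc_counit]

theorem sc_assoc_inv {M N P : ModSite.Mod O} {U : C} (m : ModSite.sect M U)
    (n : ModSite.sect N U) (p : ModSite.sect P U) :
    sc (α_ M N P).inv U (tm m (tm n p)) = tm (tm m n) p := by
  rw [← sc_assoc, ← sc_comp, Iso.hom_inv_id, sc_id]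

/-- A function as a section of the unit. -/
noncomputable def un (O : Sheaf J CommRingCat.{u}) {U : C} (r : Rg O U) :
    ModSite.sect (𝟙_ (ModSite.Mod O)) U := r

theorem sc_η {U : C} (r : Rg O U) :
    sc (η (shP O)) U (et (𝟙_ (PM O)) U r) = un O r :=
  sc_counit (ModSite.unit O) r

theorem sc_leftUnitor {M : ModSite.Mod O} {U : C} (r : Rg O U) (m : ModSite.sect M U) :
    sc (λ_ M).hom U (tm (un O r) m) = r • m := by
  have h1 := congrArg (fun k => sc k U (et (𝟙_ (PM O) ⊗ (toP O).obj M) U
    (tp (𝟙_ (PM O)) ((toP O).obj M) U r m)))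
    (Functor.OplaxMonoidal.left_unitality_hom (F := shP O) ((toP O).obj M))
  simp only [sc_comp] at h1
  rw [sc_δ, sc_whiskerRight, sc_η, sc_shP_map] at h1
  have h2 := congrArg (fun k => sc k U (tm (un O r) (es m)))
    (MonoidalCategory.leftUnitor_naturality (cou M))
  simp only [sc_comp] at h2
  rw [sc_whiskerLeft, sc_counit] at h2
  refine h2.trans ((congrArg (sc (cou M) U) h1).trans ?_)
  refine Eq.trans ?_ (congrArg (r • ·) (sc_counit M m))
  rw [← sc_smul]
  congr 1
  exact map_smul (MonW.sec ((shAdj O).unit.app ((toP O).obj M)) (op U)) _ _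

end Assoc

section Over

variable (X : C)

/-- A section of the restriction to `C/X`. -/
noncomputable abbrev so {M : ModSite.Mod O} {X : C} (Y : Over X) (m : ModSite.sect M Y.left) :
    ModSite.sect ((ModSite.restr O X).obj M) Y := m

variable (M N : ModSite.Mod O)

/-- The comparison morphism of presheaves. -/
noncomputable def kpre : (toP (O.over X)).obj ((ModSite.restr O X).obj M) ⊗
      (toP (O.over X)).obj ((ModSite.restr O X).obj N) ⟶
    (toP (O.over X)).obj ((ModSite.restr O X).obj (M ⊗ N)) :=
  letI := braidedPreR O X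
  Functor.LaxMonoidal.μ (preR O X) ((toP O).obj M) ((toP O).obj N) ≫
    (preR O X).map ((shAdj O).unit.app ((toP O).obj M ⊗ (toP O).obj N))

theorem kpre_tp (Y : Over X) (m : ModSite.sect M Y.left) (n : ModSite.sect N Y.left) :
    MonW.sec (kpre X M N) (op Y) (tp ((toP (O.over X)).obj ((ModSite.restr O X).obj M))
      ((toP (O.over X)).obj ((ModSite.restr O X).obj N)) Y m n) = (tm m n : ModSite.sect (M ⊗ N) Y.left) := by
  let := braidedPreR O X
  exact congrArg (fun z => MonW.sec ((shAdj O).unit.app ((toP O).obj M ⊗ (toP O).obj N)) (op Y.left) z)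
    (K291.Shriek.μ_preR (X := X) ((toP O).obj M) ((toP O).obj N) (op Y) m n)

theorem WO_kpre : WO (O.over X) (kpre X M N) := by
  let := braidedPreR O X
  refine (WO (O.over X)).comp_mem _ _ ?_ (WO_preR X (WO_unit O _))
  rw [WO_iff]
  exact (inferInstance : IsIso ((shP (O.over X)).map
    (Functor.Monoidal.μIso (preR O X) ((toP O).obj M) ((toP O).obj N)).hom))

/-- The comparison `M|_X ⊗ N|_X ⟶ (M ⊗ N)|_X`. -/
noncomputable def kap : (ModSite.restr O X).obj M ⊗ (ModSite.restr O X).obj N ⟶
    (ModSite.restr O X).obj (M ⊗ N) :=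
  ((shAdj (O.over X)).homEquiv _ _).symm (kpre X M N)

theorem sc_kap (Y : Over X) (m : ModSite.sect M Y.left) (n : ModSite.sect N Y.left) :
    sc (kap X M N) Y (tm (so Y m) (so Y n)) = so Y (tm m n) := by
  have h : (shAdj (O.over X)).homEquiv _ _ (kap X M N) = kpre X M N :=
    Equiv.apply_symm_apply _ _
  rw [Adjunction.homEquiv_unit] at h
  refine (congrArg (fun k : (toP (O.over X)).obj ((ModSite.restr O X).obj M) ⊗
      (toP (O.over X)).obj ((ModSite.restr O X).obj N) ⟶
    (toP (O.over X)).obj ((ModSite.restr O X).obj (M ⊗ N)) =>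
    MonW.sec k (op Y) (tp ((toP (O.over X)).obj ((ModSite.restr O X).obj M))
      ((toP (O.over X)).obj ((ModSite.restr O X).obj N)) Y m n)) h).trans ?_
  exact kpre_tp X M N Y m n

instance isIso_kap : IsIso (kap X M N) := by
  have h := (WO_iff (O.over X) _).1 (WO_kpre X M N)
  rw [kap, Adjunction.homEquiv_counit]
  infer_instance

end Over

end K292.TmR
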